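import Mathlib

/-!
Simplicity criteria for small multiply transitive permutation groups.
-/

set_option autoImplicit false

namespace CfsgLib.Mathieu

variable {α : Type*} {K : Subgroup (Equiv.Perm α)} {S : Finset α}

/-- A nontrivial normal subgroup of a group doubly transitive on `S` is transitive on `S`. -/
theorem normal_transitive_on (hinv : ∀ g ∈ K, ∀ x ∈ S, g x ∈ S)
    (hfaith : ∀ g ∈ K, (∀ x ∈ S, g x = x) → g = 1)
    (h2 : ∀ a ∈ S, ∀ b ∈ S, ∀ c ∈ S, ∀ d ∈ S, a ≠ b → c ≠ d → ∃ g ∈ K, g a = c ∧ g b = d)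
    {N : Subgroup K} (hN : N.Normal) (hne : N ≠ ⊥) {a b : α} (ha : a ∈ S) (hb : b ∈ S) :
    ∃ m ∈ N, (m : Equiv.Perm α) a = b := by
  by_cases hab : a = b
  · exact ⟨1, one_mem N, hab⟩
  obtain ⟨m, hm, hm1⟩ := (Subgroup.bot_or_exists_ne_one N).resolve_left hne
  obtain ⟨a', ha', hma⟩ : ∃ a' ∈ S, (m : Equiv.Perm α) a' ≠ a' := by
    by_contra h
    push Not at h
    exact hm1 (Subtype.ext (hfaith _ m.2 h))
  obtain ⟨g, hg, hga, hgb⟩ := h2 a' ha' _ (hinv _ m.2 _ ha') a ha b hb (Ne.symm hma) hab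
  refine ⟨⟨g, hg⟩ * m * ⟨g, hg⟩⁻¹, hN.conj_mem m hm _, ?_⟩
  show g ((m : Equiv.Perm α) (g⁻¹ a)) = b
  rw [show g⁻¹ a = a' from (Equiv.symm_apply_eq g).2 hga.symm, hgb]

/-- The number of points of a transitively moved set times the stabiliser order. -/
theorem card_mul_stabilizer [Finite α] (hinv : ∀ g ∈ K, ∀ x ∈ S, g x ∈ S) {N : Subgroup K}
    {a : α} (ha : a ∈ S) (htr : ∀ b ∈ S, ∃ m ∈ N, (m : Equiv.Perm α) a = b) :
    S.card * Nat.card (MulAction.stabilizer N a) = Nat.card N := by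
  have horb : MulAction.orbit N a = (S : Set α) := by
    ext x
    constructor
    · rintro ⟨m, rfl⟩; exact hinv _ m.1.2 _ ha
    · intro hx; obtain ⟨m, hm, h⟩ := htr x hx; exact ⟨⟨m, hm⟩, h⟩
  have h := MulAction.index_stabilizer N a
  rw [horb, Set.ncard_coe_finset] at h
  rw [← h, Subgroup.index_mul_card]

/-- If a prime `p` divides the degree but `p ^ 2` does not divide the order, then simplicity follows
as soon as `K` is the normal closure of an element of order `p`. -/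
theorem isSimpleGroup_of_normalClosure [Finite α] (hinv : ∀ g ∈ K, ∀ x ∈ S, g x ∈ S)
    (hfaith : ∀ g ∈ K, (∀ x ∈ S, g x = x) → g = 1)
    (h2 : ∀ a ∈ S, ∀ b ∈ S, ∀ c ∈ S, ∀ d ∈ S, a ≠ b → c ≠ d → ∃ g ∈ K, g a = c ∧ g b = d)
    {p : ℕ} (hp : p.Prime) (hpS : p ∣ S.card) (hne : S.Nonempty) (hp2 : ¬ p ^ 2 ∣ Nat.card K)
    {σ : Equiv.Perm α} (hσ : σ ∈ K) (hord : orderOf σ = p)
    (hgen : ∀ N : Subgroup (Equiv.Perm α), (∀ g ∈ K, ∀ m ∈ N, g * m * g⁻¹ ∈ N) → σ ∈ N → K ≤ N) :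
    IsSimpleGroup K := by
  have hσ1 : (⟨σ, hσ⟩ : K) ≠ 1 := fun h => by
    have : σ = 1 := congrArg Subtype.val h
    rw [this, orderOf_one] at hord; exact hp.one_lt.ne hord
  have : Nontrivial K := ⟨⟨_, 1, hσ1⟩⟩
  refine ⟨fun N hN => or_iff_not_imp_left.2 fun hN1 => ?_⟩
  have := Fact.mk hp
  obtain ⟨a, ha⟩ := hne
  have hdvd : p ∣ Nat.card N := hpS.trans (Dvd.intro _
    (card_mul_stabilizer hinv ha fun b hb => normal_transitive_on hinv hfaith h2 hN hN1 ha hb))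
  obtain ⟨y, hy⟩ := exists_prime_orderOf_dvd_card' p hdvd
  have hfact : p ^ (Nat.card K).factorization p = p := by
    have h1 : p ∣ Nat.card K := hdvd.trans (Subgroup.card_subgroup_dvd_card N)
    have h3 : 1 ≤ (Nat.card K).factorization p :=
      (hp.dvd_iff_one_le_factorization Nat.card_pos.ne').1 h1
    have h4 : ¬ 2 ≤ (Nat.card K).factorization p := fun h =>
      hp2 ((hp.pow_dvd_iff_le_factorization Nat.card_pos.ne').2 h)
    rw [show (Nat.card K).factorization p = 1 by omega, pow_one]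
  have hy' : orderOf (y : K) = p := by rw [Subgroup.orderOf_coe]; exact hy
  have hs' : orderOf (⟨σ, hσ⟩ : K) = p := by rw [Subgroup.orderOf_mk]; exact hord
  let P : Sylow p K := Sylow.ofCard (Subgroup.zpowers (y : K))
    (by rw [Nat.card_zpowers, hy', hfact])
  let Q : Sylow p K := Sylow.ofCard (Subgroup.zpowers (⟨σ, hσ⟩ : K))
    (by rw [Nat.card_zpowers, hs', hfact])
  obtain ⟨g, hg⟩ := MulAction.exists_smul_eq K P Q
  have hmem : (⟨σ, hσ⟩ : K) ∈ (Q : Subgroup K) := Subgroup.mem_zpowers _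
  rw [← hg, Sylow.coe_subgroup_smul] at hmem
  obtain ⟨z, hz, hzσ⟩ := hmem
  have hzN : z ∈ N := (Subgroup.zpowers_le.2 y.2) hz
  have hσN : (⟨σ, hσ⟩ : K) ∈ N := by
    rw [← hzσ]
    exact hN.conj_mem z hzN g
  refine (Subgroup.eq_top_iff' N).2 fun k => ?_
  have := hgen (N.map K.subtype) (fun g hg m hm => ?_) ⟨_, hσN, rfl⟩ k.2
  · obtain ⟨k', hk', e⟩ := this
    rwa [← Subtype.ext e]
  · obtain ⟨m', hm', rfl⟩ := hm
    exact ⟨_, hN.conj_mem m' hm' ⟨g, hg⟩, rfl⟩

/-- Transitive extension: a doubly transitive group with simple point stabiliser is simple if two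
different primes divide the degree. -/
theorem isSimpleGroup_of_extension [Finite α] (hinv : ∀ g ∈ K, ∀ x ∈ S, g x ∈ S)
    (hfaith : ∀ g ∈ K, (∀ x ∈ S, g x = x) → g = 1)
    (h2 : ∀ a ∈ S, ∀ b ∈ S, ∀ c ∈ S, ∀ d ∈ S, a ≠ b → c ≠ d → ∃ g ∈ K, g a = c ∧ g b = d)
    {a : α} (ha : a ∈ S) (hsimp : IsSimpleGroup (MulAction.stabilizer K a))
    {p q : ℕ} (hp : p.Prime) (hq : q.Prime) (hpq : p ≠ q) (hpS : p ∣ S.card) (hqS : q ∣ S.card) :
    IsSimpleGroup K := by
  have : Nontrivial K := by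
    have := hsimp.toNontrivial
    exact Function.Injective.nontrivial (Subtype.val_injective (p := (· ∈ MulAction.stabilizer K a)))
  refine ⟨fun N hN => or_iff_not_imp_left.2 fun hN1 => ?_⟩
  have htr : ∀ b ∈ S, ∀ c ∈ S, ∃ m ∈ N, (m : Equiv.Perm α) b = c :=
    fun b hb c hc => normal_transitive_on hinv hfaith h2 hN hN1 hb hc
  have := hsimp
  rcases IsSimpleGroup.eq_bot_or_eq_top_of_normal (N.subgroupOf (MulAction.stabilizer K a))
    inferInstance with h | h
  · exfalso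
    have hsemi : ∀ m ∈ N, (m : Equiv.Perm α) a = a → m = 1 := by
      intro m hm hma
      have hmem : (⟨m, hma⟩ : MulAction.stabilizer K a) ∈ N.subgroupOf (MulAction.stabilizer K a) := hm
      rw [h, Subgroup.mem_bot] at hmem
      exact congrArg Subtype.val hmem
    have hcard : Nat.card N = S.card := by
      have := card_mul_stabilizer hinv ha (htr a ha)
      have hbot : MulAction.stabilizer N a = ⊥ := (Subgroup.eq_bot_iff_forall _).2 fun m hm =>
        Subtype.ext (hsemi _ m.2 hm)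
      rw [hbot, Subgroup.card_bot, mul_one] at this
      exact this.symm
    have := Fact.mk hp
    have := Fact.mk hq
    obtain ⟨y, hy⟩ := exists_prime_orderOf_dvd_card' p (hcard ▸ hpS : p ∣ Nat.card N)
    obtain ⟨z, hz⟩ := exists_prime_orderOf_dvd_card' q (hcard ▸ hqS : q ∣ Nat.card N)
    have hy1 : (y : K) ≠ 1 := fun e => by
      have : y = 1 := Subtype.ext e
      rw [this, orderOf_one] at hy; exact hp.one_lt.ne hy
    have hz1 : (z : K) ≠ 1 := fun e => by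
      have : z = 1 := Subtype.ext e
      rw [this, orderOf_one] at hz; exact hq.one_lt.ne hz
    have hya : ((y : K) : Equiv.Perm α) a ≠ a := fun e => hy1 (hsemi _ y.2 e)
    have hza : ((z : K) : Equiv.Perm α) a ≠ a := fun e => hz1 (hsemi _ z.2 e)
    obtain ⟨g, hg, hga, hgy⟩ := h2 a ha _ (hinv _ (y : K).2 _ ha) a ha _ (hinv _ (z : K).2 _ ha)
      (Ne.symm hya) (Ne.symm hza)
    have hgi : g⁻¹ a = a := (Equiv.symm_apply_eq g).2 hga.symm
    have hconj : (⟨g, hg⟩ : K) * y * ⟨g, hg⟩⁻¹ = z := by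
      have hm : (z : K)⁻¹ * (⟨g, hg⟩ * y * ⟨g, hg⟩⁻¹) ∈ N :=
        mul_mem (inv_mem z.2) (hN.conj_mem _ y.2 _)
      refine (inv_mul_eq_one.1 (hsemi _ hm ?_)).symm
      show ((z : K) : Equiv.Perm α)⁻¹ (g (((y : K) : Equiv.Perm α) (g⁻¹ a))) = a
      rw [hgi, hgy]
      exact Equiv.symm_apply_apply _ a
    apply hpq
    have ho := congrArg orderOf hconj
    have e : orderOf ((⟨g, hg⟩ : K) * (y : K) * ⟨g, hg⟩⁻¹) = orderOf (y : K) :=
      orderOf_injective (MulAut.conj (⟨g, hg⟩ : K)).toMonoidHom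
        (MulAut.conj (⟨g, hg⟩ : K)).injective _
    rw [e, Subgroup.orderOf_coe, Subgroup.orderOf_coe, hy, hz] at ho
    exact ho
  · refine (Subgroup.eq_top_iff' N).2 fun k => ?_
    obtain ⟨m, hm, hma⟩ := htr a ha _ (hinv _ k.2 _ ha)
    have hs : m⁻¹ * k ∈ MulAction.stabilizer K a := by
      show ((m : Equiv.Perm α)⁻¹ * (k : Equiv.Perm α)) a = a
      exact (Equiv.symm_apply_eq _).2 hma.symm
    have hmem : (⟨_, hs⟩ : MulAction.stabilizer K a) ∈ N.subgroupOf (MulAction.stabilizer K a) := by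
      rw [h]; exact Subgroup.mem_top _
    simpa using mul_mem hm (show m⁻¹ * k ∈ N from hmem)

end CfsgLib.Mathieu
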