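import Cfsg.Agent.Mathieu.SmallOrders
import Cfsg.Agent.Mathieu.SimpleCriteria

/-!
Simplicity of the five Mathieu groups.
-/

set_option autoImplicit false

namespace CfsgLib.Mathieu

open Cfsg
open scoped Pointwise

/-- The certificate that a table `x` has normal closure containing a chain's strong generators. -/
def closureOK (x : ℕ) (inK : ℕ → Bool) (conjs : List (ℕ × ℕ)) (steps : List Step) (gens : List ℕ) :
    Bool :=
  conjs.all (fun gc => inK gc.1 &&
    allBelow 24 (fun i => app gc.2 (app gc.1 i) == app gc.1 (app x i))) &&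
  gens.all fun t => (slp 24 (x :: conjs.map Prod.snd) steps).contains t

theorem inGroup_of_closureOK {K N : Subgroup (Equiv.Perm GolayPt)} {inK : ℕ → Bool}
    (hK : ∀ t, inK t = true → InGroup enc K t)
    (hnorm : ∀ g ∈ K, ∀ m ∈ N, g * m * g⁻¹ ∈ N) {x : ℕ} (hx : InGroup enc N x)
    {conjs : List (ℕ × ℕ)} {steps : List Step} {gens : List ℕ}
    (h : closureOK x inK conjs steps gens = true) : ∀ t ∈ gens, InGroup enc N t := by
  simp only [closureOK, Bool.and_eq_true, List.all_eq_true] at h
  obtain ⟨hc, hg⟩ := h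
  intro t ht
  refine inGroup_slp enc steps (x :: conjs.map Prod.snd) ?_ t (List.contains_iff_mem.1 (hg t ht))
  intro s hs
  rcases List.mem_cons.1 hs with rfl | hs
  · exact hx
  obtain ⟨gc, hgc, rfl⟩ := List.mem_map.1 hs
  obtain ⟨h1, h2⟩ := hc gc hgc
  exact InGroup.conj hnorm (hK _ h1) hx h2

/-- Certified order of a table, for prime orders. -/
theorem orderOf_of_table {σ : Equiv.Perm GolayPt} {t p : ℕ} (hp : p.Prime) (r : Rep enc σ t)
    (h : allBelow 24 (fun i => Nat.iterate (app t) p i == i) = true) (hne : σ ≠ 1) :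
    orderOf σ = p := by
  have := Fact.mk hp
  refine orderOf_eq_prime (Equiv.ext fun x => ?_) hne
  have h1 : ∀ k x, Nat.iterate (app t) k (idx x) = idx ((σ ^ k) x) := by
    intro k
    induction k with
    | zero => intro x; rfl
    | succ k ih =>
      intro x
      rw [Function.iterate_succ_apply, show app t (idx x) = idx (σ x) from r x, ih, pow_succ]
      rfl
  have h2 := allBelow_iff.1 h _ (idx_lt x)
  rw [beq_iff_eq, h1] at h2
  exact idx_injective h2

theorem two_transitive_of_reach {K : Subgroup (Equiv.Perm GolayPt)} {Ω : Finset GolayPt}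
    {pre : List GolayPt} {H : Subgroup (Equiv.Perm GolayPt)} (hH : fixList H pre ≤ K)
    {b₁ b₂ : GolayPt} (h1 : ∀ q ∈ Ω, q ∉ pre → Reach H pre b₁ q)
    (h2 : ∀ q ∈ Ω, q ∉ pre ++ [b₁] → Reach H (pre ++ [b₁]) b₂ q)
    (hinv : ∀ g ∈ H, ∀ x ∈ Ω, g x ∈ Ω) (hpre : pre.Nodup) :
    ∀ a ∈ Ω, ∀ b ∈ Ω, ∀ c ∈ Ω, ∀ d ∈ Ω, a ∉ pre → b ∉ pre → c ∉ pre → d ∉ pre → a ≠ b → c ≠ d →
      ∃ g ∈ K, g a = c ∧ g b = d := by
  intro a ha b hb c hc d hd pa pb pc pd hab hcd
  obtain ⟨g, hg, hp, h⟩ := map_tuples (Ω := (Ω : Set GolayPt)) hinv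
    (bs := [b₁, b₂]) (pre := pre) ⟨h1, h2, trivial⟩ rfl ![a, b] ![c, d]
    (by intro i j; fin_cases i <;> fin_cases j <;> simp [hab, Ne.symm hab])
    (by intro i j; fin_cases i <;> fin_cases j <;> simp [hcd, Ne.symm hcd])
    (by intro i; fin_cases i <;> simp [ha, hb, pa, pb])
    (by intro i; fin_cases i <;> simp [hc, hd, pc, pd]) hpre
  exact ⟨g, hH ⟨hg, hp⟩, h 0, h 1⟩

theorem preserves_fixed_compl {g : Equiv.Perm GolayPt} {pre : List GolayPt}
    (hfix : ∀ x ∈ pre, g x = x) : ∀ x ∈ pre.toFinsetᶜ, g x ∈ pre.toFinsetᶜ := fun x hx => by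
  simp only [Finset.mem_compl, List.mem_toFinset] at hx ⊢
  exact fix_image_notMem hfix hx

theorem eq_one_of_fix_compl {g : Equiv.Perm GolayPt} {pre : List GolayPt}
    (hfix : ∀ x ∈ pre, g x = x) (h : ∀ x ∈ pre.toFinsetᶜ, g x = x) : g = 1 :=
  Equiv.ext fun x => if hx : x ∈ pre then hfix x hx else h x (by simpa using hx)

theorem simple_SporM23 : IsSimpleGroup Spor.M23 := by
  have hv : tableValid m23Elem = true := by decide +kernel
  obtain ⟨σ, rσ⟩ := exists_rep_of_valid hv
  have h24 : σ ∈ M24 := mem_M24_of_table rσ (by decide +kernel)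
  have hfix : σ none = none := rσ.apply_eq enc (by decide +kernel)
  have hmem : σ ∈ Spor.M23 := ⟨h24, hfix⟩
  have hne : σ ≠ 1 := fun e => by
    have := rσ (pt 0)
    rw [e] at this
    exact (by decide +kernel : app m23Elem (idx (pt 0)) ≠ idx (pt 0)) this
  obtain ⟨-, -, r1, -, r2, -⟩ := m24_chain
  rw [SporM23_eq] at *
  refine isSimpleGroup_of_normalClosure (S := [pt 23].toFinsetᶜ) (p := 23)
    (fun g hg => preserves_fixed_compl hg.2) (fun g hg => eq_one_of_fix_compl hg.2) ?_ (by norm_num)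
    (by decide +kernel) ⟨pt 0, by decide +kernel⟩ ?_ hmem
    (orderOf_of_table (by norm_num) rσ (by decide +kernel) hne) ?_
  · intro a ha b hb c hc d hd hab hcd
    simp only [Finset.mem_compl, List.mem_toFinset] at ha hb hc hd
    exact two_transitive_of_reach (K := fixList M24 [pt 23]) (H := m24Gen) (pre := [pt 23])
      (Ω := Finset.univ) (fun g hg => ⟨m24Gen_le hg.1, hg.2⟩)
      (fun q _ h => r1 q (Finset.mem_filter.2 ⟨Finset.mem_univ _, h⟩))
      (fun q _ h => r2 q (Finset.mem_filter.2 ⟨Finset.mem_univ _, h⟩))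
      (fun _ _ _ _ => Finset.mem_univ _) (List.nodup_singleton _)
      a (Finset.mem_univ _) b (Finset.mem_univ _) c (Finset.mem_univ _) d (Finset.mem_univ _)
      ha hb hc hd hab hcd
  · rw [← SporM23_eq, card_SporM23]; norm_num
  · intro N hnorm hσN
    have hinK : ∀ t, (tableValid t && preservesCode t && app t 23 == 23) = true →
        InGroup enc (fixList M24 [pt 23]) t := by
      intro t ht
      simp only [Bool.and_eq_true, beq_iff_eq] at ht
      obtain ⟨τ, rτ⟩ := exists_rep_of_valid ht.1.1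
      refine ⟨τ, ⟨mem_M24_of_table rτ ht.1.2, fun x hx => ?_⟩, rτ⟩
      rw [List.mem_singleton.1 hx]; exact rτ.apply_eq enc ht.2
    have hgens := inGroup_of_closureOK hinK hnorm (x := m23Elem) ⟨σ, hσN, rσ⟩
      (conjs := m23Conjs) (steps := m23Steps) (gens := m23Gens) (by decide +kernel)
    have ok : reachChainOK m23Gens (m24Levels.drop 1) [pt 23] m23Trees = true := by decide +kernel
    have hc : IsChain' (N ⊓ M24) M24 (m24Levels.drop 1) [pt 23] := by
      refine m24Levels_tail1.change _ _ (isReachChain_of_ok (fun t ht => ?_) _ _ _ ok)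
      obtain ⟨τ, hτ, rτ⟩ := hgens t ht
      have hpc : m23Gens.all preservesCode = true := by decide +kernel
      exact ⟨τ, ⟨hτ, mem_M24_of_table rτ (List.all_eq_true.1 hpc t ht)⟩, rτ⟩
    exact ((hc.spec inf_le_right _ _).1).trans inf_le_left

theorem simple_SporM22 : IsSimpleGroup Spor.M22 := by
  have hv : tableValid m22Elem = true := by decide +kernel
  obtain ⟨σ, rσ⟩ := exists_rep_of_valid hv
  have h24 : σ ∈ M24 := mem_M24_of_table rσ (by decide +kernel)
  have hfix : σ none = none := rσ.apply_eq enc (by decide +kernel)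
  have hmem : σ ∈ Spor.M22 := ⟨⟨h24, hfix⟩, rσ.apply_eq enc (by decide +kernel)⟩
  have hne : σ ≠ 1 := fun e => by
    have hex : (List.range 24).any (fun i => !(app m22Elem i == i)) = true := by decide +kernel
    obtain ⟨i, hi, hni⟩ := List.any_eq_true.1 hex
    rw [List.mem_range] at hi
    have := rσ (pt i)
    rw [e] at this
    change app m22Elem (idx (pt i)) = idx (pt i) at this
    rw [idx_pt hi] at this
    simp [this] at hni
  obtain ⟨-, -, -, -, r2, -, r3, -⟩ := m24_chain
  rw [SporM22_eq] at *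
  refine isSimpleGroup_of_normalClosure (S := [pt 23, pt 0].toFinsetᶜ) (p := 11)
    (fun g hg => preserves_fixed_compl hg.2) (fun g hg => eq_one_of_fix_compl hg.2) ?_ (by norm_num)
    (by decide +kernel) ⟨pt 1, by decide +kernel⟩ ?_ hmem
    (orderOf_of_table (by norm_num) rσ (by decide +kernel) hne) ?_
  · intro a ha b hb c hc d hd hab hcd
    simp only [Finset.mem_compl, List.mem_toFinset] at ha hb hc hd
    exact two_transitive_of_reach (K := fixList M24 [pt 23, pt 0]) (H := m24Gen)
      (pre := [pt 23, pt 0]) (Ω := Finset.univ) (fun g hg => ⟨m24Gen_le hg.1, hg.2⟩)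
      (fun q _ h => r2 q (Finset.mem_filter.2 ⟨Finset.mem_univ _, h⟩))
      (fun q _ h => r3 q (Finset.mem_filter.2 ⟨Finset.mem_univ _, h⟩))
      (fun _ _ _ _ => Finset.mem_univ _) (by decide +kernel)
      a (Finset.mem_univ _) b (Finset.mem_univ _) c (Finset.mem_univ _) d (Finset.mem_univ _)
      ha hb hc hd hab hcd
  · rw [← SporM22_eq, card_SporM22]; norm_num
  · intro N hnorm hσN
    have hinK : ∀ t, (tableValid t && preservesCode t && app t 23 == 23 && app t 0 == 0) = true →
        InGroup enc (fixList M24 [pt 23, pt 0]) t := by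
      intro t ht
      simp only [Bool.and_eq_true, beq_iff_eq] at ht
      obtain ⟨τ, rτ⟩ := exists_rep_of_valid ht.1.1.1
      refine ⟨τ, ⟨mem_M24_of_table rτ ht.1.1.2, fun x hx => ?_⟩, rτ⟩
      simp only [List.mem_cons, List.not_mem_nil, or_false] at hx
      rcases hx with rfl | rfl
      · exact rτ.apply_eq enc ht.1.2
      · exact rτ.apply_eq enc (x := pt 0) (y := pt 0) ht.2
    have hgens := inGroup_of_closureOK hinK hnorm (x := m22Elem) ⟨σ, hσN, rσ⟩
      (conjs := m22Conjs) (steps := m22Steps) (gens := m22Gens) (by decide +kernel)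
    have ok : reachChainOK m22Gens (m24Levels.drop 2) [pt 23, pt 0] m22Trees = true := by
      decide +kernel
    have hc : IsChain' (N ⊓ M24) M24 (m24Levels.drop 2) [pt 23, pt 0] := by
      refine m24Levels_tail2.change _ _ (isReachChain_of_ok (fun t ht => ?_) _ _ _ ok)
      obtain ⟨τ, hτ, rτ⟩ := hgens t ht
      have hpc : m22Gens.all preservesCode = true := by decide +kernel
      exact ⟨τ, ⟨hτ, mem_M24_of_table rτ (List.all_eq_true.1 hpc t ht)⟩, rτ⟩
    exact ((hc.spec inf_le_right _ _).1).trans inf_le_left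

theorem simple_SporM11 : IsSimpleGroup Spor.M11 := by
  have hv : tableValid m11Elem = true := by decide +kernel
  obtain ⟨σ, rσ⟩ := exists_rep_of_valid hv
  have h12 : σ ∈ Spor.M12 := mem_SporM12_of_table rσ (by decide +kernel) (by decide +kernel)
  have hmem : σ ∈ Spor.M11 := ⟨h12, rσ.apply_eq enc (by decide +kernel)⟩
  have hne : σ ≠ 1 := fun e => by
    have hex : (List.range 24).any (fun i => !(app m11Elem i == i)) = true := by decide +kernel
    obtain ⟨i, hi, hni⟩ := List.any_eq_true.1 hex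
    rw [List.mem_range] at hi
    have := rσ (pt i)
    rw [e] at this
    change app m11Elem (idx (pt i)) = idx (pt i) at this
    rw [idx_pt hi] at this
    simp [this] at hni
  obtain ⟨-, -, r1, -, r2, -⟩ := m12_chain
  rw [SporM11_eq] at *
  have hS : ∀ x, x ∈ setOf24 m12Dodecad \ [pt 0].toFinset ↔
      x ∈ setOf24 m12Dodecad ∧ x ∉ [pt 0] := by simp
  refine isSimpleGroup_of_normalClosure (S := setOf24 m12Dodecad \ [pt 0].toFinset) (p := 11)
    ?_ ?_ ?_ (by norm_num)
    (by decide +kernel) ⟨pt 1, by decide +kernel⟩ ?_ hmem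
    (orderOf_of_table (by norm_num) rσ (by decide +kernel) hne) ?_
  · intro g hg x hx
    rw [hS] at hx ⊢
    exact ⟨SporM12_preserves hg.1 hx.1, fix_image_notMem hg.2 hx.2⟩
  · intro g hg h
    refine m12_fix_five hg.1 fun x hx => ?_
    by_cases h0 : x ∈ [pt 0]
    · exact hg.2 x h0
    · exact h x ((hS x).2
        ⟨(by decide +kernel : ∀ x ∈ m12Base.take 5, x ∈ setOf24 m12Dodecad) x hx, h0⟩)
  · intro a ha b hb c hc d hd hab hcd
    rw [hS] at ha hb hc hd
    exact two_transitive_of_reach (K := fixList Spor.M12 [pt 0]) (H := Spor.M12) (pre := [pt 0])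
      (Ω := setOf24 m12Dodecad) le_rfl
      (fun q h h' => r1 q (Finset.mem_filter.2 ⟨h, h'⟩))
      (fun q h h' => r2 q (Finset.mem_filter.2 ⟨h, h'⟩))
      (fun g hg x hx => SporM12_preserves hg hx) (List.nodup_singleton _)
      a ha.1 b hb.1 c hc.1 d hd.1 ha.2 hb.2 hc.2 hd.2 hab hcd
  · rw [← SporM11_eq, card_SporM11]; norm_num
  · intro N hnorm hσN
    have hinK : ∀ t, (inM12 t && app t 0 == 0) = true →
        InGroup enc (fixList Spor.M12 [pt 0]) t := by
      intro t ht
      simp only [Bool.and_eq_true, beq_iff_eq] at ht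
      obtain ⟨τ, hτ, rτ⟩ := inGroup_of_inM12 ht.1
      refine ⟨τ, ⟨hτ, fun x hx => ?_⟩, rτ⟩
      rw [List.mem_singleton.1 hx]; exact rτ.apply_eq enc (x := pt 0) (y := pt 0) ht.2
    have hgens := inGroup_of_closureOK hinK hnorm (x := m11Elem) ⟨σ, hσN, rσ⟩
      (conjs := m11Conjs) (steps := m11Steps) (gens := m11Gens) (by decide +kernel)
    have ok : reachChainOK m11Gens (m12Levels.drop 1) [pt 0] m11Trees = true := by decide +kernel
    have hc : IsChain' (N ⊓ Spor.M12) Spor.M12 (m12Levels.drop 1) [pt 0] := by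
      refine m12Levels_tail1.change _ _ (isReachChain_of_ok (fun t ht => ?_) _ _ _ ok)
      obtain ⟨τ, hτ, rτ⟩ := hgens t ht
      have hpc : m11Gens.all inM12 = true := by decide +kernel
      obtain ⟨τ', hτ', rτ'⟩ := inGroup_of_inM12 (List.all_eq_true.1 hpc t ht)
      rw [rτ'.unique rτ] at hτ'
      exact ⟨τ, ⟨hτ, hτ'⟩, rτ⟩
    exact ((hc.spec inf_le_right _ _).1).trans inf_le_left

theorem simple_SporM12 : IsSimpleGroup Spor.M12 := by
  refine isSimpleGroup_of_extension (S := setOf24 m12Dodecad) (p := 2) (q := 3)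
    (fun g hg x hx => SporM12_preserves hg hx) (fun g hg h => ?_) ?_ (a := some 0)
    (by decide +kernel) ?_ Nat.prime_two Nat.prime_three (by norm_num) (by decide +kernel)
    (by decide +kernel)
  · exact m12_fix_five hg fun x hx =>
      h x ((by decide +kernel : ∀ x ∈ m12Base.take 5, x ∈ setOf24 m12Dodecad) x hx)
  · obtain ⟨r0, -, r1, -⟩ := m12_chain
    intro a ha b hb c hc d hd hab hcd
    exact two_transitive_of_reach (K := Spor.M12) (H := Spor.M12) (pre := [])
      (Ω := setOf24 m12Dodecad) (fun g hg => hg.1)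
      (fun q h h' => r0 q (Finset.mem_filter.2 ⟨h, h'⟩))
      (fun q h h' => r1 q (Finset.mem_filter.2 ⟨h, h'⟩))
      (fun g hg x hx => SporM12_preserves hg hx) List.nodup_nil
      a ha b hb c hc d hd List.not_mem_nil List.not_mem_nil List.not_mem_nil List.not_mem_nil hab hcd
  · exact (stabilizerInfEquiv Spor.M12 (some 0)).isSimpleGroup_congr.2 simple_SporM11

theorem simple_M24 : IsSimpleGroup M24 := by
  refine isSimpleGroup_of_extension (S := Finset.univ) (p := 2) (q := 3)
    (fun _ _ _ _ => Finset.mem_univ _) (fun g _ h => Equiv.ext fun x => h x (Finset.mem_univ x)) ?_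
    (a := none) (Finset.mem_univ _) ?_ Nat.prime_two Nat.prime_three (by norm_num)
    (by decide +kernel) (by decide +kernel)
  · obtain ⟨r0, -, r1, -⟩ := m24_chain
    intro a ha b hb c hc d hd hab hcd
    exact two_transitive_of_reach (K := M24) (H := m24Gen) (pre := [])
      (Ω := Finset.univ) (fun g hg => m24Gen_le hg.1)
      (fun q _ h' => r0 q (Finset.mem_filter.2 ⟨Finset.mem_univ _, h'⟩))
      (fun q _ h' => r1 q (Finset.mem_filter.2 ⟨Finset.mem_univ _, h'⟩))
      (fun _ _ _ _ => Finset.mem_univ _) List.nodup_nil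
      a ha b hb c hc d hd List.not_mem_nil List.not_mem_nil List.not_mem_nil List.not_mem_nil hab hcd
  · exact (stabilizerInfEquiv M24 none).isSimpleGroup_congr.2 simple_SporM23

end CfsgLib.Mathieu
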