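import Cfsg.Agent.Mathieu.SmallData
import Cfsg.Prelude.Def_Spor_Mathieu

/-!
Orders and multiple transitivity of the Mathieu groups on 23, 22, 12 and 11 points.
-/

set_option autoImplicit false

namespace CfsgLib.Mathieu

open Cfsg
open scoped Pointwise

theorem mem_SporM23 {g : Equiv.Perm GolayPt} : g ∈ Spor.M23 ↔ g ∈ M24 ∧ g none = none := Iff.rfl

theorem mem_SporM22 {g : Equiv.Perm GolayPt} :
    g ∈ Spor.M22 ↔ (g ∈ M24 ∧ g none = none) ∧ g (some 0) = some 0 := Iff.rfl

theorem squareDodecad_eq : Spor.squareDodecad = setOf24 m12Dodecad := by decide +kernel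

theorem mem_SporM12 {g : Equiv.Perm GolayPt} :
    g ∈ Spor.M12 ↔ g ∈ M24 ∧ (setOf24 m12Dodecad).image g = setOf24 m12Dodecad := by
  rw [← squareDodecad_eq]; rfl

theorem mem_SporM11 {g : Equiv.Perm GolayPt} :
    g ∈ Spor.M11 ↔ g ∈ Spor.M12 ∧ g (some 0) = some 0 := Iff.rfl

theorem squareDodecad_mem : Spor.squareDodecad ∈ dodecads := by
  rw [squareDodecad_eq]
  exact setOf24_mem_wordsOfWeight (by decide +kernel) (by decide +kernel)

theorem SporM12_le : Spor.M12 ≤ M24 := fun _ h => h.1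

theorem SporM11_le : Spor.M11 ≤ M24 := fun _ h => h.1.1

theorem SporM22_le : Spor.M22 ≤ M24 := fun _ h => h.1.1

theorem SporM23_le : Spor.M23 ≤ M24 := fun _ h => h.1

theorem pt_23 : pt 23 = none := rfl

theorem pt_0 : pt 0 = some 0 := by decide +kernel

theorem SporM23_eq : Spor.M23 = fixList M24 [pt 23] := by
  ext g; simp [mem_SporM23, mem_fixList, pt_23]

theorem SporM22_eq : Spor.M22 = fixList M24 [pt 23, pt 0] := by
  ext g; simp [mem_SporM22, mem_fixList, pt_23, pt_0, and_assoc]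

theorem m24Levels_tail1 : IsChain' m24Gen M24 (m24Levels.drop 1) [pt 23] := m24_chain.2.2

theorem m24Levels_tail2 : IsChain' m24Gen M24 (m24Levels.drop 2) [pt 23, pt 0] := m24_chain.2.2.2.2

theorem card_SporM23 : Nat.card Spor.M23 = 10200960 := by
  rw [SporM23_eq, (m24Levels_tail1.spec m24Gen_le _ _).2]; decide +kernel

theorem card_SporM22 : Nat.card Spor.M22 = 443520 := by
  rw [SporM22_eq, (m24Levels_tail2.spec m24Gen_le _ _).2]; decide +kernel

/-! ### The dodecad stabiliser -/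

theorem mem_SporM12_of_table {σ : Equiv.Perm GolayPt} {t : ℕ} (h : Rep enc σ t)
    (hc : preservesCode t = true) (hd : push t 24 m12Dodecad = m12Dodecad) : σ ∈ Spor.M12 :=
  mem_SporM12.2 ⟨mem_M24_of_table h hc, by rw [image_setOf24 h, hd]⟩

/-- A table of a member of `Spor.M12`. -/
def inM12 (t : ℕ) : Bool :=
  tableValid t && preservesCode t && push t 24 m12Dodecad == m12Dodecad

theorem inGroup_of_inM12 {t : ℕ} (h : inM12 t = true) : InGroup enc Spor.M12 t := by
  simp only [inM12, Bool.and_eq_true, beq_iff_eq] at h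
  obtain ⟨σ, r⟩ := exists_rep_of_valid h.1.1
  exact ⟨σ, mem_SporM12_of_table r h.1.2 h.2, r⟩

theorem m12Strong_inGroup : ∀ t ∈ m12Strong, InGroup enc Spor.M12 t := by
  have h : m12Strong.all inM12 = true := by decide +kernel
  exact fun t ht => inGroup_of_inM12 (List.all_eq_true.1 h t ht)

theorem m12OutStrong_inGroup : ∀ t ∈ m12OutStrong, InGroup enc Spor.M12 t := by
  have h : m12OutStrong.all inM12 = true := by decide +kernel
  exact fun t ht => inGroup_of_inM12 (List.all_eq_true.1 h t ht)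

theorem m12_ext {g h : Equiv.Perm GolayPt} (hg : g ∈ M24) (hh : h ∈ M24)
    (e : ∀ x ∈ m12Base, g x = h x) : g = h := by
  refine (inv_mul_eq_one.1 (derivesAll_sound (g := h⁻¹ * g) (mul_mem (inv_mem hh) hg) m12Derivation
    (maskOf m12Base.toFinset) [] ?_ (by simp) (by decide +kernel))).symm
  intro p hp
  rw [setOf24_maskOf, List.mem_toFinset] at hp
  show h⁻¹ (g p) = p
  rw [e p hp, perm_inv_apply]

/-- The orbits along the base of the dodecad stabiliser. -/
def m12Levels : List (GolayPt × Finset GolayPt) :=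
  (List.range 7).map fun k => (m12Base.getD k none,
    if k < 5 then (setOf24 m12Dodecad).filter fun q => q ∉ m12Base.take k
    else {m12Base.getD k none})

theorem m12_fix_sixth {g : Equiv.Perm GolayPt} (hg : g ∈ Spor.M12)
    (hfix : ∀ x ∈ m12Base.take 5, g x = x) :
    g (m12Base.getD 5 none) = m12Base.getD 5 none ∧
      (setOf24 m12Octad).image g = setOf24 m12Octad := by
  obtain ⟨hg24, hgd⟩ := mem_SporM12.1 hg
  have hO : (setOf24 m12Octad).image g = setOf24 m12Octad :=
    image_eq_of_five_fixed hg24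
      (setOf24_mem_wordsOfWeight (by decide +kernel) (by decide +kernel))
      (s := (m12Base.take 5).toFinset) (fun x hx => hfix x (List.mem_toFinset.1 hx))
      (by decide +kernel)
  refine ⟨?_, hO⟩
  have h1 : g (m12Base.getD 5 none) ∈ setOf24 m12Octad := by
    rw [← hO]; exact Finset.mem_image_of_mem _ (by decide +kernel)
  have h2 : g (m12Base.getD 5 none) ∈ setOf24 m12Dodecad := by
    rw [← hgd]; exact Finset.mem_image_of_mem _ (by decide +kernel)
  have h3 := fix_image_notMem hfix (b := m12Base.getD 5 none) (by decide +kernel)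
  exact (by decide +kernel : ∀ q ∈ setOf24 m12Octad, q ∈ setOf24 m12Dodecad →
    q ∉ m12Base.take 5 → q = m12Base.getD 5 none) _ h1 h2 h3

theorem m12_fix_five {g : Equiv.Perm GolayPt} (hg : g ∈ Spor.M12)
    (hfix : ∀ x ∈ m12Base.take 5, g x = x) : g = 1 := by
  obtain ⟨h6, hO⟩ := m12_fix_sixth hg hfix
  have hfix6 : ∀ x ∈ m12Base.take 6, g x = x := by
    intro x hx
    rcases List.mem_append.1
      (show x ∈ m12Base.take 5 ++ [m12Base.getD 5 none] from hx) with hx | hx
    · exact hfix x hx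
    · rw [List.mem_singleton.1 hx]; exact h6
  obtain ⟨hg24, hgd⟩ := mem_SporM12.1 hg
  set b := g (m12Base.getD 6 none) with hb
  have hbd : b ∈ setOf24 m12Dodecad := by
    rw [← hgd]; exact Finset.mem_image_of_mem _ (by decide +kernel)
  have hbO : b ∉ setOf24 m12Octad := fun h => by
    rw [← hO, Finset.mem_image] at h
    obtain ⟨y, hy, he⟩ := h
    rw [g.injective he] at hy
    exact (by decide +kernel : m12Base.getD 6 none ∉ setOf24 m12Octad) hy
  by_cases hb7 : b = m12Base.getD 6 none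
  · refine m12_ext hg24 (one_mem _) fun x hx => ?_
    rcases List.mem_append.1
      (show x ∈ m12Base.take 6 ++ [m12Base.getD 6 none] from hx) with hx | hx
    · exact hfix6 x hx
    · rw [List.mem_singleton.1 hx]; exact hb7
  exfalso
  have key : ∀ q ∈ setOf24 m12Dodecad, q ∉ setOf24 m12Octad → q ≠ m12Base.getD 6 none →
      (m12Others.any fun t => tableValid t && preservesCode t &&
        (m12Base.take 6).all (fun x => app t (idx x) == idx x) &&
        app t (idx (m12Base.getD 6 none)) == idx q && !(push t 24 m12Dodecad == m12Dodecad)) = true := by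
    decide +kernel
  obtain ⟨t, -, ht⟩ := List.any_eq_true.1 (key b hbd hbO hb7)
  simp only [Bool.and_eq_true, beq_iff_eq, List.all_eq_true, Bool.not_eq_true', beq_eq_false_iff_ne]
    at ht
  obtain ⟨⟨⟨⟨hv, hc⟩, hx6⟩, hx7⟩, hne⟩ := ht
  obtain ⟨τ, r⟩ := exists_rep_of_valid hv
  have heq : g = τ := by
    refine m12_ext hg24 (mem_M24_of_table r hc) fun x hx => ?_
    rcases List.mem_append.1
      (show x ∈ m12Base.take 6 ++ [m12Base.getD 6 none] from hx) with hx | hx
    · rw [hfix6 x hx]; exact (r.apply_eq enc (hx6 x hx)).symm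
    · rw [List.mem_singleton.1 hx, ← hb]; exact (r.apply_eq enc (x := m12Base.getD 6 none) (y := b) hx7).symm
  rw [heq, image_setOf24 r] at hgd
  apply hne
  refine setOf24_inj ?_ (by decide +kernel) hgd
  refine Nat.lt_pow_two_of_testBit _ fun i hi => ?_
  by_contra hne'
  rw [Bool.not_eq_false, testBit_push] at hne'
  obtain ⟨j, hj, -, hji⟩ := hne'
  have := r (pt j)
  change app t (idx (pt j)) = idx (τ (pt j)) at this
  rw [idx_pt hj, hji] at this
  have := idx_lt (τ (pt j))
  omega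

theorem m12_chain : IsChain' Spor.M12 Spor.M12 m12Levels [] := by
  have ok : reachChainOK m12Strong m12Levels [] m12Trees = true := by decide +kernel
  obtain ⟨r0, r1, r2, r3, r4, r5, r6, -⟩ := isReachChain_of_ok m12Strong_inGroup _ _ _ ok
  have low : ∀ k < 5, m12Base.getD k none ∉ m12Base.take k ∧
      m12Base.getD k none ∈ setOf24 m12Dodecad := by decide +kernel
  have upper : ∀ k < 5, ∀ g ∈ Spor.M12, (∀ x ∈ m12Base.take k, g x = x) →
      g (m12Base.getD k none) ∈ (setOf24 m12Dodecad).filter (fun q => q ∉ m12Base.take k) := by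
    intro k hk g hg hfix
    refine Finset.mem_filter.2 ⟨?_, fix_image_notMem hfix (low k hk).1⟩
    rw [← (mem_SporM12.1 hg).2]
    exact Finset.mem_image_of_mem _ (low k hk).2
  refine ⟨r0, upper 0 (by norm_num), r1, upper 1 (by norm_num), r2, upper 2 (by norm_num), r3,
    upper 3 (by norm_num), r4, upper 4 (by norm_num), r5, ?_, r6, ?_, ?_⟩
  · intro g hg hfix
    exact Finset.mem_singleton.2 (m12_fix_sixth hg hfix).1
  · intro g hg hfix
    refine Finset.mem_singleton.2 ?_
    have h1 : g = 1 := m12_fix_five hg fun x hx => hfix x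
      ((List.take_sublist_take_left (by norm_num : 5 ≤ 6)).subset hx)
    rw [h1]; rfl
  · intro g hg hfix
    exact m12_fix_five hg fun x hx => hfix x (List.mem_of_mem_take hx)

theorem card_SporM12 : Nat.card Spor.M12 = 95040 := by
  rw [(m12_chain.eq_and_card le_rfl).2]; decide +kernel

theorem SporM11_eq : Spor.M11 = fixList Spor.M12 [pt 0] := by
  ext g; simp [mem_SporM11, mem_fixList, pt_0]

theorem m12Levels_tail1 : IsChain' Spor.M12 Spor.M12 (m12Levels.drop 1) [pt 0] := m12_chain.2.2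

theorem card_SporM11 : Nat.card Spor.M11 = 7920 := by
  rw [SporM11_eq, (m12Levels_tail1.spec le_rfl _ _).2]; decide +kernel

/-! ### Transitivity on tuples -/

theorem map_tuples {H : Subgroup (Equiv.Perm GolayPt)} {Ω : Set GolayPt}
    (hΩ : ∀ σ ∈ H, ∀ x ∈ Ω, σ x ∈ Ω) {pre bs : List GolayPt} (h : IsTransChain H Ω bs pre) {k : ℕ}
    (hk : bs.length = k) (x y : Fin k → GolayPt) (hx : Function.Injective x)
    (hy : Function.Injective y) (hxΩ : ∀ i, x i ∈ Ω ∧ x i ∉ pre) (hyΩ : ∀ i, y i ∈ Ω ∧ y i ∉ pre)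
    (hpre : pre.Nodup) :
    ∃ g ∈ H, (∀ p ∈ pre, g p = p) ∧ ∀ i, g (x i) = y i := by
  have key : ∀ z : Fin k → GolayPt, Function.Injective z → (∀ i, z i ∈ Ω ∧ z i ∉ pre) →
      ∃ g ∈ H, (∀ p ∈ pre, g p = p) ∧ bs.map g = List.ofFn z := by
    intro z hz hzΩ
    refine h.exists_map hΩ _ _ (List.ofFn z) (by simp [hk]) ?_ ?_
    · rw [List.nodup_append]
      refine ⟨hpre, List.nodup_ofFn.2 hz, fun a ha b hb e => ?_⟩
      obtain ⟨i, rfl⟩ := List.mem_ofFn.1 hb
      exact (hzΩ i).2 (e ▸ ha)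
    · intro y hy
      obtain ⟨i, rfl⟩ := List.mem_ofFn.1 hy
      exact (hzΩ i).1
  obtain ⟨a, ha, hap, hax⟩ := key x hx hxΩ
  obtain ⟨b, hb, hbp, hby⟩ := key y hy hyΩ
  refine ⟨b * a⁻¹, mul_mem hb (inv_mem ha), fun p hp => ?_, fun i => ?_⟩
  · show b (a⁻¹ p) = p
    rw [show a⁻¹ p = p from (Equiv.symm_apply_eq a).2 (hap p hp).symm, hbp p hp]
  · have h1 : List.ofFn y = (List.ofFn x).map (b * a⁻¹) := by
      rw [← hby, ← hax, List.map_map]
      exact List.map_congr_left fun p _ => by simp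
    rw [List.map_ofFn] at h1
    exact (congrFun (List.ofFn_injective h1) i).symm

theorem SporM12_preserves {σ : Equiv.Perm GolayPt} (h : σ ∈ Spor.M12) {x : GolayPt}
    (hx : x ∈ setOf24 m12Dodecad) : σ x ∈ setOf24 m12Dodecad := by
  rw [← (mem_SporM12.1 h).2]; exact Finset.mem_image_of_mem _ hx

theorem SporM12_preserves_compl {σ : Equiv.Perm GolayPt} (h : σ ∈ Spor.M12) {x : GolayPt}
    (hx : x ∉ setOf24 m12Dodecad) : σ x ∉ setOf24 m12Dodecad := fun hm => hx <| by
  rw [← (mem_SporM12.1 h).2, Finset.mem_image] at hm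
  obtain ⟨y, hy, he⟩ := hm
  rwa [← σ.injective he]

theorem m12_transChain :
    IsTransChain Spor.M12 (setOf24 m12Dodecad : Set GolayPt) (m12Base.take 5) [] := by
  obtain ⟨r0, -, r1, -, r2, -, r3, -, r4, -⟩ := m12_chain
  exact ⟨fun q h h' => r0 q (Finset.mem_filter.2 ⟨h, h'⟩),
    fun q h h' => r1 q (Finset.mem_filter.2 ⟨h, h'⟩),
    fun q h h' => r2 q (Finset.mem_filter.2 ⟨h, h'⟩),
    fun q h h' => r3 q (Finset.mem_filter.2 ⟨h, h'⟩),
    fun q h h' => r4 q (Finset.mem_filter.2 ⟨h, h'⟩), trivial⟩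

theorem SporM12_map_five (x y : Fin 5 → GolayPt) (hx : Function.Injective x)
    (hy : Function.Injective y) (hxd : ∀ i, x i ∈ setOf24 m12Dodecad)
    (hyd : ∀ i, y i ∈ setOf24 m12Dodecad) : ∃ g ∈ Spor.M12, ∀ i, g (x i) = y i := by
  obtain ⟨g, hg, -, h⟩ := map_tuples (fun σ hσ x hx => SporM12_preserves hσ hx) m12_transChain rfl
    x y hx hy (fun i => ⟨hxd i, List.not_mem_nil⟩) (fun i => ⟨hyd i, List.not_mem_nil⟩) List.nodup_nil
  exact ⟨g, hg, h⟩

theorem SporM12_sharp {g : Equiv.Perm GolayPt} (hg : g ∈ Spor.M12) (x : Fin 5 → GolayPt)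
    (hx : Function.Injective x) (hxd : ∀ i, x i ∈ setOf24 m12Dodecad) (hfix : ∀ i, g (x i) = x i) :
    g = 1 := by
  obtain ⟨a, ha, hax⟩ := SporM12_map_five x
    (fun i => m12Base.getD i none) hx
    (by decide +kernel) hxd (by decide +kernel)
  have h1 : a * g * a⁻¹ = 1 := by
    refine m12_fix_five (mul_mem (mul_mem ha hg) (inv_mem ha)) fun p hp => ?_
    obtain ⟨i, rfl⟩ : ∃ i : Fin 5, p = m12Base.getD i none :=
      (by decide +kernel : ∀ p ∈ m12Base.take 5, ∃ i : Fin 5, p = m12Base.getD i none) p hp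
    show a (g (a⁻¹ (m12Base.getD i none))) = m12Base.getD i none
    rw [show a⁻¹ (m12Base.getD i none) = x i from (Equiv.symm_apply_eq a).2 (hax i).symm, hfix, hax]
  calc g = a⁻¹ * (a * g * a⁻¹) * a := by group
    _ = 1 := by rw [h1]; group

theorem SporM11_map_three_out (x y : Fin 3 → GolayPt) (hx : Function.Injective x)
    (hy : Function.Injective y) (hxd : ∀ i, x i ∉ setOf24 m12Dodecad)
    (hyd : ∀ i, y i ∉ setOf24 m12Dodecad) : ∃ g ∈ Spor.M11, ∀ i, g (x i) = y i := by
  have ok : reachChainOK m12OutStrong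
      ((List.range 3).map fun k => (m12OutBase.getD (k + 1) none,
        ((setOf24 m12Dodecad)ᶜ).filter fun q => q ∉ m12OutBase.take (k + 1)))
      [pt 0] m12OutTrees.tail = true := by decide +kernel
  obtain ⟨r0, r1, r2, -⟩ := isReachChain_of_ok m12OutStrong_inGroup _ _ _ ok
  have hchain : IsTransChain Spor.M12 {q | q ∉ setOf24 m12Dodecad} (m12OutBase.drop 1) [pt 0] :=
    ⟨fun q h h' => r0 q (Finset.mem_filter.2 ⟨Finset.mem_compl.2 h, h'⟩),
      fun q h h' => r1 q (Finset.mem_filter.2 ⟨Finset.mem_compl.2 h, h'⟩),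
      fun q h h' => r2 q (Finset.mem_filter.2 ⟨Finset.mem_compl.2 h, h'⟩), trivial⟩
  have h0 : pt 0 ∈ setOf24 m12Dodecad := by decide +kernel
  obtain ⟨g, hg, hp, h⟩ := map_tuples (Ω := {q | q ∉ setOf24 m12Dodecad})
    (fun σ hσ x hx => SporM12_preserves_compl hσ (x := x) hx) hchain rfl
    x y hx hy (fun i => ⟨hxd i, fun e => hxd i (List.mem_singleton.1 e ▸ h0)⟩)
    (fun i => ⟨hyd i, fun e => hyd i (List.mem_singleton.1 e ▸ h0)⟩) (List.nodup_singleton _)
  exact ⟨g, by rw [SporM11_eq]; exact ⟨hg, hp⟩, h⟩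

end CfsgLib.Mathieu
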