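import Cfsg.Agent.Mathieu.SmallSimple

/-!
The stabilisers at arbitrary points and dodecads, by transitivity; dodecad transitivity.
-/

set_option autoImplicit false

namespace CfsgLib.Mathieu

open Cfsg
open scoped Pointwise

/-- A stabiliser inside a subgroup is carried to another by a member of the subgroup. -/
def stabilizerConj {α β : Type*} [MulAction (Equiv.Perm α) β] {G : Subgroup (Equiv.Perm α)}
    {g : Equiv.Perm α} (hg : g ∈ G) {b c : β} (h : g • b = c) :
    ↥(G ⊓ MulAction.stabilizer (Equiv.Perm α) b) ≃*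
      ↥(G ⊓ MulAction.stabilizer (Equiv.Perm α) c) :=
  conjEquivOfIff g fun x => by
    simp only [Subgroup.mem_inf, MulAction.mem_stabilizer_iff]
    refine and_congr ?_ ?_
    · refine ⟨fun hx => mul_mem (mul_mem hg hx) (inv_mem hg), fun hx => ?_⟩
      have := mul_mem (mul_mem (inv_mem hg) hx) hg
      simpa [mul_assoc] using this
    · rw [← h, mul_smul, mul_smul, inv_smul_smul, smul_left_cancel_iff]

/-- Joint stabiliser in a subgroup, carried to the symmetric group. -/
def stabilizerPairEquiv {α β γ : Type*} [MulAction (Equiv.Perm α) β] [MulAction (Equiv.Perm α) γ]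
    (G : Subgroup (Equiv.Perm α)) (b : β) (c : γ) :
    ↥(MulAction.stabilizer G b ⊓ MulAction.stabilizer G c) ≃*
      ↥(G ⊓ MulAction.stabilizer (Equiv.Perm α) b ⊓ MulAction.stabilizer (Equiv.Perm α) c) where
  toFun g := ⟨g.1.1, ⟨g.1.2, g.2.1⟩, g.2.2⟩
  invFun g := ⟨⟨g.1, g.2.1.1⟩, g.2.1.2, g.2.2⟩
  left_inv _ := rfl
  right_inv _ := rfl
  map_mul' _ _ := rfl

theorem exists_M24_map_two (p q : GolayPt) (hpq : p ≠ q) :
    ∃ g ∈ M24, g none = p ∧ g (some 0) = q := by
  have := M24_isMultiplyPretransitive (k := 2) (by norm_num)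
  obtain ⟨g, h1, h2⟩ := (MulAction.is_two_pretransitive_iff).1 this
    (show (none : GolayPt) ≠ some 0 by simp) hpq
  exact ⟨g.1, g.2, h1, h2⟩

/-- `Spor.M23` is the stabiliser of any point. -/
theorem nonempty_pointStabilizer_equiv (p : GolayPt) :
    Nonempty (Spor.M23 ≃* MulAction.stabilizer M24 p) := by
  have := M24_isPretransitive
  obtain ⟨g, h⟩ := MulAction.exists_smul_eq M24 (none : GolayPt) p
  exact ⟨(stabilizerConj g.2 (β := GolayPt) h).trans (stabilizerInfEquiv M24 p).symm⟩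

theorem simple_M24_point (p : GolayPt) : IsSimpleGroup (MulAction.stabilizer M24 p) :=
  (nonempty_pointStabilizer_equiv p).some.isSimpleGroup_congr.1 simple_SporM23

/-- `Spor.M22` is the stabiliser of any two points. -/
theorem nonempty_pairStabilizer_equiv (p q : GolayPt) (hpq : p ≠ q) :
    Nonempty (Spor.M22 ≃* ↥(MulAction.stabilizer M24 p ⊓ MulAction.stabilizer M24 q)) := by
  obtain ⟨g, hg, h1, h2⟩ := exists_M24_map_two p q hpq
  refine ⟨MulEquiv.trans (conjEquivOfIff g fun x => ?_) (stabilizerPairEquiv M24 p q).symm⟩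
  have e1 : g⁻¹ p = none := (Equiv.symm_apply_eq g).2 h1.symm
  have e2 : g⁻¹ q = some 0 := (Equiv.symm_apply_eq g).2 h2.symm
  simp only [mem_SporM22, Subgroup.mem_inf, MulAction.mem_stabilizer_iff, Equiv.Perm.smul_def]
  refine and_congr (and_congr ?_ ?_) ?_
  · refine ⟨fun hx => mul_mem (mul_mem hg hx) (inv_mem hg), fun hx => ?_⟩
    have := mul_mem (mul_mem (inv_mem hg) hx) hg
    simpa [mul_assoc] using this
  · show x none = none ↔ g (x (g⁻¹ p)) = p
    rw [e1]
    exact ⟨fun hx => by rw [hx, h1], fun hx => g.injective (hx.trans h1.symm)⟩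
  · show x (some 0) = some 0 ↔ g (x (g⁻¹ q)) = q
    rw [e2]
    exact ⟨fun hx => by rw [hx, h2], fun hx => g.injective (hx.trans h2.symm)⟩

theorem M24_dodecad_transitive {d : Finset GolayPt} (hd : d ∈ dodecads) :
    ∃ g ∈ M24, Spor.squareDodecad.image g = d := by
  have horb : MulAction.orbit M24 Spor.squareDodecad ⊆ dodecads := by
    rintro _ ⟨g, rfl⟩
    exact dodecad_image g.2 squareDodecad_mem
  have hcard : (MulAction.orbit M24 Spor.squareDodecad).ncard = 2576 := by
    rw [← MulAction.index_stabilizer]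
    have h := Subgroup.index_mul_card (MulAction.stabilizer M24 Spor.squareDodecad)
    have h12 : Nat.card (MulAction.stabilizer M24 Spor.squareDodecad) = 95040 := by
      rw [Nat.card_congr (stabilizerInfEquiv M24 Spor.squareDodecad).toEquiv]
      exact card_SporM12
    rw [h12, card_M24] at h
    exact Nat.eq_of_mul_eq_mul_right (by norm_num : 0 < 95040) (h.trans (by norm_num))
  have heq := Set.eq_of_subset_of_ncard_le horb (by rw [hcard, ncard_dodecads]) (Set.toFinite _)
  rw [← heq] at hd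
  obtain ⟨g, h⟩ := hd
  exact ⟨g.1, g.2, h⟩

theorem M24_dodecad_transitive' {d d' : Finset GolayPt} (hd : d ∈ dodecads) (hd' : d' ∈ dodecads) :
    ∃ g ∈ M24, d.image g = d' := by
  obtain ⟨a, ha, h1⟩ := M24_dodecad_transitive hd
  obtain ⟨b, hb, h2⟩ := M24_dodecad_transitive hd'
  refine ⟨b * a⁻¹, mul_mem hb (inv_mem ha), ?_⟩
  rw [← h1, ← h2, Finset.image_image]
  exact Finset.image_congr fun x _ => by simp

/-- `Spor.M12` is the stabiliser of any dodecad. -/
theorem nonempty_dodecadStabilizer_equiv {d : Finset GolayPt} (hd : d ∈ dodecads) :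
    Nonempty (Spor.M12 ≃* MulAction.stabilizer M24 d) := by
  obtain ⟨g, hg, h⟩ := M24_dodecad_transitive hd
  exact ⟨(stabilizerConj hg (β := Finset GolayPt) h).trans (stabilizerInfEquiv M24 d).symm⟩

theorem card_dodecadStabilizer {d : Finset GolayPt} (hd : d ∈ dodecads) :
    Nat.card (MulAction.stabilizer M24 d) = 95040 := by
  rw [← Nat.card_congr (nonempty_dodecadStabilizer_equiv hd).some.toEquiv, card_SporM12]

theorem simple_dodecadStabilizer {d : Finset GolayPt} (hd : d ∈ dodecads) :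
    IsSimpleGroup (MulAction.stabilizer M24 d) :=
  (nonempty_dodecadStabilizer_equiv hd).some.isSimpleGroup_congr.1 simple_SporM12

theorem setOf_square_eq {g : Equiv.Perm GolayPt} {d : Finset GolayPt}
    (h : Spor.squareDodecad.image g = d) (x : GolayPt) :
    x ∈ setOf24 m12Dodecad ↔ g x ∈ d := by
  rw [← h, squareDodecad_eq, g.injective.mem_finset_image]

/-- The dodecad stabiliser is sharply five-fold transitive on the dodecad. -/
theorem dodecad_sharp_five {d : Finset GolayPt} (hd : d ∈ dodecads) (x y : Fin 5 → GolayPt)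
    (hx : Function.Injective x) (hy : Function.Injective y) (hxd : ∀ i, x i ∈ d)
    (hyd : ∀ i, y i ∈ d) :
    ∃! g : MulAction.stabilizer M24 d, ∀ i, ((g : M24) : Equiv.Perm GolayPt) (x i) = y i := by
  obtain ⟨a, ha, hda⟩ := M24_dodecad_transitive hd
  have hin : ∀ z : Fin 5 → GolayPt, (∀ i, z i ∈ d) → ∀ i, a⁻¹ (z i) ∈ setOf24 m12Dodecad :=
    fun z hz i => (setOf_square_eq hda _).2 (by rw [perm_apply_inv]; exact hz i)
  obtain ⟨h, hh, hmap⟩ := SporM12_map_five (fun i => a⁻¹ (x i)) (fun i => a⁻¹ (y i))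
    (a⁻¹.injective.comp hx) (a⁻¹.injective.comp hy) (hin x hxd) (hin y hyd)
  obtain ⟨hh24, hhd⟩ := mem_SporM12.1 hh
  rw [← squareDodecad_eq] at hhd
  have hg : d.image (a * h * a⁻¹) = d := by
    rw [← hda, Finset.image_image,
      show (⇑(a * h * a⁻¹) ∘ ⇑a) = ⇑a ∘ ⇑h from funext fun p => by simp, ← Finset.image_image, hhd]
  refine ⟨⟨⟨a * h * a⁻¹, mul_mem (mul_mem ha hh24) (inv_mem ha)⟩, hg⟩, fun i => ?_, ?_⟩
  · show a (h (a⁻¹ (x i))) = y i
    rw [hmap i, perm_apply_inv]
  · rintro ⟨⟨k, hk⟩, hkd⟩ hk'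
    refine Subtype.ext (Subtype.ext ?_)
    show k = a * h * a⁻¹
    have hkd' : d.image k = d := hkd
    have hmem : h⁻¹ * (a⁻¹ * k * a) ∈ Spor.M12 := by
      refine mul_mem (inv_mem hh) ?_
      refine mem_SporM12.2 ⟨mul_mem (mul_mem (inv_mem ha) hk) ha, ?_⟩
      rw [← squareDodecad_eq]
      conv_lhs => rw [show (⇑(a⁻¹ * k * a)) = ⇑a⁻¹ ∘ ⇑k ∘ ⇑a from rfl, ← Finset.image_image,
        ← Finset.image_image, hda, hkd']
      rw [← hda, Finset.image_image]
      exact (Finset.image_congr fun p _ => by simp).trans Finset.image_id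
    have h1 := SporM12_sharp hmem (fun i => a⁻¹ (x i)) (a⁻¹.injective.comp hx) (hin x hxd) fun i => by
      show h⁻¹ (a⁻¹ (k (a (a⁻¹ (x i))))) = a⁻¹ (x i)
      rw [perm_apply_inv, show k (x i) = y i from hk' i, ← hmap i, perm_inv_apply]
    rw [inv_mul_eq_one] at h1
    rw [h1]; group

/-- A member of `M24` taking the standard dodecad and zero to a given dodecad and point of it. -/
theorem exists_M24_dodecad_point {d : Finset GolayPt} (hd : d ∈ dodecads) {p : GolayPt} (hp : p ∈ d) :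
    ∃ g ∈ M24, Spor.squareDodecad.image g = d ∧ g (some 0) = p := by
  obtain ⟨a, ha, hda⟩ := M24_dodecad_transitive hd
  have hq : a⁻¹ p ∈ setOf24 m12Dodecad := (setOf_square_eq hda _).2 (by rwa [perm_apply_inv])
  have hr := m12_chain.1 (a⁻¹ p) (Finset.mem_filter.2 ⟨hq, List.not_mem_nil⟩)
  obtain ⟨h, hh, -, hh0⟩ := hr
  obtain ⟨hh24, hhd⟩ := mem_SporM12.1 hh
  rw [← squareDodecad_eq] at hhd
  refine ⟨a * h, mul_mem ha hh24, ?_, ?_⟩
  · rw [Equiv.Perm.coe_mul, ← Finset.image_image, hhd, hda]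
  · show a (h (some 0)) = p
    rw [← pt_0]
    exact (congrArg a hh0).trans (perm_apply_inv a p)

/-- `Spor.M11` is the joint stabiliser of any dodecad and point of it. -/
theorem nonempty_dodecadPointStabilizer_equiv {d : Finset GolayPt} (hd : d ∈ dodecads) {p : GolayPt}
    (hp : p ∈ d) :
    Nonempty (Spor.M11 ≃* ↥(MulAction.stabilizer M24 d ⊓ MulAction.stabilizer M24 p)) := by
  obtain ⟨g, hg, h1, h2⟩ := exists_M24_dodecad_point hd hp
  refine ⟨MulEquiv.trans (conjEquivOfIff g fun x => ?_) (stabilizerPairEquiv M24 d p).symm⟩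
  show x ∈ M24 ⊓ MulAction.stabilizer (Equiv.Perm GolayPt) Spor.squareDodecad ⊓
      MulAction.stabilizer (Equiv.Perm GolayPt) (some 0 : GolayPt) ↔ _
  have h1' : g • Spor.squareDodecad = d := h1
  have h2' : g • (some 0 : GolayPt) = p := h2
  simp only [Subgroup.mem_inf, MulAction.mem_stabilizer_iff]
  refine and_congr (and_congr ?_ ?_) ?_
  · refine ⟨fun hx => mul_mem (mul_mem hg hx) (inv_mem hg), fun hx => ?_⟩
    have := mul_mem (mul_mem (inv_mem hg) hx) hg
    simpa [mul_assoc] using this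
  · rw [← h1', mul_smul, mul_smul, inv_smul_smul, smul_left_cancel_iff]
  · rw [← h2', mul_smul, mul_smul, inv_smul_smul, smul_left_cancel_iff]

theorem dodecadPoint_three_transitive {d : Finset GolayPt} (hd : d ∈ dodecads) {p : GolayPt}
    (hp : p ∈ d) (x y : Fin 3 → GolayPt) (hx : Function.Injective x) (hy : Function.Injective y)
    (hxd : ∀ i, x i ∉ d) (hyd : ∀ i, y i ∉ d) :
    ∃ g ∈ MulAction.stabilizer M24 d ⊓ MulAction.stabilizer M24 p,
      ∀ i, (g : Equiv.Perm GolayPt) (x i) = y i := by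
  obtain ⟨a, ha, hda, ha0⟩ := exists_M24_dodecad_point hd hp
  have hout : ∀ z : Fin 3 → GolayPt, (∀ i, z i ∉ d) → ∀ i, a⁻¹ (z i) ∉ setOf24 m12Dodecad :=
    fun z hz i hm => hz i (by
      have := (setOf_square_eq hda _).1 hm
      rwa [perm_apply_inv] at this)
  obtain ⟨h, hh, hmap⟩ := SporM11_map_three_out (fun i => a⁻¹ (x i)) (fun i => a⁻¹ (y i))
    (a⁻¹.injective.comp hx) (a⁻¹.injective.comp hy) (hout x hxd) (hout y hyd)
  obtain ⟨hh12, hh0⟩ := mem_SporM11.1 hh
  obtain ⟨hh24, hhd⟩ := mem_SporM12.1 hh12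
  rw [← squareDodecad_eq] at hhd
  have hd' : d.image (a * h * a⁻¹) = d := by
    rw [← hda, Finset.image_image,
      show (⇑(a * h * a⁻¹) ∘ ⇑a) = ⇑a ∘ ⇑h from funext fun p => by simp, ← Finset.image_image, hhd]
  have hp' : (a * h * a⁻¹) p = p := by
    show a (h (a⁻¹ p)) = p
    rw [show a⁻¹ p = some 0 from (Equiv.symm_apply_eq a).2 ha0.symm, hh0, ha0]
  refine ⟨⟨a * h * a⁻¹, mul_mem (mul_mem ha hh24) (inv_mem ha)⟩, ⟨hd', hp'⟩, fun i => ?_⟩
  show a (h (a⁻¹ (x i))) = y i
  rw [hmap i, perm_apply_inv]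

end CfsgLib.Mathieu
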