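import Cfsg.Agent.Mathieu.PlaneData
import Cfsg.Agent.Mathieu.General
import Cfsg.Agent.Linear.Perfect
import Cfsg.Agent.Linear.Basic
import Cfsg.Agent.Linear.SmallFields

/-!
The stabiliser of three points in `Cfsg.M24` is `PSL(3,4)`.
-/

set_option autoImplicit false

namespace CfsgLib.Mathieu.Plane

open Cfsg Matrix
open CfsgLib.Linear (GF4)
open scoped LinearAlgebra.Projectivization

/-- The four field elements. -/
def gf : Fin 4 → GF4 := ![0, 1, ⟨0, 1⟩, ⟨1, 1⟩]

theorem gf_surjective : Function.Surjective gf := by unfold Function.Surjective; decide +kernel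

/-- The vector of the point `k`. -/
def rep (k : Fin 21) : Fin 3 → GF4 := fun i => gf ((coords.getD k.1 []).getD i.1 0)

theorem rep_ne_zero : ∀ k, rep k ≠ 0 := by decide +kernel

/-- The three fixed points. -/
def pts3 : List GolayPt := [pt 23, pt 0, pt 1]

theorem pts3_eq : pts3 = m24Base.take 3 := rfl

/-- The position of the point `k`. -/
def spot (k : Fin 21) : {p : GolayPt // p ∉ pts3} :=
  ⟨pt (place.getD k.1 0), (by decide +kernel : ∀ k : Fin 21, pt (place.getD k.1 0) ∉ pts3) k⟩

theorem spot_bijective : Function.Bijective spot := by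
  unfold Function.Bijective Function.Injective Function.Surjective
  refine ⟨?_, ?_⟩ <;> decide +kernel

/-- The points of the plane. -/
def point (k : Fin 21) : ℙ GF4 (Fin 3 → GF4) := Projectivization.mk GF4 (rep k) (rep_ne_zero k)

theorem point_bijective : Function.Bijective point := by
  have h1 : ∀ a b : Fin 21, (∃ c : GF4, c • rep b = rep a) → a = b := by decide +kernel
  refine ⟨fun a b h => h1 a b ((Projectivization.mk_eq_mk_iff' _ _ _ _ _).1 h), fun x => ?_⟩
  have h2 : ∀ v : Fin 3 → GF4, v ≠ 0 → ∃ k : Fin 21, ∃ c : GF4, c • v = rep k := by decide +kernel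
  obtain ⟨k, hk⟩ := h2 x.rep x.rep_nonzero
  refine ⟨k, ?_⟩
  rw [← Projectivization.mk_rep x]
  exact (Projectivization.mk_eq_mk_iff' _ _ _ _ _).2 hk

/-- The plane as the points outside the three fixed ones. -/
noncomputable def planeEquiv : ℙ GF4 (Fin 3 → GF4) ≃ {p : GolayPt // p ∉ pts3} :=
  (Equiv.ofBijective point point_bijective).symm.trans (Equiv.ofBijective spot spot_bijective)

theorem planeEquiv_point (k : Fin 21) : planeEquiv (point k) = spot k := by
  show Equiv.ofBijective spot spot_bijective ((Equiv.ofBijective point point_bijective).symm (point k)) = _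
  rw [show point k = Equiv.ofBijective point point_bijective k from rfl, Equiv.symm_apply_apply]
  rfl

/-- `SL(3,4)` on the Golay points. -/
noncomputable def planeHom : SpecialLinearGroup (Fin 3) GF4 →* Equiv.Perm GolayPt :=
  (Equiv.Perm.extendDomainHom planeEquiv).comp (MulAction.toPermHom _ _)

theorem planeHom_fix (g : SpecialLinearGroup (Fin 3) GF4) {p : GolayPt} (hp : p ∈ pts3) :
    planeHom g p = p :=
  Equiv.Perm.extendDomain_apply_not_subtype _ planeEquiv (fun h => h hp)

theorem planeHom_spot (g : SpecialLinearGroup (Fin 3) GF4) {k j : Fin 21}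
    (h : ∃ c : GF4, c • rep j = g.1 *ᵥ rep k) : planeHom g (spot k).1 = (spot j).1 := by
  rw [← planeEquiv_point k, ← planeEquiv_point j]
  show Equiv.Perm.extendDomain (MulAction.toPerm g) planeEquiv _ = _
  rw [Equiv.Perm.extendDomain_apply_image]
  refine congrArg (fun x => (planeEquiv x).1) ?_
  exact (Projectivization.smul_mk g (rep_ne_zero k)).trans
    ((Projectivization.mk_eq_mk_iff' _ _ _ _ _).2 h)

/-- The table of a transvection. -/
def transTable (i j : Fin 3) (c : Fin 4) : ℕ := transTables.getD (12 * i.1 + 4 * j.1 + c.1) 0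

theorem transTable_fix : ∀ (i j : Fin 3) (c : Fin 4),
    ∀ p ∈ pts3, app (transTable i j c) (idx p) = idx p := by decide +kernel

theorem transTable_code : ∀ (i j : Fin 3) (c : Fin 4), preservesCode (transTable i j c) = true := by
  decide +kernel

theorem transTable_spot : ∀ (i j : Fin 3) (c : Fin 4), i ≠ j → ∀ k : Fin 21, ∃ l : Fin 21,
    (∃ a : GF4, ∀ m : Fin 3, a * rep l m = rep k m + if m = i then gf c * rep k j else 0) ∧
      app (transTable i j c) (idx (spot k).1) = idx (spot l).1 := by
  decide +kernel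

theorem planeHom_mem (g : SpecialLinearGroup (Fin 3) GF4) : planeHom g ∈ fixList M24 pts3 := by
  refine mem_fixList.2 ⟨?_, fun p hp => planeHom_fix g hp⟩
  induction g using CfsgLib.Linear.sl_induction with
  | hone => rw [map_one]; exact one_mem _
  | hmul A B hA hB => rw [map_mul]; exact mul_mem hA hB
  | htransvec i j hij a =>
    obtain ⟨c, rfl⟩ := gf_surjective a
    refine mem_M24_of_table (t := transTable i j c) (fun p => ?_) (transTable_code i j c)
    show app (transTable i j c) (idx p) = idx _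
    by_cases hp : p ∈ pts3
    · rw [planeHom_fix _ hp]; exact transTable_fix i j c p hp
    · obtain ⟨k, hk⟩ := spot_bijective.2 ⟨p, hp⟩
      have hk' : (spot k).1 = p := congrArg Subtype.val hk
      obtain ⟨l, ⟨b, hb⟩, happ⟩ := transTable_spot i j c hij k
      rw [← hk', happ, planeHom_spot _ (j := l) ⟨b, funext fun m => ?_⟩]
      rw [CfsgLib.Linear.transvection_smul_apply hij]
      exact hb m

theorem center_le_ker : Subgroup.center (SpecialLinearGroup (Fin 3) GF4) ≤ planeHom.ker := by
  intro g hg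
  obtain ⟨r, -, hr⟩ := Matrix.SpecialLinearGroup.mem_center_iff.1 hg
  refine MonoidHom.mem_ker.2 (Equiv.ext fun p => ?_)
  by_cases hp : p ∈ pts3
  · exact planeHom_fix g hp
  · obtain ⟨k, hk⟩ := spot_bijective.2 ⟨p, hp⟩
    rw [← show (spot k).1 = p from congrArg Subtype.val hk,
      planeHom_spot g (j := k) ⟨r, funext fun m => ?_⟩]
    · rfl
    · rw [← hr]; simp [Matrix.mulVec_diagonal]

theorem card_fixList_three : Nat.card (fixList M24 pts3) = 20160 := by
  have h : IsChain' m24Gen M24 (m24Levels.drop 3) (m24Base.take 3) := m24_chain.2.2.2.2.2.2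
  rw [pts3_eq, (h.spec m24Gen_le _ _).2]
  decide +kernel

theorem card_PSL34 : Nat.card (ProjectiveSpecialLinearGroup (Fin 3) GF4) = 20160 := by
  have h1 := CfsgLib.Linear.card_PSL_mul (n := Fin 3) (F := GF4)
  have h2 := CfsgLib.Linear.card_SL_mul (n := Fin 3) (F := GF4)
  rw [Fintype.card_fin, CfsgLib.Linear.card_gf4, show Nat.gcd 3 (4 - 1) = 3 by decide] at h1
  rw [CfsgLib.Linear.card_gf4, Matrix.card_GL_field, Fin.prod_univ_three, CfsgLib.Linear.card_gf4] at h2
  norm_num at h2
  rw [← Nat.card_eq_fintype_card] at h2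
  omega

theorem nonempty_psl_equiv :
    Nonempty (ProjectiveSpecialLinearGroup (Fin 3) GF4 ≃* fixList M24 pts3) := by
  let f : ProjectiveSpecialLinearGroup (Fin 3) GF4 →* fixList M24 pts3 :=
    QuotientGroup.lift _ (planeHom.codRestrict _ planeHom_mem) fun g hg =>
      MonoidHom.mem_ker.2 (Subtype.ext (center_le_ker hg))
  haveI := CfsgLib.Linear.isSimpleGroup_PSL (ι := Fin 3) (F := GF4) (by simp)
  have hne : f.ker ≠ ⊤ := by
    intro htop
    let t : SpecialLinearGroup (Fin 3) GF4 := Matrix.SpecialLinearGroup.transvection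
      (show (0 : Fin 3) ≠ 1 by decide) 1
    have h1 : planeHom t = 1 :=
      congrArg Subtype.val (show f (QuotientGroup.mk t) = 1 by
        rw [← MonoidHom.mem_ker, htop]; exact Subgroup.mem_top _)
    have h2 : ∃ k : Fin 21, ∃ l : Fin 21, l ≠ k ∧
        ∃ a : GF4, ∀ m : Fin 3, a * rep l m = rep k m + if m = (0 : Fin 3) then 1 * rep k 1 else 0 := by
      decide +kernel
    obtain ⟨k, l, hne, a, ha⟩ := h2
    have h3 := planeHom_spot t (k := k) (j := l) ⟨a, funext fun m => by
      rw [CfsgLib.Linear.transvection_smul_apply]; exact ha m⟩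
    rw [h1] at h3
    exact hne (spot_bijective.1 (Subtype.ext h3)).symm
  have hinj : Function.Injective f :=
    (MonoidHom.ker_eq_bot_iff f).1 ((IsSimpleGroup.eq_bot_or_eq_top_of_normal f.ker inferInstance).resolve_right hne)
  exact ⟨MulEquiv.ofBijective f ((Nat.bijective_iff_injective_and_card f).2
    ⟨hinj, by rw [card_PSL34, card_fixList_three]⟩)⟩

/-- The stabiliser of any three points. -/
theorem nonempty_tripleStabilizer_equiv (p q r : GolayPt) (hpq : p ≠ q) (hpr : p ≠ r) (hqr : q ≠ r) :
    Nonempty (fixList M24 pts3 ≃*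
      ↥(MulAction.stabilizer M24 p ⊓ MulAction.stabilizer M24 q ⊓ MulAction.stabilizer M24 r)) := by
  haveI := M24_isMultiplyPretransitive (k := 3) (by norm_num)
  obtain ⟨g, hg⟩ := MulAction.exists_smul_eq M24
    (⟨![pt 23, pt 0, pt 1], by unfold Function.Injective; decide +kernel⟩ : Fin 3 ↪ GolayPt)
    ⟨![p, q, r], by intro i j; fin_cases i <;> fin_cases j <;> simp_all [eq_comm]⟩
  have e0 : (g : Equiv.Perm GolayPt) (pt 23) = p := DFunLike.congr_fun hg 0
  have e1 : (g : Equiv.Perm GolayPt) (pt 0) = q := DFunLike.congr_fun hg 1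
  have e2 : (g : Equiv.Perm GolayPt) (pt 1) = r := DFunLike.congr_fun hg 2
  refine ⟨{ toFun := fun x => ⟨g * ⟨x.1, x.2.1⟩ * g⁻¹, ?_⟩
            invFun := fun y => ⟨((g⁻¹ * y.1 * g : M24) : Equiv.Perm GolayPt), SetLike.coe_mem _, ?_⟩
            left_inv := fun x => Subtype.ext (by simp [mul_assoc])
            right_inv := fun y => Subtype.ext (Subtype.ext (by simp [mul_assoc]))
            map_mul' := fun a b => Subtype.ext (Subtype.ext (by simp [mul_assoc])) }⟩
  · have hfix : ∀ z ∈ pts3, ∀ w, (g : Equiv.Perm GolayPt) z = w →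
        (g * ⟨x.1, x.2.1⟩ * g⁻¹ : M24) ∈ MulAction.stabilizer M24 w := by
      intro z hz w hw
      show (g : Equiv.Perm GolayPt) (x.1 ((g : Equiv.Perm GolayPt)⁻¹ w)) = w
      rw [← hw, perm_inv_apply, x.2.2 z hz]
    exact ⟨⟨hfix _ (by simp [pts3]) p e0, hfix _ (by simp [pts3]) q e1⟩, hfix _ (by simp [pts3]) r e2⟩
  · have hfix : ∀ z w, (g : Equiv.Perm GolayPt) z = w → (y.1.1 : Equiv.Perm GolayPt) w = w →
        ((g⁻¹ * y.1 * g : M24) : Equiv.Perm GolayPt) z = z := by
      intro z w hzw hw
      show (g : Equiv.Perm GolayPt)⁻¹ (y.1.1 ((g : Equiv.Perm GolayPt) z)) = z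
      rw [hzw, hw, ← hzw, perm_inv_apply]
    intro z hz
    simp only [pts3, List.mem_cons, List.not_mem_nil, or_false] at hz
    rcases hz with rfl | rfl | rfl
    · exact hfix _ _ e0 y.2.1.1
    · exact hfix _ _ e1 y.2.1.2
    · exact hfix _ _ e2 y.2.2

/-- A three-point stabiliser is `PSL(3,F)` for any field of order four. -/
theorem tripleStabilizer_psl (p q r : GolayPt) (hpq : p ≠ q) (hpr : p ≠ r) (hqr : q ≠ r)
    (F : Type) [Field F] [Fintype F] (hF : Fintype.card F = 4) :
    Nonempty (↥(MulAction.stabilizer M24 p ⊓ MulAction.stabilizer M24 q ⊓ MulAction.stabilizer M24 r) ≃*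
      ProjectiveSpecialLinearGroup (Fin 3) F) := by
  obtain ⟨e⟩ := nonempty_psl_equiv
  obtain ⟨e'⟩ := nonempty_tripleStabilizer_equiv p q r hpq hpr hqr
  exact ⟨(e.trans e').symm.trans
    (CfsgLib.Linear.pslFieldCongr (CfsgLib.Linear.card_gf4.trans hF.symm))⟩

end CfsgLib.Mathieu.Plane
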