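import Cfsg.Agent.Mathieu.Tables

/-!
The pointwise stabiliser of an octad in `Cfsg.M24` is elementary abelian of order 16.
-/

set_option autoImplicit false

namespace CfsgLib.Mathieu

open Cfsg
open scoped Pointwise

/-- The sixteen members of `M24` fixing the base octad pointwise. -/
def octadTranslations : List ℕ :=
  [566073426779046459040877649791461066728553822781039575296,
    565205769725840036694602927742369884446872112412668068096,
    564728358535254677311065767183622622399995563894844293376,
    565399569250201788234129054762078219177298903141007360256,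
    564827141425591996311280244733034358286479746640136765696,
    565113370743653090875585183308503099927125018657809367296,
    564919185394254767161431177722554914050553753760576962816,
    565878126275019384089453057188730744199984462678812918016,
    564537935142741672021005194776512269838173077554382110976,
    565779711734943905085954662993657873470960937479698514176,
    565493488239986500995722799542798324125175233247107481856,
    565978006712811190384577552928446206662672319317842985216,
    564634823915048411554457391326392249617996968297106637056,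
    564348613710420807073877270882327503557437081886306468096,
    565019463388836171544282210455278000650214024247559454976,
    565685792648485468331498721340437743820357305959352238336]

theorem m24Base_six_spec {g : Equiv.Perm GolayPt} (hg : g ∈ fixList M24 (m24Base.take 6)) :
    (∀ x ∈ setOf24 m24BaseOctad, g x = x) ∧ g * g = 1 := by
  obtain ⟨hg24, hfix⟩ := hg
  obtain ⟨-, -, -, -, -, -, -, -, -, -, -, -, -, u6, -⟩ := m24_chain
  have hq : g (m24Base.getD 6 none) ∈ (setOf24 m24BaseOctad)ᶜ := u6 g hg24 hfix
  have key : ∀ q ∈ (setOf24 m24BaseOctad)ᶜ, (octadTranslations.any fun t =>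
      tableValid t && preservesCode t && (m24Base.take 6).all (fun x => app t (idx x) == idx x) &&
        app t (idx (m24Base.getD 6 none)) == idx q &&
        decide (∀ x ∈ setOf24 m24BaseOctad, app t (idx x) = idx x) &&
        allBelow 24 (fun i => app t (app t i) == i)) = true := by decide +kernel
  obtain ⟨t, -, ht⟩ := List.any_eq_true.1 (key _ hq)
  simp only [Bool.and_eq_true, beq_iff_eq, List.all_eq_true, decide_eq_true_eq, allBelow_iff] at ht
  obtain ⟨⟨⟨⟨⟨hv, hc⟩, h6⟩, h7⟩, hO⟩, hinv⟩ := ht
  obtain ⟨τ, r⟩ := exists_rep_of_valid hv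
  have heq : g = τ := by
    refine M24_ext hg24 (mem_M24_of_table r hc) fun x hx => ?_
    rcases List.mem_append.1
      (show x ∈ m24Base.take 6 ++ [m24Base.getD 6 none] from hx) with hx | hx
    · rw [hfix x hx]; exact (r.apply_eq enc (h6 x hx)).symm
    · rw [List.mem_singleton.1 hx]
      exact (r.apply_eq enc (x := m24Base.getD 6 none) (y := g (m24Base.getD 6 none)) h7).symm
  subst heq
  refine ⟨fun x hx => r.apply_eq enc (hO x hx), Equiv.ext fun x => idx_injective ?_⟩
  have h := hinv _ (idx_lt x)
  rw [show app t (idx x) = idx (g x) from r x, show app t (idx (g x)) = idx (g (g x)) from r (g x)] at h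
  exact h

theorem octad_pointwise_spec {o : Finset GolayPt} (ho : o ∈ octads) :
    Nat.card ↥(M24 ⊓ fixingSubgroup (Equiv.Perm GolayPt) (o : Set GolayPt)) = 16 ∧
      ∀ g ∈ M24 ⊓ fixingSubgroup (Equiv.Perm GolayPt) (o : Set GolayPt), g * g = 1 := by
  obtain ⟨a, ha, hoa⟩ := M24_octad_transitive
    (setOf24_mem_wordsOfWeight (M := m24BaseOctad) (n := 8) (by decide +kernel) (by decide +kernel)) ho
  have hmem : ∀ g, g ∈ fixList M24 (m24Base.take 6) ↔
      a * g * a⁻¹ ∈ M24 ⊓ fixingSubgroup (Equiv.Perm GolayPt) (o : Set GolayPt) := by
    intro g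
    simp only [Subgroup.mem_inf, mem_fixingSubgroup_iff, Finset.mem_coe, Equiv.Perm.smul_def]
    constructor
    · intro hg
      refine ⟨mul_mem (mul_mem ha hg.1) (inv_mem ha), fun x hx => ?_⟩
      rw [← hoa, Finset.mem_image] at hx
      obtain ⟨y, hy, rfl⟩ := hx
      show a (g (a⁻¹ (a y))) = a y
      rw [perm_inv_apply, (m24Base_six_spec hg).1 y hy]
    · rintro ⟨h24, hfix⟩
      refine ⟨?_, fun x hx => a.injective ?_⟩
      · have := mul_mem (mul_mem (inv_mem ha) h24) ha
        simpa [mul_assoc] using this
      · have hxO : x ∈ setOf24 m24BaseOctad :=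
          (by decide +kernel : ∀ x ∈ m24Base.take 6, x ∈ setOf24 m24BaseOctad) x hx
        have h := hfix (a x) (by rw [← hoa]; exact Finset.mem_image_of_mem _ hxO)
        simpa using h
  refine ⟨?_, fun g hg => ?_⟩
  · rw [← Nat.card_congr (conjEquivOfIff a hmem).toEquiv]
    have tail : IsChain' m24Gen M24 (m24Levels.drop 6) (m24Base.take 6) :=
      m24_chain.2.2.2.2.2.2.2.2.2.2.2.2
    rw [(tail.spec m24Gen_le _ _).2]
    decide +kernel
  · have h1 : g = a * (a⁻¹ * g * a) * a⁻¹ := by group
    have h2 := (m24Base_six_spec ((hmem (a⁻¹ * g * a)).2 (h1 ▸ hg))).2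
    calc g * g = a * ((a⁻¹ * g * a) * (a⁻¹ * g * a)) * a⁻¹ := by group
      _ = 1 := by rw [h2]; group

end CfsgLib.Mathieu
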