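import Cfsg.Agent.Mathieu.M24Data

/-!
The order of `Cfsg.M24`, five-fold transitivity, and generation by three permutations.
-/

set_option autoImplicit false

namespace CfsgLib.Mathieu

open Cfsg
open scoped Pointwise

/-- The subgroup generated by translation, inversion and the cube twist. -/
def m24Gen : Subgroup (Equiv.Perm GolayPt) := Subgroup.closure {shiftOne, projInv, cubeTwist}

theorem m24Gen_le : m24Gen ≤ M24 := by
  rw [m24Gen, Subgroup.closure_le]
  rintro g (rfl | rfl | rfl)
  exacts [shiftOne_mem_M24, projInv_mem_M24, cubeTwist_mem_M24]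

theorem m24Strong_inGroup : ∀ t ∈ m24Strong, InGroup enc m24Gen t := by
  have h := inGroup_slp enc (H := m24Gen) m24Steps
    [tableOf shiftOne, tableOf projInvFun, tableOf cubeTwistFun] (by
      intro t ht
      simp only [List.mem_cons, List.not_mem_nil, or_false] at ht
      rcases ht with rfl | rfl | rfl
      · exact ⟨shiftOne, Subgroup.subset_closure (by simp),
          rep_of_tableOK shiftOne (fun _ => rfl) (by decide +kernel)⟩
      · exact ⟨projInv, Subgroup.subset_closure (by simp),
          rep_of_tableOK projInvFun (fun _ => rfl) (by decide +kernel)⟩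
      · exact ⟨cubeTwist, Subgroup.subset_closure (by simp),
          rep_of_tableOK cubeTwistFun (fun p => Equiv.ofBijective_apply (f := cubeTwistFun) _ p)
            (by decide +kernel)⟩)
  have hs : m24Strong.all (fun t => (slp 24
      [tableOf shiftOne, tableOf projInvFun, tableOf cubeTwistFun] m24Steps).contains t) = true := by
    decide +kernel
  exact fun t ht => h t (List.contains_iff_mem.1 (List.all_eq_true.1 hs t ht))

/-- The tree of level `k` reaches `q`. -/
def m24Reaches (k : ℕ) (q : GolayPt) : Bool :=
  (orbitPts m24Strong ((m24Base.take k).map fun x => (enc x).val) [(enc (m24Base.getD k none)).val]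
    (m24Trees.getD k [])).contains (enc q).val

theorem m24_reach (k : ℕ) (q : GolayPt) (h : m24Reaches k q = true) :
    Reach m24Gen (m24Base.take k) (m24Base.getD k none) q :=
  reach_of_tree enc m24Strong_inGroup _ _ _ _ h

theorem fix_image_notMem {g : Equiv.Perm GolayPt} {pre : List GolayPt} (hfix : ∀ x ∈ pre, g x = x)
    {b : GolayPt} (hb : b ∉ pre) : g b ∉ pre := fun h => by
  rw [g.injective (hfix _ h)] at h
  exact hb h

theorem m24BaseOctad_fixed {g : Equiv.Perm GolayPt} (hg : g ∈ M24)
    (hfix : ∀ x ∈ m24Base.take 5, g x = x) :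
    (setOf24 m24BaseOctad).image g = setOf24 m24BaseOctad :=
  image_eq_of_five_fixed hg
    (setOf24_mem_wordsOfWeight (by decide +kernel) (by decide +kernel))
    (s := (m24Base.take 5).toFinset) (fun x hx => hfix x (List.mem_toFinset.1 hx))
    (by decide +kernel)

/-- The orbits along the base. -/
def m24Levels : List (GolayPt × Finset GolayPt) :=
  (List.range 7).map fun k => (m24Base.getD k none,
    if k < 5 then Finset.univ.filter fun q => q ∉ m24Base.take k
    else if k = 5 then setOf24 m24BaseRest else (setOf24 m24BaseOctad)ᶜ)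

theorem m24_chain : IsChain' m24Gen M24 m24Levels [] := by
  have low : ∀ k < 5, m24Base.getD k none ∉ m24Base.take k ∧
      ∀ q, q ∉ m24Base.take k → m24Reaches k q = true := by decide +kernel
  have lower : ∀ k < 5, ∀ q ∈ Finset.univ.filter (fun q => q ∉ m24Base.take k),
      Reach m24Gen (m24Base.take k) (m24Base.getD k none) q := fun k hk q hq =>
    m24_reach k q ((low k hk).2 q (Finset.mem_filter.1 hq).2)
  have upper : ∀ k < 5, ∀ g ∈ M24, (∀ x ∈ m24Base.take k, g x = x) →
      g (m24Base.getD k none) ∈ Finset.univ.filter (fun q => q ∉ m24Base.take k) :=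
    fun k hk g _ hfix => Finset.mem_filter.2
      ⟨Finset.mem_univ _, fix_image_notMem hfix (low k hk).1⟩
  refine ⟨lower 0 (by norm_num), upper 0 (by norm_num), lower 1 (by norm_num), upper 1 (by norm_num),
    lower 2 (by norm_num), upper 2 (by norm_num), lower 3 (by norm_num), upper 3 (by norm_num),
    lower 4 (by norm_num), upper 4 (by norm_num), ?_, ?_, ?_, ?_, ?_⟩
  · exact fun q hq => m24_reach 5 q
      ((by decide +kernel : ∀ q ∈ setOf24 m24BaseRest, m24Reaches 5 q = true) q hq)
  · intro g hg hfix
    have hfix' : ∀ x ∈ m24Base.take 5, g x = x := hfix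
    have h1 : g (m24Base.getD 5 none) ∈ setOf24 m24BaseOctad := by
      rw [← m24BaseOctad_fixed hg hfix']
      exact Finset.mem_image_of_mem _ (by decide +kernel)
    have h2 := fix_image_notMem hfix' (b := m24Base.getD 5 none) (by decide +kernel)
    exact (by decide +kernel : ∀ q ∈ setOf24 m24BaseOctad, q ∉ m24Base.take 5 →
      q ∈ setOf24 m24BaseRest) _ h1 h2
  · exact fun q hq => m24_reach 6 q
      ((by decide +kernel : ∀ q ∈ (setOf24 m24BaseOctad)ᶜ, m24Reaches 6 q = true) q hq)
  · intro g hg hfix
    have hfix' : ∀ x ∈ m24Base.take 5, g x = x := fun x hx => hfix x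
      ((List.take_sublist_take_left (by norm_num : 5 ≤ 6)).subset hx)
    refine Finset.mem_compl.2 fun h => ?_
    rw [← m24BaseOctad_fixed hg hfix', Finset.mem_image] at h
    obtain ⟨y, hy, he⟩ := h
    rw [g.injective he] at hy
    exact (by decide +kernel : m24Base.getD 6 none ∉ setOf24 m24BaseOctad) hy
  · intro g hg hfix
    refine derivesAll_sound hg m24Derivation (maskOf m24Base.toFinset) [] ?_ (by simp)
      (by decide +kernel)
    intro p hp
    rw [setOf24_maskOf, List.mem_toFinset] at hp
    exact hfix p hp

theorem m24Gen_eq : m24Gen = M24 := (m24_chain.eq_and_card m24Gen_le).1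

theorem card_M24 : Nat.card M24 = 244823040 := by
  rw [(m24_chain.eq_and_card m24Gen_le).2]; decide +kernel

/-- An element of the code's group is determined by the images of the seven base points. -/
theorem M24_ext {g h : Equiv.Perm GolayPt} (hg : g ∈ M24) (hh : h ∈ M24)
    (e : ∀ x ∈ m24Base, g x = h x) : g = h := by
  refine (inv_mul_eq_one.1 (derivesAll_sound (g := h⁻¹ * g) (mul_mem (inv_mem hh) hg) m24Derivation
    (maskOf m24Base.toFinset) [] ?_ (by simp) (by decide +kernel))).symm
  intro p hp
  rw [setOf24_maskOf, List.mem_toFinset] at hp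
  show h⁻¹ (g p) = p
  rw [e p hp, perm_inv_apply]

theorem M24_map_five (x y : Fin 5 → GolayPt) (hx : Function.Injective x)
    (hy : Function.Injective y) : ∃ g ∈ M24, ∀ i, g (x i) = y i := by
  have htr : IsTransChain m24Gen Set.univ (m24Base.take 5) [] := by
    have low : ∀ k < 5, ∀ q, q ∉ m24Base.take k → m24Reaches k q = true := by decide +kernel
    exact ⟨fun q _ h => m24_reach 0 q (low 0 (by norm_num) q h),
      fun q _ h => m24_reach 1 q (low 1 (by norm_num) q h),
      fun q _ h => m24_reach 2 q (low 2 (by norm_num) q h),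
      fun q _ h => m24_reach 3 q (low 3 (by norm_num) q h),
      fun q _ h => m24_reach 4 q (low 4 (by norm_num) q h), trivial⟩
  have key : ∀ z : Fin 5 → GolayPt, Function.Injective z →
      ∃ g ∈ M24, (m24Base.take 5).map g = List.ofFn z := by
    intro z hz
    obtain ⟨g, hg, -, h⟩ := htr.exists_map (fun _ _ _ _ => Set.mem_univ _) _ _ (List.ofFn z)
      (by simp [m24Base]) (by simpa using List.nodup_ofFn.2 hz) (fun _ _ => Set.mem_univ _)
    exact ⟨g, m24Gen_le hg, h⟩
  obtain ⟨a, ha, hax⟩ := key x hx
  obtain ⟨b, hb, hby⟩ := key y hy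
  refine ⟨b * a⁻¹, mul_mem hb (inv_mem ha), fun i => ?_⟩
  have h1 : List.ofFn y = (List.ofFn x).map (b * a⁻¹) := by
    rw [← hby, ← hax, List.map_map]
    exact List.map_congr_left fun p _ => by simp
  rw [List.map_ofFn] at h1
  exact (congrFun (List.ofFn_injective h1) i).symm

end CfsgLib.Mathieu
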