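import Mathlib

/-!
Certificates for orders and transitivity of small permutation groups: permutations are packed into
natural numbers (eight bits for each point), straight line programs show that tables belong to a
subgroup, and stabiliser chains give orders.
-/

set_option autoImplicit false

namespace CfsgLib.Mathieu

/-- Entry `i` of a packed table. -/
def app (t i : ℕ) : ℕ := (t >>> (8 * i)) % 256

/-- `(List.range n).all`, in the form used by the checkers. -/
def allBelow (n : ℕ) (p : ℕ → Bool) : Bool := (List.range n).all p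

theorem allBelow_iff {n : ℕ} {p : ℕ → Bool} : allBelow n p = true ↔ ∀ i < n, p i = true := by
  simp [allBelow]

/-- A step of a straight line program: product or inverse of earlier entries, with its table. -/
inductive Step where
  | mul (i j c : ℕ)
  | inv (i c : ℕ)

/-- The check of one step against the entries found so far. -/
def Step.check (n : ℕ) (env : List ℕ) : Step → Option ℕ
  | .mul i j c =>
    match env[i]?, env[j]? with
    | some a, some b => if allBelow n (fun k => app c k == app a (app b k)) then some c else none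
    | _, _ => none
  | .inv i c =>
    match env[i]? with
    | some a => if allBelow n (fun k => app c (app a k) == k) then some c else none
    | none => none

/-- Run a straight line program; it stops at the first step that does not check. -/
def slp (n : ℕ) : List ℕ → List Step → List ℕ
  | env, [] => env
  | env, s :: rest =>
    match s.check n env with
    | some c => slp n (env ++ [c]) rest
    | none => env

theorem perm_apply_inv {β : Type*} (σ : Equiv.Perm β) (x : β) : σ (σ⁻¹ x) = x :=
  Equiv.apply_symm_apply σ x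

theorem perm_inv_apply {β : Type*} (σ : Equiv.Perm β) (x : β) : σ⁻¹ (σ x) = x :=
  Equiv.symm_apply_apply σ x

section
variable {α : Type*} {n : ℕ} (e : α ≃ Fin n)

/-- The table `t` represents the permutation `σ`. -/
def Rep (σ : Equiv.Perm α) (t : ℕ) : Prop := ∀ x, app t (e x).val = (e (σ x)).val

/-- The table `t` is that of a member of `H`. -/
def InGroup (H : Subgroup (Equiv.Perm α)) (t : ℕ) : Prop := ∃ σ ∈ H, Rep e σ t

theorem Rep.apply_eq {σ : Equiv.Perm α} {t : ℕ} (h : Rep e σ t) {x y : α}
    (hxy : app t (e x).val = (e y).val) : σ x = y :=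
  e.injective (Fin.ext ((h x).symm.trans hxy))

theorem Rep.of_forall_fin {σ : Equiv.Perm α} {t : ℕ}
    (h : ∀ i : Fin n, app t i.val = (e (σ (e.symm i))).val) : Rep e σ t :=
  fun x => by simpa using h (e x)

theorem InGroup.mul {H : Subgroup (Equiv.Perm α)} {a b c : ℕ} (ha : InGroup e H a)
    (hb : InGroup e H b) (h : allBelow n (fun k => app c k == app a (app b k)) = true) :
    InGroup e H c := by
  obtain ⟨σ, hσ, rσ⟩ := ha
  obtain ⟨τ, hτ, rτ⟩ := hb
  refine ⟨σ * τ, mul_mem hσ hτ, fun x => ?_⟩
  have := allBelow_iff.1 h _ (e x).isLt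
  rw [beq_iff_eq] at this
  rw [this, rτ x, rσ (τ x)]; rfl

theorem InGroup.inv {H : Subgroup (Equiv.Perm α)} {a c : ℕ} (ha : InGroup e H a)
    (h : allBelow n (fun k => app c (app a k) == k) = true) : InGroup e H c := by
  obtain ⟨σ, hσ, rσ⟩ := ha
  refine ⟨σ⁻¹, inv_mem hσ, fun x => ?_⟩
  have := allBelow_iff.1 h _ (e (σ⁻¹ x)).isLt
  rw [beq_iff_eq, rσ (σ⁻¹ x), perm_apply_inv] at this
  exact this

theorem inGroup_check {H : Subgroup (Equiv.Perm α)} {env : List ℕ} (henv : ∀ t ∈ env, InGroup e H t)
    {s : Step} {c : ℕ} (h : s.check n env = some c) : InGroup e H c := by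
  cases s with
  | mul i j d =>
    simp only [Step.check] at h
    split at h
    · rename_i a b ha hb
      split at h
      · rename_i hc
        cases h
        exact InGroup.mul e (henv a (List.mem_of_getElem? ha)) (henv b (List.mem_of_getElem? hb)) hc
      · cases h
    · cases h
  | inv i d =>
    simp only [Step.check] at h
    split at h
    · rename_i a ha
      split at h
      · rename_i hc
        cases h
        exact InGroup.inv e (henv a (List.mem_of_getElem? ha)) hc
      · cases h
    · cases h

theorem inGroup_slp {H : Subgroup (Equiv.Perm α)} : ∀ (steps : List Step) (env : List ℕ),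
    (∀ t ∈ env, InGroup e H t) → ∀ t ∈ slp n env steps, InGroup e H t
  | [], env, h => h
  | s :: rest, env, h => by
    simp only [slp]
    split
    · rename_i c hc
      refine inGroup_slp rest _ fun t ht => ?_
      rcases List.mem_append.1 ht with ht | ht
      · exact h t ht
      · rw [List.mem_singleton.1 ht]; exact inGroup_check e h hc
    · exact h

end

/-! ### Orbits of point stabilisers -/

/-- Points reached from `b` along a tree of edges (`parent`, table, `child`), all tables fixing `pre`. -/
def orbitPts (gens pre : List ℕ) : List ℕ → List (ℕ × ℕ × ℕ) → List ℕ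
  | seen, [] => seen
  | seen, (p, g, q) :: rest =>
    match gens[g]? with
    | some t =>
      if seen.contains p && app t p == q && pre.all (fun x => app t x == x) then
        orbitPts gens pre (seen ++ [q]) rest
      else seen
    | none => seen

section
variable {α : Type*} {n : ℕ} (e : α ≃ Fin n)

/-- Some member of `H` fixes `pre` pointwise and takes `b` to `q`. -/
def Reach (H : Subgroup (Equiv.Perm α)) (pre : List α) (b q : α) : Prop :=
  ∃ σ ∈ H, (∀ x ∈ pre, σ x = x) ∧ σ b = q

theorem reach_orbitPts {H : Subgroup (Equiv.Perm α)} {gens : List ℕ}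
    (hg : ∀ t ∈ gens, InGroup e H t) (pre : List α) (b : α) :
    ∀ (tree : List (ℕ × ℕ × ℕ)) (seen : List ℕ),
      (∀ q, (e q).val ∈ seen → Reach H pre b q) → (∀ p ∈ seen, p < n) →
      ∀ q, (e q).val ∈ orbitPts gens (pre.map fun x => (e x).val) seen tree → Reach H pre b q
  | [], seen, h, _ => h
  | (p, g, q') :: rest, seen, h, hlt => by
    simp only [orbitPts]
    split
    · rename_i t ht
      split
      · rename_i hc
        simp only [Bool.and_eq_true, List.contains_iff_mem, beq_iff_eq, List.all_eq_true] at hc
        obtain ⟨⟨hp, happ⟩, hfix⟩ := hc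
        obtain ⟨σ, hσ, rσ⟩ := hg t (List.mem_of_getElem? ht)
        have hq'lt : q' < n := by
          have := rσ (e.symm ⟨p, hlt p hp⟩)
          rw [Equiv.apply_symm_apply, happ] at this
          omega
        refine reach_orbitPts hg pre b rest _ (fun q hq => ?_) (fun r hr => ?_)
        · rcases List.mem_append.1 hq with hq | hq
          · exact h q hq
          · obtain ⟨τ, hτ, hτfix, hτb⟩ := h (e.symm ⟨p, hlt p hp⟩) (by simpa using hp)
            refine ⟨σ * τ, mul_mem hσ hτ, fun x hx => ?_, ?_⟩
            · show σ (τ x) = x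
              rw [hτfix x hx]
              exact rσ.apply_eq e (hfix _ (List.mem_map.2 ⟨x, hx, rfl⟩))
            · show σ (τ b) = q
              rw [hτb]
              refine rσ.apply_eq e ?_
              simpa [happ] using (List.mem_singleton.1 hq).symm
        · rcases List.mem_append.1 hr with hr | hr
          · exact hlt r hr
          · rw [List.mem_singleton.1 hr]; exact hq'lt
      · exact h
    · exact h

theorem reach_of_tree {H : Subgroup (Equiv.Perm α)} {gens : List ℕ}
    (hg : ∀ t ∈ gens, InGroup e H t) (pre : List α) (b : α) (tree : List (ℕ × ℕ × ℕ)) (q : α)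
    (h : (orbitPts gens (pre.map fun x => (e x).val) [(e b).val] tree).contains (e q).val = true) :
    Reach H pre b q := by
  refine reach_orbitPts e hg pre b tree _ (fun q hq => ?_) (fun p hp => ?_) q
    (List.contains_iff_mem.1 h)
  · refine ⟨1, one_mem H, fun _ _ => rfl, ?_⟩
    exact (e.injective (Fin.ext (List.mem_singleton.1 hq))).symm
  · rw [List.mem_singleton.1 hp]; exact (e b).isLt

end

/-! ### Stabiliser chains -/

section
variable {α : Type*}

/-- The members of `G` fixing each point of `pre`. -/
def fixList (G : Subgroup (Equiv.Perm α)) (pre : List α) : Subgroup (Equiv.Perm α) where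
  carrier := {g | g ∈ G ∧ ∀ x ∈ pre, g x = x}
  one_mem' := ⟨one_mem G, fun _ _ => rfl⟩
  mul_mem' := fun {a b} ha hb => ⟨mul_mem ha.1 hb.1, fun x hx => by
    show a (b x) = x
    rw [hb.2 x hx, ha.2 x hx]⟩
  inv_mem' := fun {a} ha => ⟨inv_mem ha.1, fun x hx => a.injective (by
    rw [perm_apply_inv, ha.2 x hx])⟩

theorem mem_fixList {G : Subgroup (Equiv.Perm α)} {pre : List α} {g : Equiv.Perm α} :
    g ∈ fixList G pre ↔ g ∈ G ∧ ∀ x ∈ pre, g x = x := Iff.rfl

theorem fixList_nil (G : Subgroup (Equiv.Perm α)) : fixList G [] = G := by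
  ext g; simp [mem_fixList]

/-- A chain of base points and orbits, attained in `H` and bounding `G`. -/
def IsChain' (H G : Subgroup (Equiv.Perm α)) : List (α × Finset α) → List α → Prop
  | [], pre => ∀ g ∈ G, (∀ x ∈ pre, g x = x) → g = 1
  | (b, O) :: rest, pre => (∀ q ∈ O, Reach H pre b q) ∧
      (∀ g ∈ G, (∀ x ∈ pre, g x = x) → g b ∈ O) ∧ IsChain' H G rest (pre ++ [b])

theorem IsChain'.spec {H G : Subgroup (Equiv.Perm α)} (hHG : H ≤ G) :
    ∀ (L : List (α × Finset α)) (pre : List α), IsChain' H G L pre →
      fixList G pre ≤ H ∧ Nat.card (fixList G pre) = (L.map fun l => l.2.card).prod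
  | [], pre, h => by
    have hb : fixList G pre = ⊥ := (Subgroup.eq_bot_iff_forall _).2 fun g hg => h g hg.1 hg.2
    rw [hb]
    exact ⟨bot_le, by simp⟩
  | (b, O) :: rest, pre, ⟨hr, hu, hrest⟩ => by
    obtain ⟨ihH, ihcard⟩ := IsChain'.spec hHG rest _ hrest
    choose t htH htfix htb using hr
    have htG : ∀ q hq, t q hq ∈ fixList G pre := fun q hq => ⟨hHG (htH q hq), htfix q hq⟩
    have hnext : ∀ g : fixList G pre,
        (t _ (hu g.1 g.2.1 g.2.2))⁻¹ * g.1 ∈ fixList G (pre ++ [b]) := by
      intro g
      have h1 := mul_mem (inv_mem (htG _ (hu g.1 g.2.1 g.2.2))) g.2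
      refine ⟨h1.1, fun x hx => ?_⟩
      rcases List.mem_append.1 hx with hx | hx
      · exact h1.2 x hx
      · rw [List.mem_singleton.1 hx]
        show (t _ (hu g.1 g.2.1 g.2.2))⁻¹ (g.1 b) = b
        exact (Equiv.symm_apply_eq _).2 (htb (g.1 b) _).symm
    refine ⟨fun g hg => ?_, ?_⟩
    · have := mul_mem (htH _ (hu g hg.1 hg.2)) (ihH (hnext ⟨g, hg⟩))
      simpa using this
    · have hsub : fixList G (pre ++ [b]) ≤ fixList G pre :=
        fun g hg => ⟨hg.1, fun x hx => hg.2 x (List.mem_append_left _ hx)⟩
      let f : fixList G pre ≃ {q // q ∈ O} × fixList G (pre ++ [b]) :=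
        { toFun := fun g => (⟨g.1 b, hu g.1 g.2.1 g.2.2⟩, ⟨_, hnext g⟩)
          invFun := fun p => ⟨t p.1.1 p.1.2 * p.2.1, mul_mem (htG _ p.1.2) (hsub p.2.2)⟩
          left_inv := fun g => Subtype.ext (by simp)
          right_inv := fun p => by
            obtain ⟨⟨q, hq⟩, ⟨k, hk⟩⟩ := p
            have hkb : k b = b := hk.2 b (by simp)
            have e1 : (t q hq * k) b = q := by
              show t q hq (k b) = q
              rw [hkb, htb]
            ext1
            · exact Subtype.ext e1
            · refine Subtype.ext ?_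
              show (t _ _)⁻¹ * (t q hq * k) = k
              have e2 : ∀ q' (hq' : q' ∈ O), q' = q → (t q' hq')⁻¹ * (t q hq * k) = k := by
                intro q' hq' rfl'
                subst rfl'
                group
              exact e2 _ _ e1 }
      rw [Nat.card_congr f, Nat.card_prod, ihcard, List.map_cons, List.prod_cons,
        Nat.card_eq_fintype_card, Fintype.card_coe]

theorem IsChain'.eq_and_card {H G : Subgroup (Equiv.Perm α)} (hHG : H ≤ G)
    {L : List (α × Finset α)} (h : IsChain' H G L []) :
    H = G ∧ Nat.card G = (L.map fun l => l.2.card).prod := by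
  have := h.spec hHG L []
  rw [fixList_nil] at this
  exact ⟨le_antisymm hHG this.1, this.2⟩

/-- Levels whose orbits are everything outside the prefix give transitivity on tuples. -/
def IsTransChain (H : Subgroup (Equiv.Perm α)) (Ω : Set α) : List α → List α → Prop
  | [], _ => True
  | b :: rest, pre => (∀ q ∈ Ω, q ∉ pre → Reach H pre b q) ∧ IsTransChain H Ω rest (pre ++ [b])

theorem IsTransChain.exists_map {H : Subgroup (Equiv.Perm α)} {Ω : Set α}
    (hΩ : ∀ σ ∈ H, ∀ x ∈ Ω, σ x ∈ Ω) :
    ∀ (bs pre : List α), IsTransChain H Ω bs pre → ∀ ys : List α, ys.length = bs.length →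
      (pre ++ ys).Nodup → (∀ y ∈ ys, y ∈ Ω) →
      ∃ σ ∈ H, (∀ x ∈ pre, σ x = x) ∧ bs.map σ = ys
  | [], pre, _, ys, hl, _, _ => ⟨1, one_mem H, fun _ _ => rfl,
      by rw [List.length_eq_zero_iff.1 hl]; rfl⟩
  | b :: rest, pre, ⟨hr, hrest⟩, [], hl, _, _ => by simp at hl
  | b :: rest, pre, ⟨hr, hrest⟩, y :: ys, hl, hnd, hmem => by
    rw [List.nodup_append] at hnd
    obtain ⟨hpre, hys, hdis⟩ := hnd
    rw [List.nodup_cons] at hys
    obtain ⟨σ, hσ, hfix, hb⟩ := hr y (hmem y (by simp)) (fun h => hdis y h y (by simp) rfl)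
    have hnd' : ((pre ++ [b]) ++ ys.map ⇑σ⁻¹).Nodup := by
      have e : (pre ++ [b]) ++ ys.map ⇑σ⁻¹ = (pre ++ y :: ys).map ⇑σ⁻¹ := by
        have h1 : pre.map ⇑σ⁻¹ = pre := (List.map_congr_left fun x hx =>
          (σ.injective (by rw [perm_apply_inv]; exact (hfix x hx).symm) : σ⁻¹ x = id x)).trans
          (List.map_id pre)
        have h2 : σ⁻¹ y = b := by rw [← hb, perm_inv_apply]
        rw [List.map_append, List.map_cons, h1, h2, List.append_assoc]; rfl
      rw [e]
      refine List.Nodup.map σ⁻¹.injective ?_
      rw [List.nodup_append, List.nodup_cons]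
      exact ⟨hpre, hys, hdis⟩
    obtain ⟨τ, hτ, hτfix, hτmap⟩ := IsTransChain.exists_map hΩ rest _ hrest (ys.map ⇑σ⁻¹)
      (by simpa using hl) hnd'
      (fun z hz => by
        obtain ⟨w, hw, rfl⟩ := List.mem_map.1 hz
        exact hΩ _ (inv_mem hσ) w (hmem w (by simp [hw])))
    refine ⟨σ * τ, mul_mem hσ hτ, fun x hx => ?_, ?_⟩
    · show σ (τ x) = x
      rw [hτfix x (by simp [hx]), hfix x hx]
    · have h1 : σ (τ b) = y := by rw [hτfix b (by simp), hb]
      have h2 : rest.map (⇑(σ * τ)) = ys := by
        rw [Equiv.Perm.coe_mul, ← List.map_map, hτmap, List.map_map]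
        simp
      simp only [List.map_cons, h2]
      exact congrArg (· :: ys) h1

end

end CfsgLib.Mathieu
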