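import Cfsg.Agent.Mathieu.Mask

/-!
The binary code `Cfsg.golayCode`, decided on 24-bit masks: dimension, weights, the Steiner system of octads.
-/

set_option autoImplicit false

namespace CfsgLib.Mathieu

open Cfsg
open scoped symmDiff

/-- Sum (bitwise exclusive or) of the rows selected by the low bits of `m`. -/
def xorSel : List ℕ → ℕ → ℕ
  | [], _ => 0
  | r :: rs, m => (if m % 2 = 1 then r else 0) ^^^ xorSel rs (m / 2)

theorem xorSel_xor : ∀ (l : List ℕ) (m n : ℕ), xorSel l (m ^^^ n) = xorSel l m ^^^ xorSel l n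
  | [], _, _ => (Nat.zero_xor 0).symm
  | r :: rs, m, n => by
    simp only [xorSel]
    rw [show (m ^^^ n) / 2 = m / 2 ^^^ n / 2 from Nat.xor_div_two_pow (n := 1), xorSel_xor rs]
    have hmod : (m ^^^ n) % 2 = 1 ↔ ¬(m % 2 = 1 ↔ n % 2 = 1) := Nat.xor_mod_two_eq_one
    have e : (if (m ^^^ n) % 2 = 1 then r else 0) =
        (if m % 2 = 1 then r else 0) ^^^ (if n % 2 = 1 then r else 0) := by
      by_cases h : m % 2 = 1 <;> by_cases h' : n % 2 = 1 <;>
        simp only [hmod, h, h', iff_self, not_true_eq_false, iff_false, false_iff, not_false_eq_true,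
          if_true, if_false, Nat.xor_self, Nat.xor_zero, Nat.zero_xor]
    rw [e]; ac_rfl

theorem xorSel_mod : ∀ (l : List ℕ) (m : ℕ), xorSel l (m % 2 ^ l.length) = xorSel l m
  | [], _ => rfl
  | r :: rs, m => by
    simp only [xorSel, List.length_cons, pow_succ']
    rw [Nat.mod_mul_right_div_self, xorSel_mod rs, Nat.mod_mul_right_mod]

theorem xorSel_lt {b : ℕ} : ∀ (l : List ℕ) (m : ℕ), (∀ r ∈ l, r < 2 ^ b) → xorSel l m < 2 ^ b
  | [], _, _ => Nat.two_pow_pos b
  | r :: rs, m, h => by
    simp only [xorSel]
    refine Nat.xor_lt_two_pow ?_ (xorSel_lt rs _ fun x hx => h x (by simp [hx]))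
    split
    · exact h r (by simp)
    · exact Nat.two_pow_pos b

/-- A systematic basis of the code: row `i` has low twelve bits `2 ^ i`. -/
def codeRows : List ℕ :=
  [13062145, 4845570, 13938692, 7221256, 10170384, 11952160, 15515712, 2019456, 4038912, 8077824,
    11654144, 14919680]

/-- The code word with information bits `m`. -/
def codeMask (m : ℕ) : ℕ := xorSel codeRows m

/-- The mask `M` is the support of a code word. -/
def isCode (M : ℕ) : Bool := codeMask M == M

theorem isCode_iff {M : ℕ} : isCode M = true ↔ codeMask M = M := by simp [isCode]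

theorem codeRows_lt : ∀ r ∈ codeRows, r < 2 ^ 24 := by decide +kernel

theorem isCode_lt {M : ℕ} (h : isCode M = true) : M < 2 ^ 24 := by
  rw [← isCode_iff.1 h]; exact xorSel_lt _ _ codeRows_lt

theorem isCode_xor {M N : ℕ} (h : isCode M = true) (h' : isCode N = true) :
    isCode (M ^^^ N) = true := by
  rw [isCode_iff] at *
  rw [codeMask, xorSel_xor, ← codeMask, ← codeMask, h, h']

theorem isCode_zero : isCode 0 = true := by decide +kernel

theorem isCode_full : isCode 16777215 = true := by decide +kernel

/-- `xorSel l m` lies in any set containing the members of `l` and closed under exclusive or. -/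
theorem xorSel_induction (S : ℕ → Prop) (h0 : S 0) (hx : ∀ a b, S a → S b → S (a ^^^ b)) :
    ∀ (l : List ℕ) (m : ℕ), (∀ r ∈ l, S r) → S (xorSel l m)
  | [], _, _ => h0
  | r :: rs, m, h => by
    simp only [xorSel]
    refine hx _ _ ?_ (xorSel_induction S h0 hx rs _ fun x hx => h x (by simp [hx]))
    split
    · exact h r (by simp)
    · exact h0

theorem isCode_codeMask (m : ℕ) : isCode (codeMask m) = true :=
  xorSel_induction (fun M => isCode M = true) isCode_zero (fun _ _ => isCode_xor) _ _
    (by decide +kernel)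

theorem exists_codeMask {M : ℕ} (h : isCode M = true) : ∃ m < 4096, M = codeMask m := by
  refine ⟨M % 2 ^ codeRows.length, Nat.mod_lt _ (Nat.two_pow_pos _), ?_⟩
  rw [codeMask, xorSel_mod, ← codeMask, isCode_iff.1 h]

theorem codeMask_injOn {a b : ℕ} (ha : a < 4096) (hb : b < 4096) (h : codeMask a = codeMask b) :
    a = b := by
  have key : (List.range 4096).all (fun m => codeMask m % 4096 == m) = true := by decide +kernel
  have key' : ∀ m < 4096, codeMask m % 4096 = m := fun m hm =>
    by simpa using List.all_eq_true.1 key m (List.mem_range.2 hm)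
  rw [← key' a ha, ← key' b hb, h]

/-- The generating words of the definition, as masks: the translates of the squares, and all ones. -/
def genMasks : List ℕ :=
  [340831, 681662, 1363324, 2726648, 5453296, 2517985, 5035970, 1683333, 3366666, 6733332, 5078057,
    1767507, 3535014, 7070028, 5751449, 3114291, 6228582, 4068557, 8137114, 7885621, 7382635,
    6376663, 4364719, 16777215]

/-- How each basis row is a sum of generating words. -/
def rowCerts : List ℕ :=
  [8390313, 280, 8389785, 1400, 8390330, 8390551, 8390093, 2000, 1347, 101, 8390243, 8390181]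

theorem codeRows_eq : codeRows = rowCerts.map (xorSel genMasks) := by decide +kernel

theorem qrWord_eq : ∀ t : ZMod 23, qrWord t = wordOf (genMasks.getD t.val 0) := by decide +kernel

theorem one_eq : (1 : GolayPt → ZMod 2) = wordOf 16777215 := by decide +kernel

theorem wordOf_mem_of_isCode {M : ℕ} (h : isCode M = true) : wordOf M ∈ golayCode := by
  have hg : ∀ r ∈ genMasks, wordOf r ∈ golayCode := by
    intro r hr
    have : ∀ r ∈ genMasks, r = 16777215 ∨ ∃ t : ZMod 23, r = genMasks.getD t.val 0 := by
      decide +kernel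
    rcases this r hr with rfl | ⟨t, rfl⟩
    · exact Submodule.subset_span (Or.inr (by rw [Set.mem_singleton_iff, one_eq]))
    · exact Submodule.subset_span (Or.inl ⟨t, qrWord_eq t⟩)
  have h0 : wordOf 0 ∈ golayCode := by rw [wordOf_zero]; exact zero_mem _
  have hx : ∀ a b, wordOf a ∈ golayCode → wordOf b ∈ golayCode → wordOf (a ^^^ b) ∈ golayCode :=
    fun a b ha hb => by rw [wordOf_xor]; exact add_mem ha hb
  rw [← isCode_iff.1 h]
  refine xorSel_induction (fun M => wordOf M ∈ golayCode) h0 hx _ _ ?_
  rw [codeRows_eq]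
  intro r hr
  obtain ⟨c, -, rfl⟩ := List.mem_map.1 hr
  exact xorSel_induction (fun M => wordOf M ∈ golayCode) h0 hx _ _ hg

/-- The code as a submodule cut out by `isCode`. -/
theorem exists_isCode_of_mem {w : GolayPt → ZMod 2} (hw : w ∈ golayCode) :
    ∃ M, isCode M = true ∧ w = wordOf M := by
  induction hw using Submodule.span_induction with
  | mem x hx =>
    rcases hx with ⟨t, rfl⟩ | hx
    · exact ⟨_, (by decide +kernel : ∀ t : ZMod 23, isCode (genMasks.getD t.val 0) = true) t,
        qrWord_eq t⟩
    · rw [Set.mem_singleton_iff] at hx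
      exact ⟨_, isCode_full, hx.trans one_eq⟩
  | zero => exact ⟨0, isCode_zero, wordOf_zero.symm⟩
  | add x y _ _ hx hy =>
    obtain ⟨M, hM, rfl⟩ := hx
    obtain ⟨N, hN, rfl⟩ := hy
    exact ⟨_, isCode_xor hM hN, (wordOf_xor M N).symm⟩
  | smul a x _ hx =>
    obtain ⟨M, hM, rfl⟩ := hx
    rcases (by decide : ∀ z : ZMod 2, z = 0 ∨ z = 1) a with rfl | rfl
    · exact ⟨0, isCode_zero, by rw [zero_smul, wordOf_zero]⟩
    · exact ⟨M, hM, one_smul _ _⟩

theorem mem_golayCode_iff (w : GolayPt → ZMod 2) :
    w ∈ golayCode ↔ isCode (maskOf (support₂ w)) = true := by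
  constructor
  · intro hw
    obtain ⟨M, hM, rfl⟩ := exists_isCode_of_mem hw
    rw [support₂_wordOf, setOf24_inj (maskOf_lt _) (isCode_lt hM) (setOf24_maskOf _)]
    exact hM
  · intro h
    rw [eq_wordOf_maskOf w]
    exact wordOf_mem_of_isCode h

theorem mem_supports_iff (s : Finset GolayPt) :
    s ∈ supports (golayCode : Set (GolayPt → ZMod 2)) ↔ isCode (maskOf s) = true := by
  constructor
  · rintro ⟨w, hw, rfl⟩
    exact (mem_golayCode_iff w).1 hw
  · intro h
    exact ⟨_, wordOf_mem_of_isCode h, by rw [support₂_wordOf, setOf24_maskOf]⟩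

theorem setOf24_mem_supports {M : ℕ} (h : isCode M = true) :
    setOf24 M ∈ supports (golayCode : Set (GolayPt → ZMod 2)) :=
  ⟨_, wordOf_mem_of_isCode h, support₂_wordOf M⟩

theorem supports_eq :
    supports (golayCode : Set (GolayPt → ZMod 2)) = setOf24 '' {M | isCode M = true} := by
  ext s
  refine ⟨fun h => ⟨maskOf s, (mem_supports_iff s).1 h, setOf24_maskOf s⟩, ?_⟩
  rintro ⟨M, hM, rfl⟩
  exact setOf24_mem_supports hM

theorem setOf24_injOn_code : Set.InjOn setOf24 {M | isCode M = true} :=
  fun _ ha _ hb h => setOf24_inj (isCode_lt ha) (isCode_lt hb) h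

theorem ncard_codeMasks : {M | isCode M = true}.ncard = 4096 := by
  have : {M | isCode M = true} = codeMask '' (Finset.range 4096 : Set ℕ) := by
    ext M
    simp only [Set.mem_ofPred_eq, Finset.coe_range, Set.mem_image, Set.mem_Iio]
    constructor
    · intro h; obtain ⟨m, hm, rfl⟩ := exists_codeMask h; exact ⟨m, hm, rfl⟩
    · rintro ⟨m, -, rfl⟩; exact isCode_codeMask m
  rw [this, Set.InjOn.ncard_image, Set.ncard_coe_finset, Finset.card_range]
  intro a ha b hb h
  exact codeMask_injOn (by simpa using ha) (by simpa using hb) h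

theorem finrank_golayCode : Module.finrank (ZMod 2) golayCode = 12 := by
  have hc : Nat.card golayCode = 2 ^ 12 := by
    have : (golayCode : Set (GolayPt → ZMod 2)) = wordOf '' {M | isCode M = true} := by
      ext w
      exact ⟨fun h => by obtain ⟨M, hM, rfl⟩ := exists_isCode_of_mem h; exact ⟨M, hM, rfl⟩,
        by rintro ⟨M, hM, rfl⟩; exact wordOf_mem_of_isCode hM⟩
    change Nat.card (golayCode : Set (GolayPt → ZMod 2)) = _
    rw [Nat.card_coe_set_eq, this, Set.InjOn.ncard_image (fun a ha b hb h =>
      setOf24_injOn_code ha hb (by rw [← support₂_wordOf, h, support₂_wordOf])), ncard_codeMasks]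
    norm_num
  have h2 := Module.natCard_eq_pow_finrank (K := ZMod 2) (V := golayCode)
  rw [hc, Nat.card_zmod] at h2
  exact (Nat.pow_right_injective (le_refl 2) h2).symm

/-! ### Weights -/

theorem weight_cases {M : ℕ} (h : isCode M = true) :
    wt M = 0 ∨ wt M = 8 ∨ wt M = 12 ∨ wt M = 16 ∨ wt M = 24 := by
  have key : (List.range 4096).all (fun m =>
      let w := wt (codeMask m)
      w == 0 || w == 8 || w == 12 || w == 16 || w == 24) = true := by decide +kernel
  obtain ⟨m, hm, rfl⟩ := exists_codeMask h
  have := List.all_eq_true.1 key m (List.mem_range.2 hm)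
  simpa [or_assoc] using this

theorem wt_eq_zero {M : ℕ} (h : isCode M = true) (h0 : wt M = 0) : M = 0 := by
  refine setOf24_inj (isCode_lt h) (Nat.two_pow_pos _) ?_
  rw [setOf24_zero, ← Finset.card_eq_zero, card_setOf24, h0]

theorem mem_wordsOfWeight_iff (s : Finset GolayPt) (n : ℕ) :
    s ∈ wordsOfWeight (golayCode : Set (GolayPt → ZMod 2)) n ↔
      isCode (maskOf s) = true ∧ wt (maskOf s) = n := by
  rw [← card_setOf24, setOf24_maskOf, ← mem_supports_iff]; rfl

theorem setOf24_mem_wordsOfWeight {M n : ℕ} (h : isCode M = true) (hn : wt M = n) :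
    setOf24 M ∈ wordsOfWeight (golayCode : Set (GolayPt → ZMod 2)) n :=
  ⟨setOf24_mem_supports h, (card_setOf24 M).trans hn⟩

theorem ncard_wordsOfWeight (n : ℕ) :
    (wordsOfWeight (golayCode : Set (GolayPt → ZMod 2)) n).ncard =
      ((List.range 4096).filter fun m => wt (codeMask m) == n).length := by
  have heq : wordsOfWeight (golayCode : Set (GolayPt → ZMod 2)) n = (fun m => setOf24 (codeMask m)) ''
      ↑((Finset.range 4096).filter fun m => wt (codeMask m) == n) := by
    ext s
    simp only [mem_wordsOfWeight_iff, Finset.coe_filter, Finset.mem_range, beq_iff_eq, Set.mem_image,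
      Set.mem_ofPred_eq]
    constructor
    · rintro ⟨hs, hw⟩
      obtain ⟨m, hm, e⟩ := exists_codeMask hs
      exact ⟨m, ⟨hm, e ▸ hw⟩, by rw [← e, setOf24_maskOf]⟩
    · rintro ⟨m, ⟨-, hw⟩, rfl⟩
      rw [setOf24_inj (maskOf_lt _) (isCode_lt (isCode_codeMask m)) (setOf24_maskOf _)]
      exact ⟨isCode_codeMask m, hw⟩
  rw [heq, Set.InjOn.ncard_image, Set.ncard_coe_finset]
  · rw [Finset.card_def, Finset.filter_val, Finset.range_val, Multiset.range, Multiset.filter_coe,
      Multiset.coe_card]
    simp only [Bool.decide_eq_true]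
  · intro a ha b hb h
    simp only [Finset.coe_filter, Finset.mem_range, Set.mem_ofPred_eq] at ha hb
    exact codeMask_injOn ha.1 hb.1
      (setOf24_inj (isCode_lt (isCode_codeMask a)) (isCode_lt (isCode_codeMask b)) h)

theorem ncard_octads : octads.ncard = 759 := by
  rw [octads, ncard_wordsOfWeight]; decide +kernel

theorem ncard_dodecads : dodecads.ncard = 2576 := by
  rw [dodecads, ncard_wordsOfWeight]; decide +kernel

/-! ### Supports as a family closed under symmetric difference -/

theorem supports_symmDiff {s t : Finset GolayPt}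
    (hs : s ∈ supports (golayCode : Set (GolayPt → ZMod 2)))
    (ht : t ∈ supports (golayCode : Set (GolayPt → ZMod 2))) :
    symmDiff s t ∈ supports (golayCode : Set (GolayPt → ZMod 2)) := by
  have := setOf24_mem_supports (isCode_xor ((mem_supports_iff s).1 hs) ((mem_supports_iff t).1 ht))
  rwa [setOf24_xor, setOf24_maskOf, setOf24_maskOf] at this

theorem supports_card {s : Finset GolayPt}
    (hs : s ∈ supports (golayCode : Set (GolayPt → ZMod 2))) :
    s.card = 0 ∨ s.card = 8 ∨ s.card = 12 ∨ s.card = 16 ∨ s.card = 24 := by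
  have := weight_cases ((mem_supports_iff s).1 hs)
  rwa [← card_setOf24, setOf24_maskOf] at this

theorem supports_compl {s : Finset GolayPt}
    (hs : s ∈ supports (golayCode : Set (GolayPt → ZMod 2))) :
    sᶜ ∈ supports (golayCode : Set (GolayPt → ZMod 2)) := by
  have h := supports_symmDiff hs (setOf24_mem_supports isCode_full)
  have e : sᶜ = symmDiff s (Finset.univ : Finset GolayPt) := by
    ext p; simp [Finset.mem_symmDiff]
  rw [e, ← setOf24_full]; exact h

theorem card_symmDiff_add {α : Type*} [DecidableEq α] (s t : Finset α) :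
    (symmDiff s t).card + 2 * (s ∩ t).card = s.card + t.card := by
  have h1 := Finset.card_union_of_disjoint (disjoint_sdiff_sdiff : Disjoint (s \ t) (t \ s))
  have h2 := Finset.card_sdiff_add_card_inter s t
  have h3 := Finset.card_sdiff_add_card_inter t s
  rw [Finset.inter_comm t s] at h3
  rw [symmDiff, Finset.sup_eq_union, h1]
  omega

theorem octads_eq_of_five_le {o o' : Finset GolayPt} (ho : o ∈ octads) (ho' : o' ∈ octads)
    (h : 5 ≤ (o ∩ o').card) : o = o' := by
  have h1 := card_symmDiff_add o o'
  rw [ho.2, ho'.2] at h1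
  have hc := supports_card (supports_symmDiff ho.1 ho'.1)
  have : (symmDiff o o').card = 0 := by omega
  exact symmDiff_eq_bot.1 (Finset.card_eq_zero.1 this)

theorem octads_isSteinerSystem : IsSteinerSystem 5 8 octads := by
  classical
  refine ⟨fun b hb => hb.2, fun s hs => ?_⟩
  have huniq : ∀ b c, b ∈ octads → c ∈ octads → ∀ t : Finset GolayPt, t.card = 5 → t ⊆ b → t ⊆ c →
      b = c := fun b c hb hc t ht h1 h2 =>
    octads_eq_of_five_le hb hc (ht ▸ Finset.card_le_card (Finset.subset_inter h1 h2))
  have hfin : octads.Finite := Set.toFinite _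
  have hU : (hfin.toFinset.biUnion fun b => b.powersetCard 5) =
      (Finset.univ : Finset GolayPt).powersetCard 5 := by
    refine Finset.eq_of_subset_of_card_le (fun t ht => ?_) ?_
    · simp only [Finset.mem_biUnion, Finset.mem_powersetCard] at ht
      obtain ⟨b, -, -, ht⟩ := ht
      simp [Finset.mem_powersetCard, ht]
    · rw [Finset.card_biUnion]
      · have e : ∀ b ∈ hfin.toFinset, (b.powersetCard 5).card = 56 := fun b hb => by
          rw [Finset.card_powersetCard, (hfin.mem_toFinset.1 hb).2]; rfl
        rw [Finset.sum_congr rfl e, Finset.sum_const, ← Set.ncard_eq_toFinset_card _ hfin,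
          ncard_octads, Finset.card_powersetCard, Finset.card_univ,
          show Fintype.card GolayPt = 24 by simp [ZMod.card]]
        exact le_of_eq (by decide)
      · intro b hb c hc hne
        refine Finset.disjoint_left.2 fun t h1 h2 => hne ?_
        rw [Finset.mem_powersetCard] at h1 h2
        exact huniq b c (hfin.mem_toFinset.1 hb) (hfin.mem_toFinset.1 hc) t h1.2 h1.1 h2.1
  have hmem : s ∈ hfin.toFinset.biUnion fun b => b.powersetCard 5 := by
    rw [hU, Finset.mem_powersetCard]; exact ⟨Finset.subset_univ _, hs⟩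
  simp only [Finset.mem_biUnion, Finset.mem_powersetCard, Set.Finite.mem_toFinset] at hmem
  obtain ⟨b, hb, hsb, -⟩ := hmem
  exact ⟨b, ⟨hb, hsb⟩, fun c hc => huniq c b hc.1 hb s hs hc.2 hsb⟩

theorem supports_inter_even {s t : Finset GolayPt}
    (hs : s ∈ supports (golayCode : Set (GolayPt → ZMod 2)))
    (ht : t ∈ supports (golayCode : Set (GolayPt → ZMod 2))) : Even (s ∩ t).card := by
  have h := card_symmDiff_add s t
  have h1 := supports_card hs
  have h2 := supports_card ht
  have h3 := supports_card (supports_symmDiff hs ht)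
  rw [Nat.even_iff]; omega

theorem golayCode_dot {v w : GolayPt → ZMod 2} (hv : v ∈ golayCode) (hw : w ∈ golayCode) :
    ∑ i, v i * w i = 0 := by
  have hz : ∀ x : ZMod 2, x = 0 ∨ x = 1 := by decide
  have e : ∀ i, v i * w i = if i ∈ support₂ v ∩ support₂ w then 1 else 0 := by
    intro i
    rcases hz (v i) with a | a <;> rcases hz (w i) with b | b <;> simp [support₂, a, b]
  rw [Finset.sum_congr rfl fun i _ => e i, Finset.sum_boole, Finset.filter_univ_mem]
  have := supports_inter_even ⟨v, hv, rfl⟩ ⟨w, hw, rfl⟩
  exact ZMod.natCast_eq_zero_iff_even.2 this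

theorem hammingNorm_eq_card_support (w : GolayPt → ZMod 2) : hammingNorm w = (support₂ w).card := rfl

end CfsgLib.Mathieu
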