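import Cfsg.Agent.Mathieu.M24Actions

/-!
Permutations from checked tables, and tools for subchains.
-/

set_option autoImplicit false

namespace CfsgLib.Mathieu

open Cfsg
open scoped Pointwise

/-- The table lists each of the 24 bit positions once. -/
def tableValid (t : ℕ) : Bool :=
  allBelow 24 (fun i => Nat.blt (app t i) 24) && push t 24 16777215 == 16777215

/-- The function of a table. -/
def tableFun (t : ℕ) (p : GolayPt) : GolayPt := pt (app t (idx p))

theorem tableFun_bijective {t : ℕ} (h : tableValid t = true) : Function.Bijective (tableFun t) := by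
  simp only [tableValid, Bool.and_eq_true, allBelow_iff, Nat.blt_eq, beq_iff_eq] at h
  obtain ⟨hlt, hfull⟩ := h
  refine Finite.surjective_iff_bijective.1 fun p => ?_
  have : (16777215 : ℕ).testBit (idx p) = true := by
    rw [← mem_setOf24, setOf24_full]; exact Finset.mem_univ p
  rw [← hfull, testBit_push] at this
  obtain ⟨i, hi, -, he⟩ := this
  exact ⟨pt i, by rw [tableFun, idx_pt hi, he, pt_idx]⟩

theorem exists_rep_of_valid {t : ℕ} (h : tableValid t = true) :
    ∃ σ : Equiv.Perm GolayPt, Rep enc σ t := by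
  refine ⟨Equiv.ofBijective _ (tableFun_bijective h), fun p => ?_⟩
  simp only [tableValid, Bool.and_eq_true, allBelow_iff, Nat.blt_eq] at h
  exact (idx_pt (h.1 _ (idx_lt p))).symm

theorem Rep.unique {α : Type*} {n : ℕ} {e : α ≃ Fin n} {σ τ : Equiv.Perm α} {t : ℕ}
    (h : Rep e σ t) (h' : Rep e τ t) : σ = τ :=
  Equiv.ext fun x => h.apply_eq e (h' x)

theorem InGroup.mono {α : Type*} {n : ℕ} {e : α ≃ Fin n} {H G : Subgroup (Equiv.Perm α)}
    (hle : H ≤ G) {t : ℕ} (h : InGroup e H t) : InGroup e G t :=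
  let ⟨σ, hσ, r⟩ := h; ⟨σ, hle hσ, r⟩

/-- Conjugating a member of a normalised subgroup, on tables. -/
theorem InGroup.conj {α : Type*} {n : ℕ} {e : α ≃ Fin n} {K N : Subgroup (Equiv.Perm α)}
    (hnorm : ∀ g ∈ K, ∀ m ∈ N, g * m * g⁻¹ ∈ N) {g x c : ℕ} (hg : InGroup e K g)
    (hx : InGroup e N x) (h : allBelow n (fun i => app c (app g i) == app g (app x i)) = true) :
    InGroup e N c := by
  obtain ⟨γ, hγ, rγ⟩ := hg
  obtain ⟨ξ, hξ, rξ⟩ := hx
  refine ⟨_, hnorm γ hγ ξ hξ, fun p => ?_⟩
  have := allBelow_iff.1 h _ (e (γ⁻¹ p)).isLt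
  rw [beq_iff_eq, rγ (γ⁻¹ p), perm_apply_inv, rξ, rγ] at this
  exact this

/-- Attained orbits along a chain. -/
def IsReachChain {α : Type*} (H : Subgroup (Equiv.Perm α)) :
    List (α × Finset α) → List α → Prop
  | [], _ => True
  | (b, O) :: rest, pre => (∀ q ∈ O, Reach H pre b q) ∧ IsReachChain H rest (pre ++ [b])

theorem IsChain'.change {α : Type*} {H H' G : Subgroup (Equiv.Perm α)} :
    ∀ (L : List (α × Finset α)) (pre : List α), IsChain' H G L pre → IsReachChain H' L pre →
      IsChain' H' G L pre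
  | [], _, h, _ => h
  | (_, _) :: rest, _, ⟨_, hu, hc⟩, ⟨hr', hc'⟩ => ⟨hr', hu, IsChain'.change rest _ hc hc'⟩

/-- The boolean form of an attained chain. -/
def reachChainOK (gens : List ℕ) : List (GolayPt × Finset GolayPt) → List GolayPt →
    List (List (ℕ × ℕ × ℕ)) → Bool
  | [], _, _ => true
  | (b, O) :: rest, pre, trees =>
    decide (∀ q ∈ O, ((orbitPts gens (pre.map fun x => (enc x).val) [(enc b).val]
      (trees.headD [])).contains (enc q).val) = true) && reachChainOK gens rest (pre ++ [b]) trees.tail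

theorem isReachChain_of_ok {H : Subgroup (Equiv.Perm GolayPt)} {gens : List ℕ}
    (hg : ∀ t ∈ gens, InGroup enc H t) :
    ∀ (L : List (GolayPt × Finset GolayPt)) (pre : List GolayPt) (trees : List (List (ℕ × ℕ × ℕ))),
      reachChainOK gens L pre trees = true → IsReachChain H L pre
  | [], _, _, _ => trivial
  | (b, _) :: rest, pre, trees, h => by
    simp only [reachChainOK, Bool.and_eq_true, decide_eq_true_eq] at h
    exact ⟨fun q hq => reach_of_tree enc hg pre b _ q (h.1 q hq),
      isReachChain_of_ok hg rest _ _ h.2⟩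

/-- A conjugation by `g` matching two subgroups. -/
def conjEquivOfIff {G : Type*} [Group G] {H H' : Subgroup G} (g : G)
    (h : ∀ x, x ∈ H ↔ g * x * g⁻¹ ∈ H') : H ≃* H' :=
  ((MulAut.conj g).subgroupMap H).trans (MulEquiv.subgroupCongr (by
    ext y
    rw [Subgroup.mem_map]
    constructor
    · rintro ⟨x, hx, rfl⟩; exact (h x).1 hx
    · exact fun hy => ⟨g⁻¹ * y * g, (h _).2 (by simpa [mul_assoc] using hy),
        show g * (g⁻¹ * y * g) * g⁻¹ = y by group⟩))

end CfsgLib.Mathieu
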