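import Cfsg.Agent.Mathieu.Code
import Cfsg.Agent.Mathieu.Chain

/-!
Membership in `Cfsg.M24` decided on packed tables, and invariant masks of permutations preserving the code.
-/

set_option autoImplicit false

namespace CfsgLib.Mathieu

open Cfsg
open scoped Pointwise

theorem mem_setSystemAut_iff {α : Type*} [DecidableEq α] {B : Set (Finset α)} {σ : Equiv.Perm α} :
    σ ∈ setSystemAut B ↔ (fun b : Finset α => b.image σ) '' B = B := Iff.rfl

theorem setSystemAut_image_mem {α : Type*} [DecidableEq α] {B : Set (Finset α)} {σ : Equiv.Perm α}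
    (h : σ ∈ setSystemAut B) {b : Finset α} (hb : b ∈ B) : b.image σ ∈ B := by
  rw [← mem_setSystemAut_iff.1 h]; exact Set.mem_image_of_mem _ hb

theorem mem_setSystemAut_of_image {α : Type*} [DecidableEq α] [Finite α] {B : Set (Finset α)}
    {σ : Equiv.Perm α} (h : ∀ b ∈ B, b.image σ ∈ B) : σ ∈ setSystemAut B := by
  rw [mem_setSystemAut_iff]
  refine Set.eq_of_subset_of_ncard_le (Set.image_subset_iff.2 h) ?_ (Set.toFinite _)
  rw [Set.InjOn.ncard_image ((Finset.image_injective σ.injective).injOn)]

/-- Image of a mask under a packed table. -/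
def push (t : ℕ) : ℕ → ℕ → ℕ
  | 0, _ => 0
  | k + 1, M => (if M.testBit k then 2 ^ app t k else 0) ||| push t k M

theorem testBit_push (t : ℕ) : ∀ k M j, (push t k M).testBit j = true ↔
    ∃ i < k, M.testBit i = true ∧ app t i = j
  | 0, M, j => by simp [push]
  | k + 1, M, j => by
    simp only [push, Nat.testBit_or, Bool.or_eq_true, testBit_push t k M j]
    constructor
    · rintro (h | ⟨i, hi, h⟩)
      · split at h
        · rename_i hk
          rw [Nat.testBit_two_pow] at h
          exact ⟨k, by omega, hk, by simpa using h⟩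
        · simp at h
      · exact ⟨i, by omega, h⟩
    · rintro ⟨i, hi, hM, rfl⟩
      rcases Nat.lt_succ_iff_lt_or_eq.1 hi with h | rfl
      · exact Or.inr ⟨i, h, hM, rfl⟩
      · left; rw [if_pos hM]; simp

theorem image_setOf24 {σ : Equiv.Perm GolayPt} {t : ℕ} (h : Rep enc σ t) (M : ℕ) :
    (setOf24 M).image σ = setOf24 (push t 24 M) := by
  ext p
  simp only [Finset.mem_image, mem_setOf24, testBit_push]
  constructor
  · rintro ⟨q, hq, rfl⟩
    exact ⟨idx q, idx_lt q, hq, h q⟩
  · rintro ⟨i, hi, hM, he⟩
    refine ⟨pt i, by rwa [idx_pt hi], ?_⟩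
    apply idx_injective
    have := h (pt i)
    change app t (idx (pt i)) = idx (σ (pt i)) at this
    rw [idx_pt hi, he] at this
    exact this.symm

/-- A table preserves the code when it maps each basis word to a code word. -/
def preservesCode (t : ℕ) : Bool := codeRows.all fun r => isCode (push t 24 r)

theorem mem_M24_of_table {σ : Equiv.Perm GolayPt} {t : ℕ} (h : Rep enc σ t)
    (hc : preservesCode t = true) : σ ∈ M24 := by
  refine mem_setSystemAut_of_image fun b hb => ?_
  have hc' : ∀ r ∈ codeRows, isCode (push t 24 r) = true := List.all_eq_true.1 hc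
  have key : ∀ M, isCode M = true →
      (setOf24 M).image σ ∈ supports (golayCode : Set (GolayPt → ZMod 2)) := by
    intro M hM
    rw [← isCode_iff.1 hM]
    refine xorSel_induction
      (fun M => (setOf24 M).image σ ∈ supports (golayCode : Set (GolayPt → ZMod 2))) ?_ ?_ _ _ ?_
    · rw [setOf24_zero, Finset.image_empty, ← setOf24_zero]
      exact setOf24_mem_supports isCode_zero
    · intro a c ha hb'
      rw [setOf24_xor, Finset.image_symmDiff _ _ σ.injective]
      exact supports_symmDiff ha hb'
    · intro r hr
      rw [image_setOf24 h]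
      exact setOf24_mem_supports (hc' r hr)
  rw [← setOf24_maskOf b]
  exact key _ ((mem_supports_iff b).1 hb)

/-- Table of a permutation of the 24 points. -/
def tableOf (f : GolayPt → GolayPt) : ℕ :=
  (List.range 24).foldr (fun i acc => acc * 256 + idx (f (pt i))) 0

/-- A table check for a permutation given by a function. -/
def tableOK (f : GolayPt → GolayPt) (t : ℕ) : Bool :=
  allBelow 24 fun i => app t i == idx (f (pt i))

theorem rep_of_tableOK {σ : Equiv.Perm GolayPt} (f : GolayPt → GolayPt) (hf : ∀ p, σ p = f p)
    {t : ℕ} (h : tableOK f t = true) : Rep enc σ t := by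
  intro p
  have := allBelow_iff.1 h _ (idx_lt p)
  rw [beq_iff_eq, pt_idx] at this
  show app t (idx p) = idx (σ p)
  rw [hf, this]

/-! ### The given generators -/

/-- Translation by one. -/
def shiftOne : Equiv.Perm GolayPt := Equiv.optionCongr (Equiv.addRight (1 : ZMod 23))

theorem shiftOne_mem_M24 : shiftOne ∈ M24 :=
  mem_M24_of_table (rep_of_tableOK shiftOne (fun _ => rfl) (t := tableOf shiftOne) (by decide +kernel))
    (by decide +kernel)

theorem projInv_mem_M24 : projInv ∈ M24 :=
  mem_M24_of_table (rep_of_tableOK projInvFun (fun _ => rfl) (t := tableOf projInvFun) (by decide +kernel))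
    (by decide +kernel)

theorem cubeTwist_mem_M24 : cubeTwist ∈ M24 :=
  mem_M24_of_table
    (rep_of_tableOK cubeTwistFun (fun p => Equiv.ofBijective_apply (f := cubeTwistFun) _ p)
      (t := tableOf cubeTwistFun) (by decide +kernel))
    (by decide +kernel)

theorem mulSquare_mem_M24 (u : (ZMod 23)ˣ) (hu : IsSquare u) :
    Equiv.optionCongr (Units.mulLeft u) ∈ M24 := by
  obtain ⟨r, rfl⟩ := hu
  have hall : ∀ r : ZMod 23, r ≠ 0 →
      tableOK (Option.map fun x => r * r * x) (tableOf (Option.map fun x => r * r * x)) = true ∧
        preservesCode (tableOf (Option.map fun x => r * r * x)) = true := by decide +kernel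
  have : Nontrivial (ZMod 23) := ⟨⟨0, 1, by decide⟩⟩
  obtain ⟨h1, h2⟩ := hall r r.ne_zero
  exact mem_M24_of_table (rep_of_tableOK _ (fun p => by cases p <;> rfl) h1) h2

/-! ### Deriving fixed points from invariant code words -/

/-- A derivation step: an octad with five known fixed points, the intersection or difference of two
invariant sets, or a new fixed point: the only point of an invariant set outside the fixed ones. -/
inductive FixStep where
  | octad (O : ℕ)
  | inter (i j : ℕ)
  | single (i : ℕ)

/-- Whether the derivation starting from the fixed set `F` reaches all 24 points. -/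
def derivesAll : ℕ → List ℕ → List FixStep → Bool
  | F, _, [] => F == 16777215
  | F, inv, .octad O :: rest =>
    isCode O && wt O == 8 && Nat.ble 5 (wt (O &&& F)) && derivesAll F (inv ++ [O]) rest
  | F, inv, .inter i j :: rest =>
    match inv[i]?, inv[j]? with
    | some a, some b => derivesAll F (inv ++ [a &&& b]) rest
    | _, _ => false
  | F, inv, .single i :: rest =>
    match inv[i]? with
    | some a => wt (a ^^^ (a &&& F)) == 1 && derivesAll (F ||| a) inv rest
    | none => false

theorem image_eq_of_five_fixed {g : Equiv.Perm GolayPt} (hg : g ∈ M24) {o : Finset GolayPt}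
    (ho : o ∈ octads) {s : Finset GolayPt} (hs : ∀ x ∈ s, g x = x) (h5 : 5 ≤ (o ∩ s).card) :
    o.image g = o := by
  refine octads_eq_of_five_le ⟨setSystemAut_image_mem hg ho.1, ?_⟩ ho (h5.trans ?_)
  · rw [Finset.card_image_of_injective _ g.injective, ho.2]
  · refine Finset.card_le_card fun x hx => ?_
    rw [Finset.mem_inter] at hx ⊢
    exact ⟨Finset.mem_image.2 ⟨x, hx.1, hs x hx.2⟩, hx.1⟩

theorem derivesAll_sound {g : Equiv.Perm GolayPt} (hg : g ∈ M24) :
    ∀ (steps : List FixStep) (F : ℕ) (inv : List ℕ), (∀ p ∈ setOf24 F, g p = p) →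
      (∀ a ∈ inv, (setOf24 a).image g = setOf24 a) → derivesAll F inv steps = true → g = 1
  | [], F, inv, hF, _, h => by
    simp only [derivesAll, beq_iff_eq] at h
    subst h
    exact Equiv.ext fun p => hF p (by rw [setOf24_full]; exact Finset.mem_univ p)
  | .octad O :: rest, F, inv, hF, hinv, h => by
    simp only [derivesAll, Bool.and_eq_true, beq_iff_eq, Nat.ble_eq] at h
    obtain ⟨⟨⟨hO, hw⟩, h5⟩, hrest⟩ := h
    refine derivesAll_sound hg rest F _ hF (fun a ha => ?_) hrest
    rcases List.mem_append.1 ha with ha | ha
    · exact hinv a ha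
    · rw [List.mem_singleton.1 ha]
      exact image_eq_of_five_fixed hg (setOf24_mem_wordsOfWeight hO hw) hF
        (by rw [← setOf24_and, card_setOf24]; exact h5)
  | .inter i j :: rest, F, inv, hF, hinv, h => by
    simp only [derivesAll] at h
    split at h
    · rename_i a b ha hb
      refine derivesAll_sound hg rest F _ hF (fun c hc => ?_) h
      rcases List.mem_append.1 hc with hc | hc
      · exact hinv c hc
      · rw [List.mem_singleton.1 hc, setOf24_and, Finset.image_inter _ _ g.injective,
          hinv a (List.mem_of_getElem? ha), hinv b (List.mem_of_getElem? hb)]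
    · simp at h
  | .single i :: rest, F, inv, hF, hinv, h => by
    simp only [derivesAll] at h
    split at h
    · rename_i a ha
      simp only [Bool.and_eq_true, beq_iff_eq] at h
      refine derivesAll_sound hg rest _ inv (fun p hp => ?_) hinv h.2
      rw [setOf24_or, Finset.mem_union] at hp
      rcases hp with hp | hp
      · exact hF p hp
      · by_cases hpF : p ∈ setOf24 F
        · exact hF p hpF
        have hd : setOf24 (a ^^^ (a &&& F)) = setOf24 a \ setOf24 F := by
          ext q
          simp only [Finset.mem_sdiff, mem_setOf24, Nat.testBit_xor, Nat.testBit_and]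
          cases a.testBit (idx q) <;> cases F.testBit (idx q) <;> simp
        have hc : (setOf24 a \ setOf24 F).card ≤ 1 := by rw [← hd, card_setOf24, h.1]
        refine Finset.card_le_one.1 hc _ ?_ _ (Finset.mem_sdiff.2 ⟨hp, hpF⟩)
        refine Finset.mem_sdiff.2 ⟨?_, fun hgF => hpF ?_⟩
        · rw [← hinv a (List.mem_of_getElem? ha)]
          exact Finset.mem_image_of_mem _ hp
        · rwa [← g.injective (hF _ hgF)]
    · simp at h

end CfsgLib.Mathieu
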