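import Cfsg.Agent.Mathieu.SteinerUnique
import Cfsg.Agent.Mathieu.SmallSimple
import Cfsg.Prelude.Def_Sporadic

/-!
Automorphism groups of the Steiner systems S(5,8,24) and S(4,7,23); set systems transported.
-/

set_option autoImplicit false

namespace CfsgLib.Mathieu

open Cfsg Finset
open scoped Pointwise

variable {α β : Type*} [DecidableEq α] [DecidableEq β]

theorem image_permCongr (e : α ≃ β) (σ : Equiv.Perm α) (b : Finset α) :
    (b.image e).image (e.permCongrHom σ) = (b.image σ).image e := by
  rw [image_image, image_image]
  exact image_congr fun x _ => by simp [Equiv.permCongrHom]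

/-- Isomorphic set systems have isomorphic automorphism groups. -/
def setSystemAutCongr (e : α ≃ β) {B : Set (Finset α)} {B' : Set (Finset β)}
    (h : (fun b => b.image e) '' B = B') : setSystemAut B ≃* setSystemAut B' :=
  (e.permCongrHom.subgroupMap (setSystemAut B)).trans (MulEquiv.subgroupCongr (by
    ext τ
    refine Subgroup.mem_map_equiv.trans ?_
    rw [mem_setSystemAut_iff, mem_setSystemAut_iff, ← h, Set.image_image]
    obtain ⟨σ, rfl⟩ := e.permCongrHom.surjective τ
    simp only [MulEquiv.symm_apply_apply, image_permCongr]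
    rw [show (fun a : Finset α => (a.image σ).image e) '' B = (fun b : Finset α => b.image e) '' ((fun a : Finset α => a.image σ) '' B) from (Set.image_image _ _ _).symm]
    exact ⟨fun hh => by rw [hh], fun hh => Set.image_injective.2 (image_injective e.injective) hh⟩))

theorem setSystemAutCongr_apply (e : α ≃ β) {B : Set (Finset α)} {B' : Set (Finset β)}
    (h : (fun b => b.image e) '' B = B') (g : setSystemAut B) (x : α) :
    (setSystemAutCongr e h g : Equiv.Perm β) (e x) = e ((g : Equiv.Perm α) x) :=
  congrArg (fun y => e ((g : Equiv.Perm α) y)) (e.symm_apply_apply x)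

theorem setSystemAut_transitive_congr (e : α ≃ β) {B : Set (Finset α)} {B' : Set (Finset β)}
    (h : (fun b => b.image e) '' B = B') {k : ℕ}
    (hk : MulAction.IsMultiplyPretransitive (setSystemAut B') β k) :
    MulAction.IsMultiplyPretransitive (setSystemAut B) α k := by
  refine ⟨fun x y => ?_⟩
  obtain ⟨g, hg⟩ := hk.exists_smul_eq (x.trans e.toEmbedding) (y.trans e.toEmbedding)
  refine ⟨(setSystemAutCongr e h).symm g, Function.Embedding.ext fun i => e.injective ?_⟩
  show e (((setSystemAutCongr e h).symm g : Equiv.Perm α) (x i)) = e (y i)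
  rw [← setSystemAutCongr_apply e h, MulEquiv.apply_symm_apply]
  exact DFunLike.congr_fun hg i

theorem steiner24_aut {α : Type*} [Fintype α] [DecidableEq α] (hα : Fintype.card α = 24)
    {B : Set (Finset α)} (hB : IsSteinerSystem 5 8 B) :
    IsM24 (setSystemAut B) ∧ MulAction.IsMultiplyPretransitive (setSystemAut B) α 5 := by
  obtain ⟨e, he⟩ := steiner24_exists_equiv hα hB
  have e2 := (setSystemAutCongr e he).trans (MulEquiv.subgroupCongr M24_eq_setSystemAut_octads.symm)
  refine ⟨⟨e2.isSimpleGroup_congr.2 simple_M24, ?_⟩, setSystemAut_transitive_congr e he ?_⟩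
  · rw [Nat.card_congr e2.toEquiv, card_M24]
  · rw [← M24_eq_setSystemAut_octads]; exact M24_fiveTransitive

/-- The blocks of the standard S(4,7,23). -/
def std23 : Set (Finset (ZMod 23)) := {h | insertNone h ∈ octads}

theorem image_insertNone_optionCongr (π : Equiv.Perm α) (h : Finset α) :
    (insertNone h).image (Equiv.optionCongr π) = insertNone (h.image π) := by
  ext (_ | y)
  · simp only [mem_image, mem_insertNone]
    exact iff_of_true ⟨none, by simp, rfl⟩ (by simp)
  · simp only [mem_image, mem_insertNone, Option.mem_def, Option.some.injEq, forall_eq']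
    constructor
    · rintro ⟨_ | a, ha, hy⟩
      · simp at hy
      · exact ⟨a, ha a rfl, by simpa using hy⟩
    · rintro ⟨a, ha, rfl⟩
      exact ⟨some a, fun x hx => by rwa [← Option.some.inj hx], rfl⟩

theorem mem_aut_std23 {π : Equiv.Perm (ZMod 23)} :
    π ∈ setSystemAut std23 ↔ Equiv.optionCongr π ∈ M24 := by
  constructor
  · intro hπ
    rw [M24_eq_setSystemAut_octads]
    refine mem_setSystemAut_of_image fun o ho => ?_
    -- octads through the extra point, then all, through symmetric differences
    have hpt : ∀ o ∈ octads, none ∈ o → o.image (Equiv.optionCongr π) ∈ octads := by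
      intro o ho hn
      have e : o = insertNone (eraseNone o) := by rw [insertNone_eraseNone, insert_eq_of_mem hn]
      have h1 : eraseNone o ∈ std23 := show insertNone (eraseNone o) ∈ octads from e ▸ ho
      rw [e, image_insertNone_optionCongr]
      exact setSystemAut_image_mem hπ h1
    by_cases hn : none ∈ o
    · exact hpt o ho hn
    · obtain ⟨s, hs, hs4⟩ := exists_subset_card_eq (show 4 ≤ o.card by rw [ho.2]; norm_num)
      obtain ⟨o', ⟨ho', hso'⟩, -⟩ := octads_isSteinerSystem.2 (insert none s)
        (by rw [card_insert_of_notMem (fun h => hn (hs h)), hs4])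
      rw [insert_subset_iff] at hso'
      have hne : o ≠ o' := fun e => hn (e ▸ hso'.1)
      have h4 : (o ∩ o').card = 4 := by
        have h1 : 4 ≤ (o ∩ o').card := hs4 ▸ card_le_card (subset_inter hs hso'.2)
        have := Steiner.inter_lt octads_isSteinerSystem ho ho' hne
        omega
      have hα : Fintype.card GolayPt = 24 := by simp [ZMod.card]
      have h5 := Steiner.symmDiff_24 hα octads_isSteinerSystem ho ho' h4
      have h6 := hpt _ h5 (by simp [Finset.mem_symmDiff, hn, hso'.1])
      have h7 := hpt _ ho' hso'.1
      have h8 := supports_symmDiff h6.1 h7.1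
      rw [← Finset.image_symmDiff _ _ (Equiv.injective _), symmDiff_symmDiff_cancel_right] at h8
      exact ⟨h8, by rw [card_image_of_injective _ (Equiv.injective _), ho.2]⟩
  · intro hπ
    rw [M24_eq_setSystemAut_octads] at hπ
    refine mem_setSystemAut_of_image fun h hh => ?_
    show insertNone (h.image π) ∈ octads
    rw [← image_insertNone_optionCongr]
    exact setSystemAut_image_mem hπ hh

/-- The automorphisms of the standard S(4,7,23) form `Spor.M23`. -/
noncomputable def autStd23Equiv : setSystemAut std23 ≃* Spor.M23 :=
  MulEquiv.ofBijective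
    (show setSystemAut std23 →* Spor.M23 from
      { toFun := fun π => ⟨Equiv.optionCongr π.1, mem_aut_std23.1 π.2, rfl⟩
        map_one' := Subtype.ext (Equiv.ext fun x => by cases x <;> rfl)
        map_mul' := fun a b => Subtype.ext (Equiv.ext fun x => by cases x <;> rfl) })
    ⟨fun a b h => Subtype.ext (Equiv.optionCongr_injective (congrArg Subtype.val h)), fun σ => by
      have hσ : (σ : Equiv.Perm GolayPt) none = none := σ.2.2
      have e : Equiv.optionCongr (Equiv.removeNone (σ : Equiv.Perm GolayPt)) = σ := by
        refine Equiv.ext fun x => ?_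
        rcases x with _ | a
        · exact hσ.symm
        · refine Equiv.removeNone_some _ ?_
          rcases h : (σ : Equiv.Perm GolayPt) (some a) with _ | y
          · exact absurd (σ.1.injective (h.trans hσ.symm)) (by simp)
          · exact ⟨y, rfl⟩
      exact ⟨⟨Equiv.removeNone (σ : Equiv.Perm GolayPt), mem_aut_std23.2 (e.symm ▸ σ.2.1)⟩,
        Subtype.ext e⟩⟩

theorem steiner23_aut {α : Type*} [Fintype α] [DecidableEq α] (hα : Fintype.card α = 23)
    {B : Set (Finset α)} (hB : IsSteinerSystem 4 7 B) :
    IsM23 (setSystemAut B) ∧ MulAction.IsMultiplyPretransitive (setSystemAut B) α 4 := by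
  obtain ⟨e, he⟩ := steiner23_exists_equiv hα hB
  have e2 := (setSystemAutCongr e (B' := std23) he).trans autStd23Equiv
  refine ⟨⟨e2.isSimpleGroup_congr.2 simple_SporM23, ?_⟩,
    setSystemAut_transitive_congr e (B' := std23) he ⟨fun x y => ?_⟩⟩
  · rw [Nat.card_congr e2.toEquiv, card_SporM23]
  · obtain ⟨g, hg, h⟩ := M24_map_five (Fin.cons none (some ∘ x)) (Fin.cons none (some ∘ y))
      (Fin.cons_injective_iff.2 ⟨by simp, (Option.some_injective _).comp x.injective⟩)
      (Fin.cons_injective_iff.2 ⟨by simp, (Option.some_injective _).comp y.injective⟩)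
    have h0 : g none = none := by simpa using h 0
    refine ⟨autStd23Equiv.symm ⟨g, hg, h0⟩, Function.Embedding.ext fun i => Option.some_injective _ ?_⟩
    have hh := congrArg (fun s : Spor.M23 => (s : Equiv.Perm GolayPt) (some (x i)))
      (autStd23Equiv.apply_symm_apply ⟨g, hg, h0⟩)
    have hi : g (some (x i)) = some (y i) := by simpa using h i.succ
    exact hh.trans hi

end CfsgLib.Mathieu
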