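import Cfsg.Agent.Mathieu.M24Order

/-!
Transitivity consequences for `Cfsg.M24`: points, octads, and the automorphism group of the octads.
-/

set_option autoImplicit false

namespace CfsgLib.Mathieu

open Cfsg
open scoped Pointwise

theorem M24_fiveTransitive : MulAction.IsMultiplyPretransitive M24 GolayPt 5 := by
  refine ⟨fun x y => ?_⟩
  obtain ⟨g, hg, h⟩ := M24_map_five x y x.injective y.injective
  exact ⟨⟨g, hg⟩, Function.Embedding.ext fun i => h i⟩

theorem M24_isMultiplyPretransitive {k : ℕ} (hk : k ≤ 5) :
    MulAction.IsMultiplyPretransitive M24 GolayPt k :=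
  have := M24_fiveTransitive
  MulAction.isMultiplyPretransitive_of_le (n := 5) hk (by simp [ZMod.card])

theorem M24_isPretransitive : MulAction.IsPretransitive M24 GolayPt :=
  MulAction.is_one_pretransitive_iff.1 (M24_isMultiplyPretransitive (by norm_num))

theorem octad_image {g : Equiv.Perm GolayPt} (hg : g ∈ M24) {o : Finset GolayPt} (ho : o ∈ octads) :
    o.image g ∈ octads :=
  ⟨setSystemAut_image_mem hg ho.1, (Finset.card_image_of_injective _ g.injective).trans ho.2⟩

theorem dodecad_image {g : Equiv.Perm GolayPt} (hg : g ∈ M24) {d : Finset GolayPt}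
    (hd : d ∈ dodecads) : d.image g ∈ dodecads :=
  ⟨setSystemAut_image_mem hg hd.1, (Finset.card_image_of_injective _ g.injective).trans hd.2⟩

theorem M24_octad_transitive {o o' : Finset GolayPt} (ho : o ∈ octads) (ho' : o' ∈ octads) :
    ∃ g ∈ M24, o.image g = o' := by
  obtain ⟨x⟩ : Nonempty (Fin 5 ↪ o) :=
    Function.Embedding.nonempty_of_card_le (by rw [Fintype.card_coe, ho.2]; simp)
  obtain ⟨y⟩ : Nonempty (Fin 5 ↪ o') :=
    Function.Embedding.nonempty_of_card_le (by rw [Fintype.card_coe, ho'.2]; simp)
  obtain ⟨g, hg, h⟩ := M24_map_five (fun i => (x i).1) (fun i => (y i).1)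
    (fun a b e => x.injective (Subtype.ext e)) (fun a b e => y.injective (Subtype.ext e))
  refine ⟨g, hg, octads_eq_of_five_le (octad_image hg ho) ho' ?_⟩
  have hs : Finset.univ.image (fun i => (y i).1) ⊆ o.image g ∩ o' := by
    intro p hp
    simp only [Finset.mem_image, Finset.mem_univ, true_and] at hp
    obtain ⟨i, rfl⟩ := hp
    exact Finset.mem_inter.2 ⟨Finset.mem_image.2 ⟨_, (x i).2, h i⟩, (y i).2⟩
  have hc := Finset.card_le_card hs
  have hy : Function.Injective fun i => (y i).1 := Subtype.val_injective.comp y.injective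
  rwa [Finset.card_image_of_injective _ hy, Finset.card_univ, Fintype.card_fin] at hc

theorem M24_eq_setSystemAut_octads : M24 = setSystemAut octads := by
  ext σ
  refine ⟨fun h => mem_setSystemAut_of_image fun b hb => octad_image h hb, fun h => ?_⟩
  refine mem_setSystemAut_of_image fun b hb => ?_
  have hrow : ∀ r ∈ codeRows, isCode r = true ∧ wt r = 8 := by decide +kernel
  have key : ∀ M, isCode M = true →
      (setOf24 M).image σ ∈ supports (golayCode : Set (GolayPt → ZMod 2)) := by
    intro M hM
    rw [← isCode_iff.1 hM]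
    refine xorSel_induction
      (fun M => (setOf24 M).image σ ∈ supports (golayCode : Set (GolayPt → ZMod 2))) ?_ ?_ _ _ ?_
    · rw [setOf24_zero, Finset.image_empty, ← setOf24_zero]
      exact setOf24_mem_supports isCode_zero
    · intro a c ha hc
      rw [setOf24_xor, Finset.image_symmDiff _ _ σ.injective]
      exact supports_symmDiff ha hc
    · exact fun r hr =>
        (setSystemAut_image_mem h (setOf24_mem_wordsOfWeight (hrow r hr).1 (hrow r hr).2)).1
  rw [← setOf24_maskOf b]
  exact key _ ((mem_supports_iff b).1 hb)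

/-- The stabiliser in a subgroup, carried to the symmetric group. -/
def stabilizerInfEquiv {α β : Type*} [MulAction (Equiv.Perm α) β] (G : Subgroup (Equiv.Perm α))
    (b : β) : MulAction.stabilizer G b ≃* ↥(G ⊓ MulAction.stabilizer (Equiv.Perm α) b) where
  toFun g := ⟨g.1.1, g.1.2, g.2⟩
  invFun g := ⟨⟨g.1, g.2.1⟩, g.2.2⟩
  left_inv _ := rfl
  right_inv _ := rfl
  map_mul' _ _ := rfl

theorem card_stabilizer_mul {G β : Type*} [Group G] [MulAction G β] [MulAction.IsPretransitive G β]
    [Finite β] (b : β) : Nat.card β * Nat.card (MulAction.stabilizer G b) = Nat.card G := by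
  rw [← Subgroup.index_mul_card (MulAction.stabilizer G b),
    MulAction.index_stabilizer_of_transitive G b]

theorem card_M24_point (p : GolayPt) : Nat.card (MulAction.stabilizer M24 p) = 10200960 := by
  have := M24_isPretransitive
  have h := card_stabilizer_mul (G := M24) p
  rw [card_M24, Nat.card_eq_fintype_card, show Fintype.card GolayPt = 24 by simp [ZMod.card]] at h
  omega

end CfsgLib.Mathieu
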