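import Cfsg.Agent.Mathieu.Steiner12Aut
import Cfsg.Agent.Mathieu.General

/-!
S(4,5,11): its extension to S(5,6,12), uniqueness, and the automorphism group.
-/

set_option autoImplicit false

namespace CfsgLib.Mathieu

open Cfsg Finset
open scoped Pointwise

/-- Few intersections and the right number of blocks give a Steiner system. -/
theorem isSteinerSystem_of_count {α : Type*} [Fintype α] [DecidableEq α] {t k : ℕ}
    (B : Finset (Finset α)) (hk : ∀ b ∈ B, b.card = k)
    (hint : ∀ b ∈ B, ∀ c ∈ B, b ≠ c → (b ∩ c).card < t)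
    (hcount : B.card * k.choose t = (Fintype.card α).choose t) :
    IsSteinerSystem t k (B : Set (Finset α)) := by
  refine ⟨fun b hb => hk b (mem_coe.1 hb), fun s hs => ?_⟩
  have huniq : ∀ b ∈ B, ∀ c ∈ B, ∀ s : Finset α, s.card = t → s ⊆ b → s ⊆ c → b = c :=
    fun b hb c hc s hs h1 h2 => by
      by_contra h
      have h3 : s.card ≤ (b ∩ c).card := card_le_card (subset_inter h1 h2)
      have := hint b hb c hc h
      omega
  have hU : (B.biUnion fun b => b.powersetCard t) = (univ : Finset α).powersetCard t := by
    refine eq_of_subset_of_card_le (fun u hu => ?_) ?_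
    · simp only [mem_biUnion, mem_powersetCard] at hu ⊢
      obtain ⟨b, -, -, h⟩ := hu
      exact ⟨subset_univ _, h⟩
    · rw [card_biUnion, sum_congr rfl (g := fun _ => k.choose t) (fun b hb => by
        rw [card_powersetCard, hk b hb]), sum_const, smul_eq_mul, hcount, card_powersetCard, card_univ]
      intro b hb c hc hne
      refine disjoint_left.2 fun u h1 h2 => hne ?_
      rw [mem_powersetCard] at h1 h2
      exact huniq b (mem_coe.1 hb) c (mem_coe.1 hc) u h1.2 h1.1 h2.1
  have hm : s ∈ B.biUnion fun b => b.powersetCard t := by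
    rw [hU, mem_powersetCard]; exact ⟨subset_univ _, hs⟩
  simp only [mem_biUnion, mem_powersetCard] at hm
  obtain ⟨b, hb, hsb, -⟩ := hm
  exact ⟨b, ⟨mem_coe.2 hb, hsb⟩, fun c hc => huniq c (mem_coe.1 hc.1) b hb s hs hc.2 hsb⟩

namespace S11

variable {α : Type*} [Fintype α] [DecidableEq α]

/-- The twelve-point extension of a family of blocks. -/
noncomputable def extend11 (B : Set (Finset α)) : Finset (Finset (Option α)) :=
  (Steiner.blocks B).image (fun b => insertNone b) ∪
    (Steiner.blocks B).image fun b => bᶜ.map Function.Embedding.some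

variable {B : Set (Finset α)} (hα : Fintype.card α = 11) (hB : IsSteinerSystem 4 5 B)
include hα hB

theorem inter_pos {b c : Finset α} (hb : b ∈ B) (hc : c ∈ B) : 0 < (b ∩ c).card := by
  by_cases h : b = c
  · rw [h, inter_self, hB.1 c hc]; norm_num
  have h0 := Steiner.moment_erase hB hb (j := 0) (m := 66) (by norm_num) (by decide) (by rw [hα]; decide)
  have h1 := Steiner.moment_erase hB hb (j := 1) (m := 30) (by norm_num) (by decide) (by rw [hα]; decide)
  have h2 := Steiner.moment_erase hB hb (j := 2) (m := 12) (by norm_num) (by decide) (by rw [hα]; decide)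
  have h3 := Steiner.moment_erase hB hb (j := 3) (m := 4) (by norm_num) (by decide) (by rw [hα]; decide)
  simp only [sum_range_succ, sum_range_zero, Nat.choose, zero_add, mul_zero, mul_one, Nat.reduceAdd]
    at h0 h1 h2 h3
  have e0 : Steiner.nMeet B b {b} 0 = 0 := by omega
  exact Nat.pos_of_ne_zero
    (Steiner.inter_card_ne b hc (by simpa using Ne.symm h) e0)

omit hα hB in
theorem mem_extend11 {s : Finset (Option α)} :
    s ∈ extend11 B ↔ (∃ b ∈ B, s = insertNone b) ∨ ∃ b ∈ B, s = bᶜ.map Function.Embedding.some := by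
  simp [extend11, Steiner.mem_blocks, eq_comm]

omit hα hB in
theorem insertNone_mem_extend11 {b : Finset α} : insertNone b ∈ extend11 B ↔ b ∈ B := by
  rw [mem_extend11]
  refine ⟨?_, fun h => Or.inl ⟨b, h, rfl⟩⟩
  rintro (⟨c, hc, e⟩ | ⟨c, -, e⟩)
  · have := congrArg eraseNone e
    simp at this
    rwa [this]
  · have : (none : Option α) ∈ insertNone b := by simp
    rw [e] at this
    simp at this

theorem extend11_isSteinerSystem : IsSteinerSystem 5 6 (extend11 B : Set (Finset (Option α))) := by
  have hk : ∀ s ∈ extend11 B, s.card = 6 := by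
    intro s hs
    rcases mem_extend11.1 hs with ⟨b, hb, rfl⟩ | ⟨b, hb, rfl⟩
    · rw [card_insertNone, hB.1 b hb]
    · rw [card_map, card_compl, hB.1 b hb, hα]
  refine isSteinerSystem_of_count _ hk (fun s hs t ht hne => ?_) ?_
  · have hmix : ∀ b ∈ B, ∀ c ∈ B, (insertNone b ∩ cᶜ.map Function.Embedding.some).card < 5 := by
      intro b hb c hc
      rw [show insertNone b ∩ cᶜ.map Function.Embedding.some = (b \ c).map Function.Embedding.some by
        ext (_ | x) <;> simp, card_map, card_sdiff, hB.1 b hb, inter_comm]
      have := inter_pos hα hB hb hc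
      omega
    rcases mem_extend11.1 hs with ⟨b, hb, rfl⟩ | ⟨b, hb, rfl⟩ <;>
      rcases mem_extend11.1 ht with ⟨c, hc, rfl⟩ | ⟨c, hc, rfl⟩
    · rw [show insertNone b ∩ insertNone c = insertNone (b ∩ c) by ext (_ | x) <;> simp, card_insertNone]
      have := Steiner.inter_lt hB hb hc (fun e => hne (by rw [e]))
      omega
    · exact hmix b hb c hc
    · rw [inter_comm]; exact hmix c hc b hb
    · rw [← map_inter, card_map, ← compl_union, card_compl, hα]
      have h1 := card_union_add_card_inter b c
      rw [hB.1 b hb, hB.1 c hc] at h1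
      have := Steiner.inter_lt hB hb hc (fun e => hne (by rw [e]))
      omega
  · have h66 : (Steiner.blocks B).card = 66 := by
      have h := Steiner.ncard_mul_choose hB
      rw [Steiner.ncard_eq, hα, show Nat.choose 5 4 = 5 by decide, show Nat.choose 11 4 = 330 by decide] at h
      omega
    rw [extend11, card_union_of_disjoint, card_image_of_injective, card_image_of_injective, h66,
      Fintype.card_option, hα]
    · decide
    · exact fun b c h => compl_injective (map_injective _ h)
    · exact fun b c h => by simpa using congrArg eraseNone h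
    · refine disjoint_left.2 fun s hs hs' => ?_
      obtain ⟨b, -, rfl⟩ := mem_image.1 hs
      obtain ⟨c, -, e⟩ := mem_image.1 hs'
      have : (none : Option α) ∈ insertNone b := by simp
      rw [← e] at this
      simp at this

theorem unique11 {β : Type*} [Fintype β] [DecidableEq β] {B' : Set (Finset β)}
    (hβ : Fintype.card β = 11) (hB' : IsSteinerSystem 4 5 B') : SetSystemIso B B' := by
  have h12 : Fintype.card (Option α) = 12 := by rw [Fintype.card_option, hα]
  have h12' : Fintype.card (Option β) = 12 := by rw [Fintype.card_option, hβ]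
  have hE := extend11_isSteinerSystem hα hB
  have hE' := extend11_isSteinerSystem hβ hB'
  obtain ⟨e, he⟩ := S12.steiner12_unique h12 h12' hE hE'
  have := (S12.steiner12_aut h12' hE').2.1
  have h1 : MulAction.IsMultiplyPretransitive (setSystemAut (extend11 B' : Set (Finset (Option β)))) (Option β) 1 :=
    MulAction.isMultiplyPretransitive_of_le (n := 5) (by norm_num) (by simp [h12'])
  have := MulAction.is_one_pretransitive_iff.1 h1
  obtain ⟨g, hg⟩ := MulAction.exists_smul_eq (setSystemAut (extend11 B' : Set (Finset (Option β))))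
    (e none) (none : Option β)
  let f := e.trans g.1
  have f0 : f none = none := hg
  have fs : ∀ a, f (some a) = some (Equiv.removeNone f a) := fun a => by
    refine (Equiv.removeNone_some f ?_).symm
    rcases h : f (some a) with _ | z
    · exact absurd (f.injective (h.trans f0.symm)) (by simp)
    · exact ⟨z, rfl⟩
  have himg : ∀ b : Finset α, (insertNone b).image f = insertNone (b.image (Equiv.removeNone f)) := by
    intro b
    ext w
    obtain ⟨w, rfl⟩ := f.surjective w
    rw [f.injective.mem_finset_image]
    rcases w with _ | a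
    · rw [f0]; simp
    · rw [fs]; simp
  have hmem : ∀ s : Finset (Option α), s ∈ extend11 B ↔ s.image f ∈ extend11 B' := by
    intro s
    rw [show s.image f = (s.image e).image g.1 by rw [image_image]; rfl]
    constructor
    · intro h
      refine mem_coe.1 (setSystemAut_image_mem g.2 ?_)
      rw [← he]; exact ⟨s, mem_coe.2 h, rfl⟩
    · intro h
      have h2 := setSystemAut_image_mem (inv_mem g.2) (mem_coe.2 h)
      rw [image_image, show (⇑(g.1)⁻¹ ∘ ⇑g.1) = id from funext fun p => perm_inv_apply _ p, image_id,
        ← he] at h2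
      obtain ⟨t, ht, hts⟩ := h2
      exact mem_coe.1 (image_injective e.injective hts ▸ ht)
  refine ⟨Equiv.removeNone f, Set.ext fun z => ⟨?_, fun hz => ⟨z.image (Equiv.removeNone f).symm, ?_, ?_⟩⟩⟩
  · rintro ⟨b, hb, rfl⟩
    exact insertNone_mem_extend11.1 (himg b ▸ (hmem _).1 (insertNone_mem_extend11.2 hb))
  · refine insertNone_mem_extend11.1 ((hmem _).2 ?_)
    rw [himg, image_image, Equiv.self_comp_symm, image_id]
    exact insertNone_mem_extend11.2 hz
  · show (z.image (Equiv.removeNone f).symm).image (Equiv.removeNone f) = z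
    rw [image_image, Equiv.self_comp_symm, image_id]

theorem aut11 : IsM11 (setSystemAut B) ∧ MulAction.IsMultiplyPretransitive (setSystemAut B) α 4 ∧
    ∀ x : Fin 4 ↪ α, MulAction.stabilizer (setSystemAut B) x = ⊥ := by
  have h12 : Fintype.card (Option α) = 12 := by rw [Fintype.card_option, hα]
  have hE := extend11_isSteinerSystem hα hB
  set G := setSystemAut (extend11 B : Set (Finset (Option α))) with hG
  have hext : ∀ π ∈ setSystemAut B, Equiv.optionCongr π ∈ G := fun π hπ => by
    refine mem_setSystemAut_of_image fun s hs => mem_coe.2 ?_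
    rcases mem_extend11.1 (mem_coe.1 hs) with ⟨b, hb, rfl⟩ | ⟨b, hb, rfl⟩
    · rw [image_insertNone_optionCongr]
      exact mem_extend11.2 (Or.inl ⟨_, setSystemAut_image_mem hπ hb, rfl⟩)
    · refine mem_extend11.2 (Or.inr ⟨b.image π, setSystemAut_image_mem hπ hb, ?_⟩)
      ext w
      obtain ⟨w, rfl⟩ := (Equiv.optionCongr π).surjective w
      rw [(Equiv.injective _).mem_finset_image]
      rcases w with _ | a <;> simp
  let r : setSystemAut B →* MulAction.stabilizer G (none : Option α) :=
    { toFun := fun π => ⟨⟨_, hext π.1 π.2⟩, rfl⟩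
      map_one' := Subtype.ext (Subtype.ext (Equiv.ext fun x => by cases x <;> rfl))
      map_mul' := fun a b => Subtype.ext (Subtype.ext (Equiv.ext fun x => by cases x <;> rfl)) }
  have hr : Function.Bijective r := by
    refine ⟨fun a b h => Subtype.ext (Equiv.optionCongr_injective
      (congrArg Subtype.val (congrArg Subtype.val h : (r a).1 = (r b).1))), ?_⟩
    rintro ⟨⟨σ, hσ⟩, hσ0⟩
    have h0 : σ none = none := hσ0
    have e : Equiv.optionCongr (Equiv.removeNone σ) = σ := by
      refine Equiv.ext fun x => ?_
      rcases x with _ | a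
      · exact h0.symm
      · refine Equiv.removeNone_some _ ?_
        rcases h : σ (some a) with _ | y
        · exact absurd (σ.injective (h.trans h0.symm)) (by simp)
        · exact ⟨y, rfl⟩
    refine ⟨⟨Equiv.removeNone σ, mem_setSystemAut_of_image fun b hb => ?_⟩, Subtype.ext (Subtype.ext e)⟩
    rw [← insertNone_mem_extend11 (B := B), ← image_insertNone_optionCongr, e]
    exact mem_coe.1 (setSystemAut_image_mem hσ (mem_coe.2 (insertNone_mem_extend11.2 hb)))
  let R := MulEquiv.ofBijective r hr
  -- transport the stabiliser to the standard system and to `Spor.M11`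
  obtain ⟨e, he⟩ := S12.exists_equiv h12 hE
  obtain ⟨Φ, hΦ⟩ := S12.autStd12_equiv
  let Ψ : Spor.M12 ≃* G := Φ.trans (setSystemAutCongr e he)
  have hΨ : ∀ (g : Spor.M12) i, S12.pos (e.symm ((Ψ g : Equiv.Perm (Option α)) (e i))) =
      (g : Equiv.Perm GolayPt) (S12.pos i) := fun g i => by
    show S12.pos (e.symm ((setSystemAutCongr e he (Φ g) : Equiv.Perm (Option α)) (e i))) = _
    rw [setSystemAutCongr_apply, e.symm_apply_apply, hΦ]
  set x0 := S12.pos (e.symm none)
  have S : MulAction.stabilizer Spor.M12 x0 ≃* MulAction.stabilizer G (none : Option α) :=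
    (Ψ.subgroupMap _).trans (MulEquiv.subgroupCongr (by
      ext g
      obtain ⟨a, rfl⟩ := Ψ.surjective g
      refine Subgroup.mem_map_equiv.trans ?_
      rw [Ψ.symm_apply_apply, MulAction.mem_stabilizer_iff, MulAction.mem_stabilizer_iff]
      show (a : Equiv.Perm GolayPt) x0 = x0 ↔ (Ψ a : Equiv.Perm (Option α)) none = none
      rw [← hΨ, e.apply_symm_apply, S12.pos_injective.eq_iff, e.symm.injective.eq_iff]))
  obtain ⟨a, ha, -, ha0⟩ := m12_chain.1 x0 (mem_filter.2 ⟨S12.pos_mem _, List.not_mem_nil⟩)
  have ha0' : a • (some 0 : GolayPt) = x0 := by rw [← pt_0]; exact ha0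
  have T : Spor.M11 ≃* MulAction.stabilizer Spor.M12 x0 :=
    (stabilizerConj ha (β := GolayPt) ha0').trans (stabilizerInfEquiv Spor.M12 x0).symm
  have E := (T.trans S).trans R.symm
  refine ⟨⟨E.isSimpleGroup_congr.1 simple_SporM11, by rw [← Nat.card_congr E.toEquiv, card_SporM11]⟩,
    ⟨fun x y => ?_⟩, fun x => ?_⟩
  · have h5 := (S12.steiner12_aut h12 hE).2.1
    obtain ⟨g, hg⟩ := h5.exists_smul_eq
      ⟨Fin.cons none (some ∘ x), Fin.cons_injective_iff.2 ⟨by simp, (Option.some_injective _).comp x.injective⟩⟩
      ⟨Fin.cons none (some ∘ y), Fin.cons_injective_iff.2 ⟨by simp, (Option.some_injective _).comp y.injective⟩⟩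
    have g0 : g • (none : Option α) = none := DFunLike.congr_fun hg 0
    obtain ⟨π, hπ⟩ := hr.2 ⟨g, g0⟩
    refine ⟨π, Function.Embedding.ext fun i => Option.some_injective _ ?_⟩
    have h1 := congrArg (fun z : MulAction.stabilizer G (none : Option α) =>
      ((z : G) : Equiv.Perm (Option α)) (some (x i))) hπ
    exact h1.trans (DFunLike.congr_fun hg i.succ)
  · refine (Subgroup.eq_bot_iff_forall _).2 fun π hπ => ?_
    have h5 := (S12.steiner12_aut h12 hE).2.2
      ⟨Fin.cons none (some ∘ x), Fin.cons_injective_iff.2 ⟨by simp, (Option.some_injective _).comp x.injective⟩⟩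
    have hm : (r π : G) ∈ MulAction.stabilizer G
        (⟨Fin.cons none (some ∘ x), Fin.cons_injective_iff.2
          ⟨by simp, (Option.some_injective _).comp x.injective⟩⟩ : Fin 5 ↪ Option α) := by
      refine Function.Embedding.ext fun i => ?_
      refine Fin.cases rfl (fun j => ?_) i
      exact congrArg some (DFunLike.congr_fun hπ j)
    rw [h5, Subgroup.mem_bot] at hm
    exact hr.1 (Subtype.ext (hm.trans (by simp)))

end S11

end CfsgLib.Mathieu
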