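import Cfsg.Agent.Mathieu.Steiner22
import Cfsg.Agent.Mathieu.SteinerAut
import Cfsg.Agent.Mathieu.General

/-!
Uniqueness of S(3,6,22) and its automorphism group.
-/

set_option autoImplicit false

namespace CfsgLib.Mathieu.S22

open Cfsg Finset
open scoped symmDiff Pointwise

/-- A bijection fixing both new points restricts to the old ones. -/
theorem restrict_two {α β : Type*} (f : Option (Option α) ≃ Option (Option β)) (h0 : f none = none)
    (h1 : f (some none) = some none) : ∃ g : α ≃ β, ∀ x, f (some (some x)) = some (some (g x)) := by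
  have s1 : ∀ y, f (some y) = some (Equiv.removeNone f y) := fun y => by
    refine (Equiv.removeNone_some f ?_).symm
    rcases h : f (some y) with _ | z
    · exact absurd (f.injective (h.trans h0.symm)) (by simp)
    · exact ⟨z, rfl⟩
  have h1' : Equiv.removeNone f none = none := Option.some_injective _ ((s1 none).symm.trans h1)
  refine ⟨Equiv.removeNone (Equiv.removeNone f), fun x => ?_⟩
  rw [s1, Equiv.removeNone_some (Equiv.removeNone f) (x := x)]
  rcases h : Equiv.removeNone f (some x) with _ | z
  · exact absurd ((Equiv.removeNone f).injective (h.trans h1'.symm)) (by simp)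
  · exact ⟨z, rfl⟩

variable {α : Type*} [Fintype α] [DecidableEq α] {B : Set (Finset α)}

theorem image_ext2_eq {β : Type*} [Fintype β] [DecidableEq β]
    {f : Option (Option α) ≃ Option (Option β)} {g : α ≃ β} (h0 : f none = none)
    (h1 : f (some none) = some none) (hg : ∀ x, f (some (some x)) = some (some (g x))) (y : Finset α)
    (a b : Bool) : (ext2 y a b).image f = ext2 (y.image g) a b := by
  ext w
  obtain ⟨w, rfl⟩ := f.surjective w
  rw [f.injective.mem_finset_image]
  rcases w with _ | _ | x
  · rw [h0]; simp
  · rw [h1]; simp
  · rw [hg]; simp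

theorem image_ext2_swap (y : Finset α) (a b : Bool) :
    (ext2 y a b).image (Equiv.swap none (some none)) = ext2 y b a := by
  ext w
  obtain ⟨w, rfl⟩ := (Equiv.swap (none : Option (Option α)) (some none)).surjective w
  rw [(Equiv.injective _).mem_finset_image]
  rcases w with _ | _ | x
  · simp
  · simp
  · rw [Equiv.swap_apply_of_ne_of_ne (by simp) (by simp)]; simp

/-- An equivalence with the Golay code sending the new points to the two standard points. -/
theorem exists_std_equiv (hα : Fintype.card α = 22) (hB : IsSteinerSystem 3 6 B) {v : Finset α}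
    (hv : ∀ b ∈ B, (v ∩ b).card % 2 = 1) :
    ∃ e : Option (Option α) ≃ GolayPt, e none = none ∧ e (some none) = some 0 ∧
      ∀ s, s ∈ code v B ↔ s.image e ∈ supports (golayCode : Set (GolayPt → ZMod 2)) := by
  obtain ⟨e, he⟩ := (isGolayFamily_code hα hB hv).exists_equiv
  obtain ⟨g, hg, h1, h2⟩ := exists_M24_map_two (e none) (e (some none))
    (fun h => by simpa using e.injective h)
  refine ⟨e.trans g⁻¹, ?_, ?_, fun s => ?_⟩
  · show g⁻¹ (e none) = none
    rw [← h1, perm_inv_apply]
  · show g⁻¹ (e (some none)) = some 0
    rw [← h2, perm_inv_apply]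
  · rw [he s, show s.image (e.trans g⁻¹) = (s.image e).image ⇑g⁻¹ by rw [image_image]; rfl]
    refine ⟨fun h => setSystemAut_image_mem (inv_mem hg) h, fun h => ?_⟩
    have := setSystemAut_image_mem hg h
    rwa [image_image, show (⇑g ∘ ⇑g⁻¹) = id from funext fun p => perm_apply_inv g p, image_id] at this

theorem unique22 {β : Type*} [Fintype β] [DecidableEq β] (hα : Fintype.card α = 22)
    (hβ : Fintype.card β = 22) {B' : Set (Finset β)} (hB : IsSteinerSystem 3 6 B)
    (hB' : IsSteinerSystem 3 6 B') : SetSystemIso B B' := by
  obtain ⟨v, hv⟩ := exists_odd_vector hα hB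
  obtain ⟨v', hv'⟩ := exists_odd_vector hβ hB'
  obtain ⟨e, e0, e1, he⟩ := exists_std_equiv hα hB hv
  obtain ⟨e', e0', e1', he'⟩ := exists_std_equiv hβ hB' hv'
  have f0 : e.trans e'.symm none = none := e'.injective (by simp [e0, e0'])
  have f1 : e.trans e'.symm (some none) = some none := e'.injective (by simp [e1, e1'])
  obtain ⟨g, hg⟩ := restrict_two (e.trans e'.symm) f0 f1
  have hmem : ∀ y, y ∈ B ↔ y.image g ∈ B' := fun y => by
    rw [← mem_blocks_iff_code hα hB (v := v), ← mem_blocks_iff_code hβ hB' (v := v'),
      ← image_ext2_eq f0 f1 hg, he, he', card_image_of_injective _ (e.trans e'.symm).injective,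
      image_image]
    simp [Function.comp_def]
  refine ⟨g, Set.ext fun z => ⟨?_, fun hz => ⟨z.image g.symm, ?_, ?_⟩⟩⟩
  · rintro ⟨y, hy, rfl⟩; exact (hmem y).1 hy
  · rw [hmem, image_image, g.self_comp_symm, image_id]; exact hz
  · show (z.image g.symm).image g = z
    rw [image_image, g.self_comp_symm, image_id]

/-- The extension of a permutation by the identity or the swap of the two new points. -/
def extendPerm (π : Equiv.Perm α) (t : Bool) : Equiv.Perm (Option (Option α)) :=
  Equiv.optionCongr (Equiv.optionCongr π) * if t then Equiv.swap none (some none) else 1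

omit [Fintype α] in
theorem extendPerm_some (π : Equiv.Perm α) (t : Bool) (x : α) :
    extendPerm π t (some (some x)) = some (some (π x)) := by
  cases t
  · rfl
  · simp [extendPerm, Equiv.swap_apply_of_ne_of_ne]

theorem image_extendPerm (π : Equiv.Perm α) (t : Bool) (y : Finset α) (a b : Bool) :
    (ext2 y a b).image (extendPerm π t) =
      if t then ext2 (y.image π) b a else ext2 (y.image π) a b := by
  have h : ∀ a b, (ext2 y a b).image (Equiv.optionCongr (Equiv.optionCongr π)) = ext2 (y.image π) a b :=
    image_ext2_eq rfl rfl (fun _ => rfl) y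
  cases t
  · simp only [extendPerm, Bool.false_eq_true, if_false, mul_one]
    exact h a b
  · simp only [extendPerm, if_true, Equiv.Perm.coe_mul, ← image_image, image_ext2_swap]
    exact h b a

theorem aut22 (hα : Fintype.card α = 22) (hB : IsSteinerSystem 3 6 B) :
    Nat.card (setSystemAut B) = 887040 ∧ MulAction.IsMultiplyPretransitive (setSystemAut B) α 3 ∧
      ∃ H : Subgroup (setSystemAut B), H.index = 2 ∧ IsM22 H := by
  obtain ⟨v, hv⟩ := exists_odd_vector hα hB
  obtain ⟨e, e0, e1, he⟩ := exists_std_equiv hα hB hv
  set G := setSystemAut (code v B : Set (Finset (Option (Option α))))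
  have hG : ∀ {g}, g ∈ G → ∀ s, s ∈ code v B → s.image g ∈ code v B :=
    fun hg s hs => mem_coe.1 (setSystemAut_image_mem hg (mem_coe.2 hs))
  have hGof : ∀ {g : Equiv.Perm (Option (Option α))}, (∀ s ∈ code v B, s.image g ∈ code v B) → g ∈ G :=
    fun h => mem_setSystemAut_of_image fun s hs => mem_coe.2 (h s (mem_coe.1 hs))
  have heq : (fun s : Finset (Option (Option α)) => s.image e) '' (code v B : Set _) =
      supports (golayCode : Set (GolayPt → ZMod 2)) := by
    ext o
    refine ⟨?_, fun ho => ⟨o.image e.symm, mem_coe.2 ((he _).2 ?_), ?_⟩⟩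
    · rintro ⟨s, hs, rfl⟩; exact (he s).1 (mem_coe.1 hs)
    · rwa [image_image, e.self_comp_symm, image_id]
    · show (o.image e.symm).image e = o
      rw [image_image, e.self_comp_symm, image_id]
  let Φ : G ≃* M24 := setSystemAutCongr e heq
  have hΦ : ∀ (g : G) x, (Φ g : Equiv.Perm GolayPt) (e x) = e ((g : Equiv.Perm _) x) :=
    setSystemAutCongr_apply e heq
  -- swapping the new points is no automorphism
  have hswap : Equiv.swap (none : Option (Option α)) (some none) ∉ G := fun h => by
    have h1 : ext2 v true false ∈ code v B :=
      mem_code.2 (Or.inr ⟨by simp, by rw [symmDiff_self]; exact empty_mem_perp, by simp [q]⟩)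
    have h2 := hG h _ h1
    rw [image_ext2_swap, mem_code] at h2
    simp [q] at h2
  -- extensions
  have hperp : ∀ π ∈ setSystemAut B, ∀ y ∈ perp B, y.image π ∈ perp B := fun π hπ y hy =>
    mem_perp.2 fun b hb => by
      have h := mem_perp.1 hy _ (setSystemAut_image_mem (inv_mem hπ) hb)
      rwa [← card_image_of_injective _ π.injective, image_inter _ _ π.injective, image_image (g := π),
        show (⇑π ∘ ⇑π⁻¹) = id from funext fun x => perm_apply_inv π x, image_id] at h
  have hq : ∀ (π : Equiv.Perm α) (y : Finset α), q (y.image π) = q y := fun π y => by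
    simp [q, card_image_of_injective _ π.injective]
  have hvP : ∀ π ∈ setSystemAut B, v ∆ v.image π ∈ perp B := fun π hπ => mem_perp.2 fun b hb => by
    have h1 := hv b hb
    have h2 : ((v.image π) ∩ b).card % 2 = 1 := by
      have h := hv _ (setSystemAut_image_mem (inv_mem hπ) hb)
      rwa [← card_image_of_injective _ π.injective, image_inter _ _ π.injective, image_image (g := π),
        show (⇑π ∘ ⇑π⁻¹) = id from funext fun x => perm_apply_inv π x, image_id] at h
    have := inter_card_symmDiff b v (v.image π)
    rw [inter_comm v b] at h1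
    rw [inter_comm (v.image π) b] at h2
    rw [inter_comm, Nat.even_iff]
    omega
  have hext : ∀ π ∈ setSystemAut B, extendPerm π (q (v ∆ v.image π)) ∈ G := by
    intro π hπ
    set t := q (v ∆ v.image π) with ht
    refine hGof fun s hs => ?_
    simp only [code, mem_image, mem_product, mem_univ, and_true, Prod.exists] at hs
    obtain ⟨x, c, hx, rfl⟩ := hs
    have hx' := hperp π hπ x hx
    rw [image_extendPerm, ← apply_ite (fun y : Finset α × Bool × Bool => ext2 y.1 y.2.1 y.2.2)
      (t = true) (_, q x, q x ^^ c) (_, q x ^^ c, q x)]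
    cases c
    · cases t <;> exact mem_code.2 (Or.inl ⟨by simp, by simpa using hx', by simp [hq]⟩)
    · have hmem : v ∆ ((v ∆ x).image π) ∈ perp B ∧ q (v ∆ ((v ∆ x).image π)) = (t ^^ q x) := by
        rw [image_symmDiff _ _ π.injective, ← symmDiff_assoc]
        exact ⟨perp_symm (hvP π hπ) hx', by rw [q_symmDiff hα hB (hvP π hπ) hx', hq, ← ht]⟩
      clear_value t
      cases t <;> exact mem_code.2 (Or.inr ⟨by cases q x <;> simp,
        by simpa using hmem.1, by simpa using hmem.2.symm⟩)
  have huniq : ∀ g ∈ G, ∀ g' ∈ G, (∀ x, g (some (some x)) = g' (some (some x))) → g = g' := by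
    intro g hg g' hg' h
    by_contra hne
    have hk : g'⁻¹ * g ∈ G := mul_mem (inv_mem hg') hg
    have hfix : ∀ x, (g'⁻¹ * g) (some (some x)) = some (some x) := fun x => by
      show g'⁻¹ (g (some (some x))) = _
      rw [h x, perm_inv_apply]
    have hswapk : g'⁻¹ * g = Equiv.swap none (some none) := by
      set k := g'⁻¹ * g with hkdef
      have hk1 : k ≠ 1 := fun e => hne (inv_mul_eq_one.1 e).symm
      have hpair : ∀ w, w = none ∨ w = some none → k w = none ∨ k w = some none := by
        intro w hw
        rcases hkw : k w with _ | _ | x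
        · exact Or.inl rfl
        · exact Or.inr rfl
        · exfalso
          have := k.injective (hkw.trans (hfix x).symm)
          rcases hw with rfl | rfl <;> simp at this
      rcases hpair none (Or.inl rfl) with h0 | h0
      · exfalso
        apply hk1
        refine Equiv.ext fun w => ?_
        rcases w with _ | _ | x
        · exact h0
        · rcases hpair (some none) (Or.inr rfl) with h1 | h1
          · exact absurd (k.injective (h1.trans h0.symm)) (by simp)
          · exact h1
        · exact hfix x
      · refine Equiv.ext fun w => ?_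
        rcases w with _ | _ | x
        · rw [h0]; simp
        · rcases hpair (some none) (Or.inr rfl) with h1 | h1
          · rw [h1]; simp
          · exact absurd (k.injective (h1.trans h0.symm)) (by simp)
        · rw [hfix x, Equiv.swap_apply_of_ne_of_ne (by simp) (by simp)]
    exact hswap (hswapk ▸ hk)
  -- the setwise stabiliser of the two standard points
  set pair : Finset GolayPt := {none, some 0} with hpairdef
  have hepair : ({none, some none} : Finset (Option (Option α))).image e = pair := by
    simp [hpairdef, image_insert, e0, e1]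
  set St := M24 ⊓ MulAction.stabilizer (Equiv.Perm GolayPt) pair
  let toSt : setSystemAut B → St := fun π =>
    ⟨(Φ ⟨_, hext π.1 π.2⟩ : Equiv.Perm GolayPt), (Φ ⟨_, hext π.1 π.2⟩).2, by
      show pair.image (Φ ⟨_, hext π.1 π.2⟩ : Equiv.Perm GolayPt) = pair
      rw [← hepair, image_image]
      have : ∀ t, ({none, some none} : Finset (Option (Option α))).image (extendPerm π.1 t) =
          {none, some none} := fun t => by
        cases t <;> simp [extendPerm, image_insert, Finset.pair_comm]
      conv_rhs => rw [← this (q (v ∆ v.image π.1)), image_image]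
      exact image_congr fun w _ => hΦ _ w⟩
  have hval : ∀ π x, (toSt π : Equiv.Perm GolayPt) (e (some (some x))) = e (some (some (π.1 x))) :=
    fun π x => by
      show (Φ ⟨_, hext π.1 π.2⟩ : Equiv.Perm GolayPt) _ = _
      rw [hΦ]; exact congrArg e (extendPerm_some _ _ x)
  have hStext : ∀ g g' : St,
      (∀ x, (g : Equiv.Perm GolayPt) (e (some (some x))) = (g' : Equiv.Perm GolayPt) (e (some (some x)))) →
        g = g' := by
    intro g g' h
    obtain ⟨a, ha⟩ := Φ.surjective ⟨g.1, g.2.1⟩
    obtain ⟨a', ha'⟩ := Φ.surjective ⟨g'.1, g'.2.1⟩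
    have hga : (g : Equiv.Perm GolayPt) = Φ a := by rw [ha]
    have hga' : (g' : Equiv.Perm GolayPt) = Φ a' := by rw [ha']
    have : a = a' := Subtype.ext (huniq _ a.2 _ a'.2 fun x => e.injective (by
      rw [← hΦ, ← hΦ, ← hga, ← hga', h x]))
    exact Subtype.ext (by rw [hga, hga', this])
  have hsurj : Function.Surjective toSt := by
    intro g
    obtain ⟨a, ha⟩ := Φ.surjective ⟨g.1, g.2.1⟩
    have hga : (g : Equiv.Perm GolayPt) = Φ a := by rw [ha]
    set k := (a : Equiv.Perm (Option (Option α))) with hk
    have hkpair : ({none, some none} : Finset (Option (Option α))).image k = {none, some none} := by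
      apply image_injective e.injective
      have hgp : pair.image (g : Equiv.Perm GolayPt) = pair := g.2.2
      rw [hepair, image_image]
      conv_rhs => rw [← hgp, ← hepair, image_image]
      exact image_congr fun w _ => by rw [Function.comp_apply, Function.comp_apply, hga, hΦ]
    obtain ⟨t, f0, f1⟩ : ∃ t : Bool,
        ((k * if t then Equiv.swap none (some none) else 1 : Equiv.Perm (Option (Option α))) :
          Equiv.Perm (Option (Option α))) none = none ∧
        ((k * if t then Equiv.swap none (some none) else 1 : Equiv.Perm (Option (Option α))) :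
          Equiv.Perm (Option (Option α))) (some none) = some none := by
      have h0 : k none ∈ ({none, some none} : Finset (Option (Option α))) := by
        rw [← hkpair]; exact mem_image_of_mem _ (by simp)
      have h1 : k (some none) ∈ ({none, some none} : Finset (Option (Option α))) := by
        rw [← hkpair]; exact mem_image_of_mem _ (by simp)
      have hne : k none ≠ k (some none) := fun h => by simpa using k.injective h
      simp only [mem_insert, mem_singleton] at h0 h1
      rcases h0 with h0 | h0 <;> rcases h1 with h1 | h1
      · exact absurd (h0.trans h1.symm) hne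
      · exact ⟨false, by simpa using h0, by simpa using h1⟩
      · exact ⟨true, by simpa using h1, by simpa using h0⟩
      · exact absurd (h0.trans h1.symm) hne
    obtain ⟨π, hπ⟩ := restrict_two _ f0 f1
    have hπk : ∀ x, k (some (some x)) = some (some (π x)) := fun x => by
      rw [← hπ x]
      cases t <;> simp [Equiv.swap_apply_of_ne_of_ne]
    have hπB : π ∈ setSystemAut B := by
      refine mem_setSystemAut_of_image fun y hy => ?_
      obtain ⟨h1, h8⟩ := (mem_blocks_iff_code hα hB (v := v) y).2 hy
      rw [← mem_blocks_iff_code hα hB (v := v)]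
      have himg : (ext2 y true true).image k = ext2 (y.image π) true true := by
        have h := image_ext2_eq f0 f1 hπ y true true
        cases t
        · simpa using h
        · rw [if_pos rfl, Equiv.Perm.coe_mul, ← image_image, image_ext2_swap] at h
          exact h
      rw [← himg, card_image_of_injective _ k.injective]
      exact ⟨hG a.2 _ h1, h8⟩
    exact ⟨⟨π, hπB⟩, hStext _ _ fun x => by rw [hval, hga, hΦ]; exact congrArg e (hπk x).symm⟩
  have hinj : Function.Injective toSt := fun π π' h => Subtype.ext (Equiv.ext fun x => by
    have h1 := hval π x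
    rw [h, hval π'] at h1
    simpa using (e.injective h1).symm)
  let Ψ : setSystemAut B ≃* St := MulEquiv.mk' (Equiv.ofBijective toSt ⟨hinj, hsurj⟩) fun π π' =>
    hStext _ _ fun x => by
      show (toSt (π * π') : Equiv.Perm GolayPt) _ = (toSt π : Equiv.Perm GolayPt) ((toSt π' : Equiv.Perm GolayPt) _)
      rw [hval, hval π', hval]; rfl
  have hcardSt : Nat.card St = 887040 := by
    rw [← Nat.card_congr (stabilizerInfEquiv M24 pair).toEquiv]
    have horb : MulAction.orbit M24 pair = {s : Finset GolayPt | s.card = 2} := by
      ext s
      constructor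
      · rintro ⟨g, rfl⟩
        show (pair.image (g : Equiv.Perm GolayPt)).card = 2
        rw [card_image_of_injective _ (Equiv.injective _), hpairdef, card_pair (by simp)]
      · intro hs
        obtain ⟨x, y, hxy, rfl⟩ := card_eq_two.1 hs
        obtain ⟨g, hg, h1, h2⟩ := exists_M24_map_two x y hxy
        exact ⟨⟨g, hg⟩, show pair.image g = _ by simp [hpairdef, image_insert, h1, h2]⟩
    have h := Subgroup.index_mul_card (MulAction.stabilizer M24 pair)
    rw [MulAction.index_stabilizer, horb, card_M24,
      show {s : Finset GolayPt | s.card = 2}.ncard = 276 by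
        rw [show {s : Finset GolayPt | s.card = 2} = ↑((univ : Finset GolayPt).powersetCard 2) by
          ext s; simp, Set.ncard_coe_finset, card_powersetCard, card_univ]
        simp [ZMod.card]
        decide] at h
    exact Nat.eq_of_mul_eq_mul_left (by norm_num : 0 < 276) (h.trans (by norm_num))
  have hle : Spor.M22 ≤ St := fun g hg => by
    refine ⟨hg.1.1, ?_⟩
    show pair.image g = pair
    have h1 : g none = none := hg.1.2
    have h2 : g (some 0) = some 0 := hg.2
    simp [hpairdef, image_insert, h1, h2]
  refine ⟨by rw [Nat.card_congr Ψ.toEquiv, hcardSt], ⟨fun x y => ?_⟩,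
    (Spor.M22.subgroupOf St).map Ψ.symm.toMonoidHom, ?_, ?_⟩
  · obtain ⟨g, hg, h⟩ := M24_map_five
      (Fin.cons none (Fin.cons (some 0) fun i => e (some (some (x i)))))
      (Fin.cons none (Fin.cons (some 0) fun i => e (some (some (y i)))))
      (by
        refine Fin.cons_injective_iff.2 ⟨?_, Fin.cons_injective_iff.2 ⟨?_, fun i j h => x.injective
          (by simpa using e.injective h)⟩⟩
        · rintro ⟨i, hi⟩
          refine Fin.cases (fun hi => by simp at hi) (fun j hi => ?_) i hi
          rw [Fin.cons_succ, ← e0] at hi
          simpa using e.injective hi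
        · rintro ⟨i, hi⟩
          rw [← e1] at hi
          simpa using e.injective hi)
      (by
        refine Fin.cons_injective_iff.2 ⟨?_, Fin.cons_injective_iff.2 ⟨?_, fun i j h => y.injective
          (by simpa using e.injective h)⟩⟩
        · rintro ⟨i, hi⟩
          refine Fin.cases (fun hi => by simp at hi) (fun j hi => ?_) i hi
          rw [Fin.cons_succ, ← e0] at hi
          simpa using e.injective hi
        · rintro ⟨i, hi⟩
          rw [← e1] at hi
          simpa using e.injective hi)
    have g0 : g none = none := by simpa using h 0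
    have g1 : g (some 0) = some 0 := by simpa using h 1
    have gst : g ∈ St := ⟨hg, show pair.image g = pair by simp [hpairdef, image_insert, g0, g1]⟩
    refine ⟨Ψ.symm ⟨g, gst⟩, Function.Embedding.ext fun i => ?_⟩
    have hh := hval (Ψ.symm ⟨g, gst⟩) (x i)
    rw [show toSt (Ψ.symm ⟨g, gst⟩) = ⟨g, gst⟩ from Ψ.apply_symm_apply _] at hh
    have hi : g (e (some (some (x i)))) = e (some (some (y i))) := by simpa using h i.succ.succ
    have := e.injective (hh.symm.trans hi)
    simp only [Option.some.injEq] at this
    exact this
  · rw [show Ψ.symm.toMonoidHom = (Ψ.symm : St →* setSystemAut B) from rfl, Subgroup.index_map_equiv]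
    have h := Subgroup.index_mul_card (Spor.M22.subgroupOf St)
    rw [Nat.card_congr (Subgroup.subgroupOfEquivOfLe hle).toEquiv, card_SporM22, hcardSt] at h
    exact Nat.eq_of_mul_eq_mul_right (by norm_num : 0 < 443520) (h.trans (by norm_num))
  · have E := ((Subgroup.equivMapOfInjective _ Ψ.symm.toMonoidHom Ψ.symm.injective).symm).trans
      (Subgroup.subgroupOfEquivOfLe hle)
    exact ⟨E.isSimpleGroup_congr.2 simple_SporM22, by rw [Nat.card_congr E.toEquiv, card_SporM22]⟩

end CfsgLib.Mathieu.S22
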