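import Cfsg.Agent.Mathieu.HigmanSimsData
import Cfsg.Agent.Mathieu.Steiner22Aut
import Cfsg.Agent.Mathieu.Steiner11

/-!
The even symmetries of the point-block graph of S(3,6,22) form a simple group of order 44352000.
-/

set_option autoImplicit false

namespace CfsgLib.Mathieu.HigmanSims

open Cfsg Finset
open Equiv (Perm)

/-- The adjacency of the numbered graph. -/
def adjB (u v : Fin 100) : Bool := (rows.getD u.1 0).testBit v.1

/-- Block `k` of the standard system. -/
def blk (k : Fin 77) : Finset (Fin 22) := univ.filter fun i => (blockMasks.getD k.1 0).testBit i.1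

theorem blk_injective : Function.Injective blk := by
  unfold Function.Injective; decide +kernel

/-- The standard system on 22 numbered points. -/
def stdBlocks : Finset (Finset (Fin 22)) := univ.image blk

theorem mem_stdBlocks {s : Finset (Fin 22)} :
    s ∈ (stdBlocks : Set (Finset (Fin 22))) ↔ ∃ k, blk k = s := by
  simp [stdBlocks]

theorem stdBlocks_isSteinerSystem : IsSteinerSystem 3 6 (stdBlocks : Set (Finset (Fin 22))) := by
  have h1 : ∀ k, (blk k).card = 6 := by decide +kernel
  have h2 : ∀ k l, k ≠ l → (blk k ∩ blk l).card < 3 := by decide +kernel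
  refine isSteinerSystem_of_count stdBlocks (fun b hb => ?_) (fun b hb c hc hne => ?_) ?_
  · obtain ⟨k, -, rfl⟩ := mem_image.1 hb; exact h1 k
  · obtain ⟨k, -, rfl⟩ := mem_image.1 hb
    obtain ⟨l, -, rfl⟩ := mem_image.1 hc
    exact h2 k l fun e => hne (e ▸ rfl)
  · rw [stdBlocks, card_image_of_injective _ blk_injective]; decide +kernel

/-- The numbering of the vertices. -/
def vtx : Option (Fin 22 ⊕ Fin 77) → Fin 100
  | none => 0
  | some (.inl i) => ⟨1 + i.1, by omega⟩
  | some (.inr k) => ⟨23 + k.1, by omega⟩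

theorem vtx_bijective : Function.Bijective vtx := by
  unfold Function.Bijective Function.Injective Function.Surjective
  refine ⟨?_, ?_⟩ <;> decide +kernel

theorem adjB_symm : ∀ u v, adjB u v = adjB v u := by decide +kernel

theorem adjB_self : ∀ u, adjB u u = false := by decide +kernel

theorem adjB_none_point : ∀ i, adjB 0 (vtx (some (.inl i))) = true := by decide +kernel

theorem adjB_none_block : ∀ k, adjB 0 (vtx (some (.inr k))) = false := by decide +kernel

theorem adjB_point_point : ∀ i j, adjB (vtx (some (.inl i))) (vtx (some (.inl j))) = false := by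
  decide +kernel

theorem adjB_point_block : ∀ i k, adjB (vtx (some (.inl i))) (vtx (some (.inr k))) = true ↔ i ∈ blk k := by
  decide +kernel

theorem adjB_block_block : ∀ k l,
    adjB (vtx (some (.inr k))) (vtx (some (.inr l))) = true ↔ Disjoint (blk k) (blk l) := by
  decide +kernel

/-- The numbering of any point-block graph. -/
theorem exists_vertexEquiv {α : Type*} [DecidableEq α] {B : Set (Finset α)} (e : α ≃ Fin 22)
    (he : (fun b : Finset α => b.image e) '' B = (stdBlocks : Set (Finset (Fin 22)))) :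
    ∃ f : Option (α ⊕ B) ≃ Fin 100, f none = 0 ∧ (∀ a, f (some (.inl a)) = vtx (some (.inl (e a)))) ∧
      ∀ v w, adjB (f v) (f w) = true ↔ (pointBlockGraph B).Adj v w := by
  have hk : ∀ b : B, ∃ k, blk k = b.1.image e := fun b =>
    mem_stdBlocks.1 (he ▸ Set.mem_image_of_mem _ b.2)
  choose g hg using hk
  have hgb : Function.Bijective g := by
    refine ⟨fun b c h => Subtype.ext (image_injective e.injective ?_), fun k => ?_⟩
    · rw [← hg b, ← hg c, h]
    · obtain ⟨b, hb, hbk⟩ : blk k ∈ (fun b : Finset α => b.image e) '' B :=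
        he.symm ▸ mem_stdBlocks.2 ⟨k, rfl⟩
      exact ⟨⟨b, hb⟩, blk_injective ((hg ⟨b, hb⟩).trans hbk)⟩
  let f := ((e.sumCongr (Equiv.ofBijective g hgb)).optionCongr).trans (Equiv.ofBijective vtx vtx_bijective)
  have f0 : f none = 0 := rfl
  have f1 : ∀ a, f (some (.inl a)) = vtx (some (.inl (e a))) := fun _ => rfl
  have f2 : ∀ b, f (some (.inr b)) = vtx (some (.inr (g b))) := fun _ => rfl
  have hmem : ∀ a (b : B), e a ∈ blk (g b) ↔ a ∈ (b : Finset α) := fun a b => by
    rw [hg b, e.injective.mem_finset_image]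
  have hdis : ∀ b c : B, Disjoint (blk (g b)) (blk (g c)) ↔ Disjoint (b : Finset α) (c : Finset α) :=
    fun b c => by rw [hg b, hg c, disjoint_image e.injective]
  have hne : ∀ b c : B, Disjoint (b : Finset α) (c : Finset α) → b ≠ c := fun b c hd h => by
    subst h
    rw [disjoint_self] at hd
    have := hg b
    rw [show (b : Finset α) = ∅ from hd, image_empty] at this
    exact (by decide +kernel : ∀ k, blk k ≠ ∅) _ this
  refine ⟨f, f0, f1, fun v w => ?_⟩
  rcases v with _ | a | b <;> rcases w with _ | a' | c <;>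
    simp only [pointBlockGraph, SimpleGraph.fromRel_adj, f0, f1, f2, pointBlockRel]
  · simp [adjB_self]
  · simp [adjB_none_point]
  · simp [adjB_none_block]
  · simp [adjB_symm _ 0, adjB_none_point]
  · simp [adjB_point_point]
  · rw [adjB_point_block, hmem]; simp
  · simp [adjB_symm _ 0, adjB_none_block]
  · rw [adjB_symm, adjB_point_block, hmem]; simp
  · rw [adjB_block_block, hdis]
    refine ⟨fun hd => ⟨?_, Or.inl hd⟩, ?_⟩
    · simpa using hne b c hd
    · rintro ⟨-, h | h⟩
      exacts [h, h.symm]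

/-- The symmetries of the numbered graph. -/
def autGraph : Subgroup (Perm (Fin 100)) where
  carrier := {σ | ∀ u v, adjB (σ u) (σ v) = adjB u v}
  one_mem' := fun _ _ => rfl
  mul_mem' := fun {a b} ha hb u v => (ha (b u) (b v)).trans (hb u v)
  inv_mem' := fun {a} ha u v => by
    rw [← ha (a⁻¹ u) (a⁻¹ v), perm_apply_inv, perm_apply_inv]

/-- The even symmetries. -/
def hs : Subgroup (Perm (Fin 100)) := autGraph ⊓ alternatingGroup (Fin 100)

/-- A product of transpositions. -/
def swapsProd (l : List (Fin 100 × Fin 100)) : Perm (Fin 100) :=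
  (l.map fun p => Equiv.swap p.1 p.2).prod

/-- Checks a symmetry against its table. -/
def swapsOK (l : List (Fin 100 × Fin 100)) (t : ℕ) : Bool :=
  l.all (fun p => p.1 != p.2) && decide (∀ i : Fin 100, app t i.1 = (swapsProd l i).1) &&
    allBelow 100 fun i => allBelow 100 fun j =>
      (rows.getD (app t i) 0).testBit (app t j) == (rows.getD i 0).testBit j

theorem swapsProd_spec {l : List (Fin 100 × Fin 100)} {t : ℕ} (h : swapsOK l t = true) :
    swapsProd l ∈ autGraph ∧ Perm.sign (swapsProd l) = (-1) ^ l.length := by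
  simp only [swapsOK, Bool.and_eq_true, List.all_eq_true, bne_iff_ne, decide_eq_true_eq,
    allBelow_iff, beq_iff_eq] at h
  obtain ⟨⟨h1, h2⟩, h3⟩ := h
  refine ⟨fun u v => ?_, ?_⟩
  · have := h3 u.1 u.2 v.1 v.2
    rw [h2 u, h2 v] at this
    exact this
  · rw [swapsProd, Perm.sign_prod_list_swap, List.length_map]
    intro g hg
    obtain ⟨p, hp, rfl⟩ := List.mem_map.1 hg
    exact ⟨p.1, p.2, h1 p hp, rfl⟩

theorem toPoint_mem : swapsProd toPointSwaps ∈ hs ∧ swapsProd toPointSwaps 0 = vtx (some (.inl 0)) := by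
  obtain ⟨h1, h2⟩ := swapsProd_spec (l := toPointSwaps) (t := toPointTable) (by decide +kernel)
  refine ⟨⟨h1, ?_⟩, by decide +kernel⟩
  show swapsProd toPointSwaps ∈ alternatingGroup (Fin 100)
  rw [Perm.mem_alternatingGroup, h2, Even.neg_one_pow (by decide +kernel)]

theorem toBlock_mem : swapsProd toBlockSwaps ∈ hs ∧ ∃ k, swapsProd toBlockSwaps 0 = vtx (some (.inr k)) := by
  obtain ⟨h1, h2⟩ := swapsProd_spec (l := toBlockSwaps) (t := toBlockTable) (by decide +kernel)
  refine ⟨⟨h1, ?_⟩, by decide +kernel⟩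
  show swapsProd toBlockSwaps ∈ alternatingGroup (Fin 100)
  rw [Perm.mem_alternatingGroup, h2, Even.neg_one_pow (by decide +kernel)]

theorem oddFix_mem : swapsProd oddFixSwaps ∈ autGraph ∧ Perm.sign (swapsProd oddFixSwaps) = -1 ∧
    swapsProd oddFixSwaps 0 = 0 := by
  obtain ⟨h1, h2⟩ := swapsProd_spec (l := oddFixSwaps) (t := oddFixTable) (by decide +kernel)
  exact ⟨h1, by rw [h2, Odd.neg_one_pow (by decide +kernel)], by decide +kernel⟩

/-- A point vertex. -/
def pV (i : Fin 22) : Fin 100 := vtx (some (.inl i))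

/-- A block vertex. -/
def bV (k : Fin 77) : Fin 100 := vtx (some (.inr k))

theorem vertex_cases (v : Fin 100) : v = 0 ∨ (∃ i, pV i = v) ∨ ∃ k, bV k = v := by
  obtain ⟨w, rfl⟩ := vtx_bijective.2 v
  rcases w with _ | i | k
  exacts [Or.inl rfl, Or.inr (Or.inl ⟨i, rfl⟩), Or.inr (Or.inr ⟨k, rfl⟩)]

theorem fixed_points {σ : Perm (Fin 100)} (hσ : σ ∈ autGraph) (h0 : σ 0 = 0) :
    (∀ i, ∃ j, σ (pV i) = pV j) ∧ ∀ k, ∃ l, σ (bV k) = bV l := by
  refine ⟨fun i => ?_, fun k => ?_⟩
  · have h := hσ 0 (pV i)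
    rw [h0, show adjB 0 (pV i) = true from adjB_none_point i] at h
    rcases vertex_cases (σ (pV i)) with e | ⟨j, e⟩ | ⟨k, e⟩
    · rw [e, adjB_self] at h; exact absurd h (by simp)
    · exact ⟨j, e.symm⟩
    · rw [← e, show adjB 0 (bV k) = false from adjB_none_block k] at h; exact absurd h (by simp)
  · have h := hσ 0 (bV k)
    rw [h0, show adjB 0 (bV k) = false from adjB_none_block k] at h
    rcases vertex_cases (σ (bV k)) with e | ⟨j, e⟩ | ⟨l, e⟩
    · exact absurd (σ.injective (e.trans h0.symm)) ((by decide +kernel : ∀ k, bV k ≠ 0) k)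
    · rw [← e, show adjB 0 (pV j) = true from adjB_none_point j] at h; exact absurd h (by simp)
    · exact ⟨l, e.symm⟩

theorem pV_injective : Function.Injective pV := fun a b h => by
  simpa using vtx_bijective.1 h

theorem bV_injective : Function.Injective bV := fun a b h => by
  simpa using vtx_bijective.1 h

/-- The symmetries fixing the first vertex are those of the Steiner system. -/
theorem exists_restriction :
    ∃ r : MulAction.stabilizer autGraph (0 : Fin 100) ≃* setSystemAut (stdBlocks : Set (Finset (Fin 22))),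
      ∀ (σ : MulAction.stabilizer autGraph (0 : Fin 100)) (i : Fin 22),
        σ.1.1 (pV i) = pV ((r σ : Perm (Fin 22)) i) := by
  set S := MulAction.stabilizer autGraph (0 : Fin 100)
  have h : ∀ (σ : S) i, ∃ j, σ.1.1 (pV i) = pV j := fun σ => (fixed_points σ.1.2 σ.2).1
  choose q hq using h
  have hbij : ∀ σ : S, Function.Bijective (q σ) := fun σ => Finite.injective_iff_bijective.1 fun a b e =>
    pV_injective (σ.1.1.injective (by rw [hq, hq, e]))
  have hblk : ∀ (σ : S), ∀ b ∈ (stdBlocks : Set (Finset (Fin 22))),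
      b.image (Equiv.ofBijective _ (hbij σ)) ∈ (stdBlocks : Set (Finset (Fin 22))) := by
    intro σ b hb
    obtain ⟨k, rfl⟩ := mem_stdBlocks.1 hb
    obtain ⟨l, hl⟩ := (fixed_points σ.1.2 σ.2).2 k
    refine mem_stdBlocks.2 ⟨l, ?_⟩
    ext j
    obtain ⟨i, rfl⟩ := (hbij σ).2 j
    rw [show q σ i = Equiv.ofBijective _ (hbij σ) i from rfl, (Equiv.injective _).mem_finset_image,
      Equiv.ofBijective_apply, ← adjB_point_block, ← adjB_point_block]
    show adjB (pV (q σ i)) (bV l) = true ↔ adjB (pV i) (bV k) = true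
    rw [← hq, ← hl, σ.1.2]
  let r : S →* setSystemAut (stdBlocks : Set (Finset (Fin 22))) :=
    { toFun := fun σ => ⟨Equiv.ofBijective _ (hbij σ), mem_setSystemAut_of_image (hblk σ)⟩
      map_one' := Subtype.ext (Equiv.ext fun i => pV_injective (hq 1 i).symm)
      map_mul' := fun a b => Subtype.ext (Equiv.ext fun i => pV_injective (by
        show pV (q (a * b) i) = pV (q a (q b i))
        rw [← hq, ← hq]
        show a.1.1 (b.1.1 (pV i)) = _
        rw [hq b])) }
  refine ⟨MulEquiv.ofBijective r ⟨?_, ?_⟩, fun σ i => hq σ i⟩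
  · intro a b e
    have hp : ∀ i, a.1.1 (pV i) = b.1.1 (pV i) := fun i => by
      rw [hq, hq]
      exact congrArg pV (DFunLike.congr_fun (congrArg Subtype.val e) i)
    refine Subtype.ext (Subtype.ext (Equiv.ext fun v => ?_))
    rcases vertex_cases v with rfl | ⟨i, rfl⟩ | ⟨k, rfl⟩
    · exact a.2.trans b.2.symm
    · exact hp i
    · obtain ⟨l, hl⟩ := (fixed_points a.1.2 a.2).2 k
      obtain ⟨l', hl'⟩ := (fixed_points b.1.2 b.2).2 k
      rw [hl, hl']
      refine congrArg bV (blk_injective ?_)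
      ext j
      obtain ⟨i, rfl⟩ := (hbij a).2 j
      rw [← adjB_point_block, ← adjB_point_block]
      show adjB (pV (q a i)) (bV l) = true ↔ adjB (pV (q a i)) (bV l') = true
      rw [← hl, ← hl', ← hq, a.1.2, hp, b.1.2]
  · rintro ⟨π, hπ⟩
    have hπ' : (fun b : Finset (Fin 22) => b.image π) '' (stdBlocks : Set (Finset (Fin 22))) = stdBlocks :=
      Set.eq_of_subset_of_ncard_le (Set.image_subset_iff.2 fun b hb => setSystemAut_image_mem hπ hb)
        (by rw [Set.ncard_image_of_injective _ (image_injective π.injective)]) (Set.toFinite _)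
    obtain ⟨f, f0, f1, fadj⟩ := exists_vertexEquiv (B := (stdBlocks : Set (Finset (Fin 22)))) π hπ'
    obtain ⟨g, g0, g1, gadj⟩ := exists_vertexEquiv (B := (stdBlocks : Set (Finset (Fin 22))))
      (Equiv.refl (Fin 22)) (by simp [image_id'])
    have hσ : g.symm.trans f ∈ autGraph := fun u v => by
      rw [Bool.eq_iff_iff, Equiv.trans_apply, Equiv.trans_apply, fadj, ← gadj, g.apply_symm_apply,
        g.apply_symm_apply]
    have hσ0 : g.symm.trans f 0 = 0 := by
      rw [← g0, Equiv.trans_apply, g.symm_apply_apply, f0, g0]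
    refine ⟨⟨⟨_, hσ⟩, hσ0⟩, Subtype.ext (Equiv.ext fun i => pV_injective ?_)⟩
    show pV (q ⟨⟨g.symm.trans f, hσ⟩, hσ0⟩ i) = pV (π i)
    rw [← hq]
    show f (g.symm (pV i)) = _
    rw [show pV i = g (some (.inl i)) from (g1 i).symm, g.symm_apply_apply, f1]
    rfl

/-- The even stabiliser: index two, simple, transitive on points and on blocks. -/
theorem stabilizer_facts :
    Nat.card (MulAction.stabilizer hs (0 : Fin 100)) = 443520 ∧
      IsSimpleGroup (MulAction.stabilizer hs (0 : Fin 100)) ∧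
      (∀ i j, ∃ σ ∈ hs, σ 0 = 0 ∧ σ (pV i) = pV j) ∧ ∀ k l, ∃ σ ∈ hs, σ 0 = 0 ∧ σ (bV k) = bV l := by
  set A := MulAction.stabilizer autGraph (0 : Fin 100) with hAdef
  obtain ⟨r, hr⟩ : ∃ r : A ≃* setSystemAut (stdBlocks : Set (Finset (Fin 22))),
      ∀ (σ : A) (i : Fin 22), σ.1.1 (pV i) = pV ((r σ : Perm (Fin 22)) i) := exists_restriction
  obtain ⟨hcard, htr3, M, hM2, hMsimp, hMcard⟩ := S22.aut22 (Fintype.card_fin 22) stdBlocks_isSteinerSystem
  let s : A →* ℤˣ := Perm.sign.comp (autGraph.subtype.comp A.subtype)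
  let M' : Subgroup A := M.map r.symm.toMonoidHom
  have eM : M ≃* M' := r.symm.subgroupMap M
  have hMne : Nat.card M' = 443520 := by rw [← Nat.card_congr eM.toEquiv, hMcard]
  have hA : Nat.card A = 887040 := by rw [Nat.card_congr r.toEquiv, hcard]
  haveI hM's : IsSimpleGroup M' := eM.isSimpleGroup_congr.1 hMsimp
  have hle : M' ≤ s.ker := by
    intro x hx
    rcases IsSimpleGroup.eq_bot_or_eq_top_of_normal (s.comp M'.subtype).ker inferInstance with h | h
    · exfalso
      have h2 : Nat.card M' ≤ Nat.card ℤˣ :=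
        Nat.card_le_card_of_injective _ ((MonoidHom.ker_eq_bot_iff _).1 h)
      rw [hMne, Nat.card_eq_fintype_card, Fintype.card_units_int] at h2
      omega
    · exact (show (⟨x, hx⟩ : M') ∈ (s.comp M'.subtype).ker by rw [h]; exact Subgroup.mem_top _)
  have hindex : s.ker.index = 2 := by
    obtain ⟨σo, ho1, ho2, ho3⟩ : ∃ σ : Perm (Fin 100), σ ∈ autGraph ∧ Perm.sign σ = -1 ∧ σ 0 = 0 :=
      ⟨_, oddFix_mem⟩
    have hodd : (⟨⟨σo, ho1⟩, ho3⟩ : A) ∉ s.ker := fun h => by
      have := ho2.symm.trans (MonoidHom.mem_ker.1 h)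
      exact absurd this (by decide)
    have h1 : s.ker.index ≤ 2 := by
      rw [Subgroup.index_ker]
      calc Nat.card s.range ≤ Nat.card ℤˣ := Subgroup.card_le_card_group _
        _ = 2 := by rw [Nat.card_eq_fintype_card, Fintype.card_units_int]
    have h2 : s.ker.index ≠ 1 := fun h => hodd (Subgroup.index_eq_one.1 h ▸ Subgroup.mem_top _)
    have h3 : s.ker.index ≠ 0 := Subgroup.index_ne_zero_of_finite
    omega
  have hkcard : Nat.card s.ker = 443520 := by
    have := Subgroup.index_mul_card s.ker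
    rw [hindex, hA] at this
    omega
  have heq : M' = s.ker := Subgroup.eq_of_le_of_card_ge hle (by rw [hkcard, hMne])
  let eK : MulAction.stabilizer hs (0 : Fin 100) ≃* s.ker :=
    { toFun := fun σ => ⟨⟨⟨σ.1.1, σ.1.2.1⟩, σ.2⟩, σ.1.2.2⟩
      invFun := fun σ => ⟨⟨σ.1.1.1, σ.1.1.2, σ.2⟩, σ.1.2⟩
      left_inv := fun _ => rfl
      right_inv := fun _ => rfl
      map_mul' := fun _ _ => rfl }
  have hinHS : ∀ σ : A, σ ∈ s.ker → σ.1.1 ∈ hs := fun σ hσ => ⟨σ.1.2, hσ⟩
  haveI := htr3
  haveI hpre2 : MulAction.IsMultiplyPretransitive (setSystemAut (stdBlocks : Set (Finset (Fin 22)))) (Fin 22) 2 :=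
    MulAction.isMultiplyPretransitive_of_le (n := 3) (by norm_num) (by simp)
  refine ⟨by rw [Nat.card_congr eK.toEquiv, hkcard],
    eK.symm.isSimpleGroup_congr.1 (heq ▸ hM's), fun i j => ?_, fun k l => ?_⟩
  · have hMn : M.Normal := Subgroup.normal_of_index_eq_two hM2
    have hne : M ≠ ⊥ := fun e => by rw [e, Subgroup.card_bot] at hMcard; omega
    obtain ⟨m, hm, hmij⟩ := normal_transitive_on (K := setSystemAut (stdBlocks : Set (Finset (Fin 22))))
      (S := univ) (fun _ _ _ _ => mem_univ _) (fun g _ h => Equiv.ext fun x => h x (mem_univ _))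
      (fun a _ b _ c _ d _ hab hcd => by
        obtain ⟨g, h1, h2⟩ := MulAction.is_two_pretransitive_iff.1 hpre2 hab hcd
        exact ⟨g.1, g.2, h1, h2⟩)
      hMn hne (mem_univ i) (mem_univ j)
    have hmem : r.symm m ∈ s.ker := heq ▸ ⟨m, hm, rfl⟩
    refine ⟨_, hinHS _ hmem, (r.symm m).2, ?_⟩
    rw [hr, MulEquiv.apply_symm_apply, hmij]
  · -- some symmetry takes block `k` to block `l`
    suffices htrA : ∀ k l, ∃ σ : A, σ.1.1 (bV k) = bV l by
      obtain ⟨σ, hl'⟩ := htrA k l
      by_cases hσ : σ ∈ s.ker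
      · exact ⟨_, hinHS _ hσ, σ.2, hl'⟩
      -- the stabiliser of a block has odd index, hence odd members
      have horb : MulAction.orbit A (bV k) = Set.range bV := by
        refine Set.ext fun v => ⟨?_, ?_⟩
        · rintro ⟨g, rfl⟩
          obtain ⟨m, hm⟩ := (fixed_points g.1.2 g.2).2 k
          exact ⟨m, hm.symm⟩
        · rintro ⟨m, rfl⟩
          exact htrA k m
      obtain ⟨u, hu, hus⟩ : ∃ u ∈ MulAction.stabilizer A (bV k), u ∉ s.ker := by
        by_contra hcon
        push Not at hcon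
        have hd := Subgroup.index_dvd_of_le (show MulAction.stabilizer A (bV k) ≤ s.ker from hcon)
        rw [hindex, MulAction.index_stabilizer, horb, Set.ncard_range_of_injective bV_injective,
          Nat.card_fin] at hd
        omega
      have hmem : σ * u ∈ s.ker := (Subgroup.mul_mem_iff_of_index_two hindex).2 (iff_of_false hσ hus)
      refine ⟨_, hinHS _ hmem, (σ * u).2, ?_⟩
      show σ.1.1 (u.1.1 (bV k)) = bV l
      rw [show u.1.1 (bV k) = bV k from hu, hl']
    intro k l
    obtain ⟨x⟩ : Nonempty (Fin 3 ↪ blk k) := Function.Embedding.nonempty_of_card_le (by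
      rw [Fintype.card_coe, Fintype.card_fin, (stdBlocks_isSteinerSystem.1 _ (mem_stdBlocks.2 ⟨k, rfl⟩))]
      norm_num)
    obtain ⟨y⟩ : Nonempty (Fin 3 ↪ blk l) := Function.Embedding.nonempty_of_card_le (by
      rw [Fintype.card_coe, Fintype.card_fin, (stdBlocks_isSteinerSystem.1 _ (mem_stdBlocks.2 ⟨l, rfl⟩))]
      norm_num)
    obtain ⟨π, hπ⟩ := MulAction.exists_smul_eq (setSystemAut (stdBlocks : Set (Finset (Fin 22))))
      (x.trans (Function.Embedding.subtype _)) (y.trans (Function.Embedding.subtype _))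
    set σ := r.symm π
    obtain ⟨l', hl'⟩ := (fixed_points σ.1.2 σ.2).2 k
    have hπ' : ∀ i, (π : Perm (Fin 22)) (x i).1 = (y i).1 := fun i => DFunLike.congr_fun hπ i
    have himg : ∀ i, (y i).1 ∈ blk l' := fun i => by
      rw [← adjB_point_block, ← hπ' i]
      have h1 : σ.1.1 (pV (x i).1) = pV ((π : Perm (Fin 22)) (x i).1) := by
        rw [hr, MulEquiv.apply_symm_apply]
      show adjB (pV _) (bV l') = true
      rw [← h1, ← hl', σ.1.2]
      exact (adjB_point_block _ _).2 (x i).2
    have hll : blk l' = blk l := by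
      have hT : (univ.image fun i => (y i).1).card = 3 := by
        rw [card_image_of_injective (f := fun i => (y i).1) _ (Subtype.val_injective.comp y.injective),
          card_univ, Fintype.card_fin]
      exact (stdBlocks_isSteinerSystem.2 _ hT).unique
        ⟨mem_stdBlocks.2 ⟨l', rfl⟩, fun z hz => by obtain ⟨i, -, rfl⟩ := mem_image.1 hz; exact himg i⟩
        ⟨mem_stdBlocks.2 ⟨l, rfl⟩, fun z hz => by obtain ⟨i, -, rfl⟩ := mem_image.1 hz; exact (y i).2⟩
    rw [blk_injective hll] at hl'
    exact ⟨σ, hl'⟩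

theorem hs_isPretransitive : MulAction.IsPretransitive hs (Fin 100) := by
  obtain ⟨-, -, hP, hB⟩ := stabilizer_facts
  suffices h : ∀ v, ∃ g : hs, g • (0 : Fin 100) = v from ⟨fun u v => by
    obtain ⟨a, ha⟩ := h u
    obtain ⟨b, hb⟩ := h v
    exact ⟨b * a⁻¹, by rw [mul_smul, ← ha, inv_smul_smul, hb]⟩⟩
  intro v
  rcases vertex_cases v with rfl | ⟨i, rfl⟩ | ⟨k, rfl⟩
  · exact ⟨1, rfl⟩
  · obtain ⟨σ, hσ, -, h⟩ := hP 0 i
    refine ⟨⟨_, mul_mem hσ toPoint_mem.1⟩, ?_⟩
    show σ (swapsProd toPointSwaps 0) = pV i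
    rw [toPoint_mem.2]; exact h
  · obtain ⟨k₀, hk₀⟩ := toBlock_mem.2
    obtain ⟨σ, hσ, -, h⟩ := hB k₀ k
    refine ⟨⟨_, mul_mem hσ toBlock_mem.1⟩, ?_⟩
    show σ (swapsProd toBlockSwaps 0) = bV k
    rw [hk₀]; exact h

theorem card_hs : Nat.card hs = 44352000 := by
  haveI := hs_isPretransitive
  have h := Subgroup.index_mul_card (MulAction.stabilizer hs (0 : Fin 100))
  rw [MulAction.index_stabilizer, stabilizer_facts.1, MulAction.orbit_eq_univ, Set.ncard_univ,
    Nat.card_fin] at h
  omega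

/-- A nontrivial normal subgroup moves the first vertex to every vertex. -/
theorem normal_orbit {N : Subgroup hs} (hN : N.Normal) (hne : N ≠ ⊥) :
    MulAction.orbit N (0 : Fin 100) = Set.univ := by
  obtain ⟨-, -, hP, hB⟩ := stabilizer_facts
  haveI := hs_isPretransitive
  set o := MulAction.orbit N (0 : Fin 100) with ho
  have hstab : ∀ σ ∈ hs, σ 0 = 0 → ∀ v ∈ o, σ v ∈ o := by
    rintro σ hσ h0 _ ⟨n, rfl⟩
    refine ⟨⟨_, hN.conj_mem n.1 n.2 ⟨σ, hσ⟩⟩, ?_⟩
    show σ (n.1.1 (σ⁻¹ 0)) = σ (n.1.1 0)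
    rw [show σ⁻¹ 0 = 0 from (Equiv.symm_apply_eq σ).2 h0.symm]
  have h0 : (0 : Fin 100) ∈ o := MulAction.mem_orbit_self _
  have hblock : MulAction.IsBlock hs o := MulAction.IsBlock.orbit_of_normal 0
  have hdvd : o.ncard ∣ 100 := by
    have := hblock.ncard_dvd_card ⟨0, h0⟩
    rwa [Nat.card_fin] at this
  have hP' : ∀ i, pV i ∈ o → ∀ j, pV j ∈ o := fun i hi j => by
    obtain ⟨σ, hσ, h0', h⟩ := hP i j; exact h ▸ hstab σ hσ h0' _ hi
  have hB' : ∀ k, bV k ∈ o → ∀ l, bV l ∈ o := fun k hk l => by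
    obtain ⟨σ, hσ, h0', h⟩ := hB k l; exact h ▸ hstab σ hσ h0' _ hk
  classical
  by_cases hp : ∃ i, pV i ∈ o <;> by_cases hb : ∃ k, bV k ∈ o
  · obtain ⟨i, hi⟩ := hp; obtain ⟨k, hk⟩ := hb
    refine Set.eq_univ_of_forall fun v => ?_
    rcases vertex_cases v with rfl | ⟨j, rfl⟩ | ⟨l, rfl⟩
    exacts [h0, hP' i hi j, hB' k hk l]
  · exfalso
    obtain ⟨i, hi⟩ := hp
    have e : o = ((insert 0 (univ.image pV) : Finset (Fin 100)) : Set (Fin 100)) := Set.ext fun v => by
      rcases vertex_cases v with rfl | ⟨j, rfl⟩ | ⟨l, rfl⟩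
      · simp [h0]
      · simp [hP' i hi j]
      · exact iff_of_false (fun h => hb ⟨l, h⟩) (by revert l; decide +kernel)
    rw [e, Set.ncard_coe_finset] at hdvd
    exact absurd hdvd (by decide +kernel)
  · exfalso
    obtain ⟨k, hk⟩ := hb
    have e : o = ((insert 0 (univ.image bV) : Finset (Fin 100)) : Set (Fin 100)) := Set.ext fun v => by
      rcases vertex_cases v with rfl | ⟨j, rfl⟩ | ⟨l, rfl⟩
      · simp [h0]
      · exact iff_of_false (fun h => hp ⟨j, h⟩) (by revert j; decide +kernel)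
      · simp [hB' k hk l]
    rw [e, Set.ncard_coe_finset] at hdvd
    exact absurd hdvd (by decide +kernel)
  · exfalso
    apply hne
    refine (Subgroup.eq_bot_iff_forall _).2 fun n hn => ?_
    have hn0 : ∀ m ∈ N, (m : Perm (Fin 100)) 0 = 0 := fun m hm => by
      rcases vertex_cases ((m : Perm (Fin 100)) 0) with e | ⟨j, e⟩ | ⟨l, e⟩
      · exact e
      · exact absurd ⟨⟨m, hm⟩, e.symm⟩ (fun h => hp ⟨j, h⟩)
      · exact absurd ⟨⟨m, hm⟩, e.symm⟩ (fun h => hb ⟨l, h⟩)
    refine Subtype.ext (Equiv.ext fun v => ?_)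
    obtain ⟨g, hg⟩ := MulAction.exists_smul_eq hs (0 : Fin 100) v
    have := hn0 _ (hN.conj_mem n hn g⁻¹)
    rw [inv_inv] at this
    change g.1⁻¹ (n.1 (g.1 0)) = 0 at this
    change g.1 0 = v at hg
    rw [hg] at this
    show n.1 v = v
    calc n.1 v = g.1 (g.1⁻¹ (n.1 v)) := (perm_apply_inv _ _).symm
      _ = v := by rw [this, hg]

theorem hs_isSimpleGroup : IsSimpleGroup hs := by
  obtain ⟨hcard0, hsimp, -, -⟩ := stabilizer_facts
  have hH := card_hs
  haveI : Nontrivial hs := Finite.one_lt_card_iff_nontrivial.1 (by rw [hH]; norm_num)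
  refine ⟨fun N hN => or_iff_not_imp_left.2 fun hne => ?_⟩
  have hdvd : ∀ {P : Subgroup hs}, P.Normal → P ≠ ⊥ →
      100 * Nat.card (MulAction.stabilizer P (0 : Fin 100)) = Nat.card P := fun {P} hP hPne => by
    have h := Subgroup.index_mul_card (MulAction.stabilizer P (0 : Fin 100))
    rwa [MulAction.index_stabilizer, normal_orbit hP hPne, Set.ncard_univ, Nat.card_fin] at h
  have hN100 := hdvd hN hne
  set K := MulAction.stabilizer hs (0 : Fin 100)
  have hstabN : Nat.card (MulAction.stabilizer N (0 : Fin 100)) = Nat.card (N.subgroupOf K) :=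
    Nat.card_congr
      { toFun := fun x => ⟨⟨x.1.1, x.2⟩, x.1.2⟩
        invFun := fun x => ⟨⟨x.1.1, x.2⟩, x.1.2⟩
        left_inv := fun _ => rfl
        right_inv := fun _ => rfl }
  haveI := hsimp
  rcases IsSimpleGroup.eq_bot_or_eq_top_of_normal (N.subgroupOf K) inferInstance with h | h
  · exfalso
    rw [hstabN, h, Subgroup.card_bot] at hN100
    haveI := Fact.mk (by norm_num : Nat.Prime 5)
    obtain ⟨P⟩ : Nonempty (Sylow 5 N) := inferInstance
    have hP : Nat.card P = 25 := by
      rw [P.card_eq_multiplicity, ← hN100]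
      rw [mul_one, show (100 : ℕ) = 5 ^ 2 * 4 by norm_num, Nat.factorization_mul (by norm_num) (by norm_num), Nat.factorization_pow]
      simp [Nat.Prime.factorization_self (show Nat.Prime 5 by norm_num),
        Nat.factorization_eq_zero_of_not_dvd (show ¬ 5 ∣ 4 by norm_num)]
    have h1 : Nat.card (Sylow 5 N) = 1 := by
      have hmod := card_sylow_modEq_one 5 N
      have hidx : Nat.card (Sylow 5 N) ∣ 4 := by
        have := P.card_dvd_index
        have hi := Subgroup.index_mul_card (P : Subgroup N)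
        rw [hP, ← hN100] at hi
        rwa [show (P : Subgroup N).index = 4 by omega] at this
      have := Nat.le_of_dvd (by norm_num) hidx
      unfold Nat.ModEq at hmod
      omega
    haveI : Subsingleton (Sylow 5 N) := (Nat.card_eq_one_iff_unique.1 h1).1
    haveI : (P : Subgroup N).Characteristic := P.characteristic_of_subsingleton
    haveI := hN
    have hPn : ((P : Subgroup N).map N.subtype).Normal := ConjAct.normal_of_characteristic_of_normal
    have hPc : Nat.card ((P : Subgroup N).map N.subtype) = 25 := by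
      rw [Subgroup.card_map_of_injective N.subtype_injective, hP]
    have := hdvd hPn (fun e => by rw [e, Subgroup.card_bot] at hPc; norm_num at hPc)
    rw [hPc] at this
    omega
  · refine Subgroup.eq_top_of_card_eq _ ?_
    rw [← hN100, hstabN, h, Subgroup.card_top, hcard0, hH]

/-- The point-block graph of any S(3,6,22) has a simple group of symmetries of order 44352000. -/
theorem exists_hs {α : Type*} [Fintype α] (hα : Fintype.card α = 22) {B : Set (Finset α)}
    (hB : IsSteinerSystem 3 6 B) :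
    ∃ H : Subgroup (pointBlockGraph B ≃g pointBlockGraph B), IsHS H := by
  classical
  obtain ⟨e, he⟩ := S22.unique22 hα (Fintype.card_fin 22) hB stdBlocks_isSteinerSystem
  obtain ⟨f, -, -, hf⟩ := exists_vertexEquiv e he
  let Φ : hs →* (pointBlockGraph B ≃g pointBlockGraph B) :=
    { toFun := fun σ => ⟨(f.trans σ.1).trans f.symm, fun {v w} => by
        rw [← hf, ← hf]
        simp only [Equiv.trans_apply, Equiv.apply_symm_apply]
        rw [σ.2.1]⟩
      map_one' := RelIso.ext fun v => f.symm_apply_apply v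
      map_mul' := fun a b => RelIso.ext fun v => by
        show f.symm (a.1 (b.1 (f v))) = f.symm (a.1 (f (f.symm (b.1 (f v)))))
        rw [f.apply_symm_apply] }
  have hΦ : Function.Injective Φ := fun a b h => Subtype.ext (Equiv.ext fun x => f.symm.injective (by
    have := DFunLike.congr_fun h (f.symm x)
    change f.symm (a.1 (f (f.symm x))) = f.symm (b.1 (f (f.symm x))) at this
    rwa [f.apply_symm_apply] at this))
  let E := MonoidHom.ofInjective hΦ
  exact ⟨Φ.range, E.isSimpleGroup_congr.1 hs_isSimpleGroup, by rw [← Nat.card_congr E.toEquiv, card_hs]⟩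

end CfsgLib.Mathieu.HigmanSims
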