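import Cfsg.Agent.Mathieu.HallJankoData
import Cfsg.Prelude.Def_Sporadic

/-!
A simple group of order 604800 on one hundred points.
-/

set_option autoImplicit false

namespace CfsgLib.Mathieu.HallJanko

open Cfsg
open Equiv (Perm)

/-- The group of Hall and Janko. -/
def hj : Subgroup (Perm (Fin 100)) := Schreier.group 100 chain

set_option maxRecDepth 100000 in
theorem chain_ok : Schreier.chainOK 100 chain = true := by decide +kernel

theorem chain_perms : Schreier.HasPerms 100 chain := by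
  have hs := Schreier.exists_rep_of_gensOK (n := 100) (gens := strongPairs) (by decide +kernel)
  have h : ∀ L : Schreier.Level, (L.gens.all fun g => strong.contains g) = true →
      ∀ g ∈ L.gens, ∃ σ : Perm (Fin 100), Rep (Equiv.refl (Fin 100)) σ g := fun L hL g hg =>
    hs g (List.contains_iff_mem.1 (List.all_eq_true.1 hL g hg))
  exact ⟨h _ (by decide +kernel), h _ (by decide +kernel), h _ (by decide +kernel),
    h _ (by decide +kernel), h _ (by decide +kernel), trivial⟩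

theorem card_hj : Nat.card hj = 604800 := by
  rw [hj, Schreier.card_group _ chain_ok chain_perms]
  decide +kernel

set_option maxRecDepth 100000 in
theorem known_mem : ∀ t ∈ strong ++ extraPairs.map Prod.fst, InGroup (Equiv.refl (Fin 100)) hj t := by
  intro t ht
  obtain ⟨σ, r⟩ := Schreier.exists_rep_of_gensOK (n := 100) (gens := strongPairs ++ extraPairs)
    (by decide +kernel) t (by rw [List.map_append]; exact ht)
  have hsift : ((strong ++ extraPairs.map Prod.fst).all fun t => Schreier.sift 100 chain [t]) = true := by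
    decide +kernel
  have := (Schreier.sift_sound chain (Schreier.levelSpec_of_ok _ chain_ok chain_perms) [t] [σ]
    (.cons r .nil) (List.all_eq_true.1 hsift t ht)).1
  exact ⟨σ, by simpa [hj] using this, r⟩

theorem level_gens_inGroup {C : List Schreier.Level} {L : Schreier.Level} (hC : Schreier.topGens C = L.gens)
    (h : (L.gens.all fun g => strong.contains g) = true) :
    ∀ t ∈ L.gens, InGroup (Equiv.refl (Fin 100)) (Schreier.group 100 C) t := fun t ht => by
  obtain ⟨σ, -, r⟩ := known_mem t (List.mem_append_left _ (List.contains_iff_mem.1 (List.all_eq_true.1 h t ht)))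
  exact ⟨σ, Subgroup.subset_closure ⟨t, hC ▸ ht, r⟩, r⟩

/-- The stabiliser of the first point has orbits of lengths 1, 36 and 63. -/
theorem stabilizer_orbits :
    (∀ u v : Fin 100, 1 ≤ u.1 → u.1 ≤ 36 → 1 ≤ v.1 → v.1 ≤ 36 → ∃ σ ∈ hj, σ 0 = 0 ∧ σ u = v) ∧
      ∀ u v : Fin 100, 37 ≤ u.1 → 37 ≤ v.1 → ∃ σ ∈ hj, σ 0 = 0 ∧ σ u = v := by
  have hmem : ∀ σ ∈ Schreier.group 100 (level1 :: [level2, level3, level4]), σ ∈ hj ∧ σ 0 = 0 := fun σ hσ =>
    (Schreier.mem_tail_iff (L := level0) chain_ok chain_perms (show level0.base < 100 by decide +kernel)).1 hσ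
  have hg := level_gens_inGroup (C := level1 :: [level2, level3, level4]) (L := level1) rfl (by decide +kernel)
  have h36 : ∀ q : Fin 100, 1 ≤ q.1 → q.1 ≤ 36 →
      (orbitPts level1.gens [] [(1 : Fin 100).1] tree36).contains q.1 = true := by decide +kernel
  have h63 : ∀ q : Fin 100, 37 ≤ q.1 →
      (orbitPts level1.gens [] [(37 : Fin 100).1] tree63).contains q.1 = true := by decide +kernel
  constructor
  · intro u v hu hu' hv hv'
    obtain ⟨a, ha, -, hau⟩ := reach_of_tree (Equiv.refl (Fin 100)) hg [] 1 tree36 u (h36 u hu hu')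
    obtain ⟨b, hb, -, hbv⟩ := reach_of_tree (Equiv.refl (Fin 100)) hg [] 1 tree36 v (h36 v hv hv')
    obtain ⟨h1, h2⟩ := hmem _ (mul_mem hb (inv_mem ha))
    exact ⟨_, h1, h2, by rw [← hau, Perm.mul_apply, perm_inv_apply, hbv]⟩
  · intro u v hu hv
    obtain ⟨a, ha, -, hau⟩ := reach_of_tree (Equiv.refl (Fin 100)) hg [] 37 tree63 u (h63 u hu)
    obtain ⟨b, hb, -, hbv⟩ := reach_of_tree (Equiv.refl (Fin 100)) hg [] 37 tree63 v (h63 v hv)
    obtain ⟨h1, h2⟩ := hmem _ (mul_mem hb (inv_mem ha))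
    exact ⟨_, h1, h2, by rw [← hau, Perm.mul_apply, perm_inv_apply, hbv]⟩

theorem hj_isPretransitive : MulAction.IsPretransitive hj (Fin 100) := by
  have hall : ∀ v : Fin 100, ∃ t ∈ level0.trans, app t.1 level0.base = v.1 := by decide +kernel
  suffices h : ∀ v, ∃ g : hj, g • (0 : Fin 100) = v from ⟨fun u v => by
    obtain ⟨a, ha⟩ := h u
    obtain ⟨b, hb⟩ := h v
    exact ⟨b * a⁻¹, by rw [mul_smul, ← ha, inv_smul_smul, hb]⟩⟩
  intro v
  obtain ⟨t, ht, happ⟩ := hall v
  obtain ⟨σ, hσ, r, -⟩ :=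
    (Schreier.levelSpec_of_ok _ chain_ok chain_perms level0 [] [level1, level2, level3, level4] rfl).reps t ht
  exact ⟨⟨σ, hσ⟩, Fin.ext ((r 0).symm.trans happ)⟩

/-- A nontrivial normal subgroup is transitive. -/
theorem normal_orbit {N : Subgroup hj} (hN : N.Normal) (hne : N ≠ ⊥) :
    MulAction.orbit N (0 : Fin 100) = Set.univ := by
  obtain ⟨hA, hB⟩ := stabilizer_orbits
  haveI := hj_isPretransitive
  haveI := hN
  set o := MulAction.orbit N (0 : Fin 100) with ho
  have hstab : ∀ σ ∈ hj, σ 0 = 0 → ∀ v ∈ o, σ v ∈ o := by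
    rintro σ hσ h0 _ ⟨m, rfl⟩
    refine ⟨⟨_, hN.conj_mem m.1 m.2 ⟨σ, hσ⟩⟩, ?_⟩
    show σ (m.1.1 (σ⁻¹ 0)) = σ (m.1.1 0)
    rw [show σ⁻¹ 0 = 0 from (Equiv.symm_apply_eq σ).2 h0.symm]
  have h0 : (0 : Fin 100) ∈ o := MulAction.mem_orbit_self _
  have hdvd : o.ncard ∣ 100 := by
    have := (MulAction.IsBlock.orbit_of_normal (G := hj) (N := N) (0 : Fin 100)).ncard_dvd_card ⟨0, h0⟩
    rwa [Nat.card_fin] at this
  classical
  have hcases : ∀ v : Fin 100, v = 0 ∨ (1 ≤ v.1 ∧ v.1 ≤ 36) ∨ 37 ≤ v.1 := by decide +kernel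
  have hP : ∀ u ∈ o, 1 ≤ u.1 → u.1 ≤ 36 → ∀ v : Fin 100, 1 ≤ v.1 → v.1 ≤ 36 → v ∈ o :=
    fun u hu h1 h2 v h3 h4 => by
      obtain ⟨σ, hσ, h0', h⟩ := hA u v h1 h2 h3 h4; exact h ▸ hstab σ hσ h0' _ hu
  have hQ : ∀ u ∈ o, 37 ≤ u.1 → ∀ v : Fin 100, 37 ≤ v.1 → v ∈ o :=
    fun u hu h1 v h3 => by
      obtain ⟨σ, hσ, h0', h⟩ := hB u v h1 h3; exact h ▸ hstab σ hσ h0' _ hu
  by_cases hp : ∃ u ∈ o, 1 ≤ (u : Fin 100).1 ∧ u.1 ≤ 36 <;> by_cases hq : ∃ u ∈ o, 37 ≤ (u : Fin 100).1
  · obtain ⟨u, hu, h1, h2⟩ := hp; obtain ⟨w, hw, h3⟩ := hq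
    refine Set.eq_univ_of_forall fun v => ?_
    rcases hcases v with rfl | h | h
    exacts [h0, hP u hu h1 h2 v h.1 h.2, hQ w hw h3 v h]
  · exfalso
    obtain ⟨u, hu, h1, h2⟩ := hp
    have e : o = ((Finset.univ.filter fun v : Fin 100 => v.1 ≤ 36 : Finset (Fin 100)) : Set (Fin 100)) :=
      Set.ext fun v => by
        rcases hcases v with rfl | h | h
        · simp [h0]
        · simp [hP u hu h1 h2 v h.1 h.2, h.2]
        · exact iff_of_false (fun hv => hq ⟨v, hv, h⟩) (by simp; omega)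
    rw [e, Set.ncard_coe_finset] at hdvd
    exact absurd hdvd (by decide +kernel)
  · exfalso
    obtain ⟨u, hu, h1⟩ := hq
    have e : o = ((Finset.univ.filter fun v : Fin 100 => v.1 = 0 ∨ 37 ≤ v.1 : Finset (Fin 100)) : Set (Fin 100)) :=
      Set.ext fun v => by
        rcases hcases v with rfl | h | h
        · simp [h0]
        · exact iff_of_false (fun hv => hp ⟨v, hv, h⟩) (by simp; omega)
        · simp [hQ u hu h1 v h, h]
    rw [e, Set.ncard_coe_finset] at hdvd
    exact absurd hdvd (by decide +kernel)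
  · exfalso
    apply hne
    refine (Subgroup.eq_bot_iff_forall _).2 fun m hm => ?_
    have hn0 : ∀ m ∈ N, (m : Perm (Fin 100)) 0 = 0 := fun m hm => by
      rcases hcases ((m : Perm (Fin 100)) 0) with e | e | e
      · exact e
      · exact absurd ⟨_, ⟨⟨m, hm⟩, rfl⟩, e⟩ hp
      · exact absurd ⟨_, ⟨⟨m, hm⟩, rfl⟩, e⟩ hq
    refine Subtype.ext (Equiv.ext fun v => ?_)
    obtain ⟨g, hg⟩ := MulAction.exists_smul_eq hj (0 : Fin 100) v
    have := hn0 _ (hN.conj_mem m hm g⁻¹)
    rw [inv_inv] at this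
    change g.1⁻¹ (m.1 (g.1 0)) = 0 at this
    change g.1 0 = v at hg
    rw [hg] at this
    show m.1 v = v
    calc m.1 v = g.1 (g.1⁻¹ (m.1 v)) := (perm_apply_inv _ _).symm
      _ = v := by rw [this, hg]

set_option maxRecDepth 100000 in
theorem hj_isSimpleGroup : IsSimpleGroup hj := by
  have hcard := card_hj
  haveI : Nontrivial hj := Finite.one_lt_card_iff_nontrivial.1 (by rw [hcard]; norm_num)
  refine ⟨fun N hN => or_iff_not_imp_left.2 fun hne => ?_⟩
  haveI := hN
  obtain ⟨σ, hσ, rσ⟩ := known_mem five (List.mem_append_right _ (by decide +kernel))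
  have h100 : 100 ∣ Nat.card N := by
    refine ⟨Nat.card (MulAction.stabilizer N (0 : Fin 100)), ?_⟩
    have h := Subgroup.index_mul_card (MulAction.stabilizer N (0 : Fin 100))
    rw [MulAction.index_stabilizer, normal_orbit hN hne, Set.ncard_univ, Nat.card_fin] at h
    exact h.symm
  have hσ5 : σ ^ 5 = 1 := by
    have h5 : allBelow 100 (fun i => app five (app five (app five (app five (app five i)))) == i) = true := by
      decide +kernel
    refine Equiv.ext fun x => Fin.ext ?_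
    have := allBelow_iff.1 h5 x.1 x.2
    rw [beq_iff_eq, Schreier.Rep.app_eq rσ, Schreier.Rep.app_eq rσ, Schreier.Rep.app_eq rσ,
      Schreier.Rep.app_eq rσ, Schreier.Rep.app_eq rσ] at this
    exact this
  have hmem : (⟨σ, hσ⟩ : hj) ∈ N := by
    rw [← QuotientGroup.eq_one_iff]
    set x : hj ⧸ N := QuotientGroup.mk (⟨σ, hσ⟩ : hj)
    have h1 : orderOf x ∣ 5 := orderOf_dvd_of_pow_eq_one (by
      rw [← QuotientGroup.mk_pow, show (⟨σ, hσ⟩ : hj) ^ 5 = 1 from Subtype.ext (by simpa using hσ5)]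
      rfl)
    have h2 : orderOf x ∣ Nat.card (hj ⧸ N) := orderOf_dvd_natCard x
    have h3 : Nat.card (hj ⧸ N) ∣ 6048 := by
      have h := N.card_eq_card_quotient_mul_card_subgroup
      rw [hcard] at h
      obtain ⟨c, hc⟩ := h100
      rw [hc] at h
      exact ⟨c, by nlinarith⟩
    rw [← orderOf_eq_one_iff]
    exact Nat.dvd_one.1 ((Nat.dvd_gcd h1 (h2.trans h3)).trans (by norm_num))
  have hgens := Schreier.inGroup_of_closureOK (K := hj) (N := N.map hj.subtype)
    (known := strong ++ extraPairs.map Prod.fst) known_mem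
    (fun g hg m hm => by
      obtain ⟨m', hm', rfl⟩ := hm
      exact ⟨_, hN.conj_mem m' hm' ⟨g, hg⟩, rfl⟩)
    (x := five) ⟨σ, ⟨_, hmem, rfl⟩, rσ⟩ (conjs := conjs) (steps := steps) (gens := level0.gens)
    (by decide +kernel)
  have hle : hj ≤ N.map hj.subtype := by
    refine (Subgroup.closure_le _).2 ?_
    rintro τ ⟨t, ht, r⟩
    obtain ⟨τ', hτ', r'⟩ := hgens t ht
    rwa [show τ = τ' from Equiv.ext fun x => r.apply_eq _ (r' x)]
  refine (Subgroup.eq_top_iff' N).2 fun k => ?_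
  obtain ⟨k', hk', e⟩ := hle k.2
  rwa [← Subtype.ext e]

/-- Existence of a simple group of order 604800. -/
theorem exists_J2 : ∃ G : Subgroup (Perm (Fin 100)), IsJ2 G := ⟨hj, hj_isSimpleGroup, card_hj⟩

end CfsgLib.Mathieu.HallJanko
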