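import Mathlib

/-!
Jordan's theorem on sharply k-fold transitive groups for k ≥ 4, by counting involutions.
-/

set_option autoImplicit false

namespace CfsgLib.Mathieu.Sharp

open Finset

variable {α : Type*}

/-- `G` keeps `S` and is sharply `k`-fold transitive on it. -/
structure IsSharpOn (G : Subgroup (Equiv.Perm α)) (S : Finset α) (k : ℕ) : Prop where
  inv : ∀ g ∈ G, ∀ x ∈ S, g x ∈ S
  exists_map : ∀ x y : Fin k → α, Function.Injective x → Function.Injective y → (∀ i, x i ∈ S) →
    (∀ i, y i ∈ S) → ∃ g ∈ G, ∀ i, g (x i) = y i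
  eq_one : ∀ g ∈ G, ∀ x : Fin k → α, Function.Injective x → (∀ i, x i ∈ S) → (∀ i, g (x i) = x i) → g = 1

theorem isSharpOn_univ [Fintype α] {G : Subgroup (Equiv.Perm α)} {k : ℕ}
    (h : MulAction.IsMultiplyPretransitive G α k)
    (hs : ∀ x : Fin k ↪ α, MulAction.stabilizer G x = ⊥) : IsSharpOn G univ k := by
  refine ⟨fun _ _ _ _ => mem_univ _, fun x y hx hy _ _ => ?_, fun g hg x hx _ hfix => ?_⟩
  · obtain ⟨g, hg⟩ := h.exists_smul_eq ⟨x, hx⟩ ⟨y, hy⟩
    exact ⟨g.1, g.2, fun i => DFunLike.congr_fun hg i⟩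
  · have hm : (⟨g, hg⟩ : G) ∈ MulAction.stabilizer G (⟨x, hx⟩ : Fin k ↪ α) :=
      Function.Embedding.ext fun i => hfix i
    rw [hs, Subgroup.mem_bot] at hm
    exact congrArg Subtype.val hm

/-- The members of `G` fixing `p`. -/
def fixPoint (G : Subgroup (Equiv.Perm α)) (p : α) : Subgroup (Equiv.Perm α) :=
  G ⊓ MulAction.stabilizer (Equiv.Perm α) p

theorem mem_fixPoint {G : Subgroup (Equiv.Perm α)} {p : α} {g : Equiv.Perm α} :
    g ∈ fixPoint G p ↔ g ∈ G ∧ g p = p := Iff.rfl

theorem IsSharpOn.fix [DecidableEq α] {G : Subgroup (Equiv.Perm α)} {S : Finset α} {k : ℕ}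
    (h : IsSharpOn G S (k + 1)) {p : α} (hp : p ∈ S) : IsSharpOn (fixPoint G p) (S.erase p) k := by
  have hcons : ∀ x : Fin k → α, Function.Injective x → (∀ i, x i ∈ S.erase p) →
      Function.Injective (Fin.cons p x : Fin (k + 1) → α) ∧
        ∀ i, (Fin.cons p x : Fin (k + 1) → α) i ∈ S := fun x hx hxS =>
    ⟨Fin.cons_injective_iff.2 ⟨fun ⟨i, hi⟩ => (mem_erase.1 (hxS i)).1 hi, hx⟩,
      fun i => Fin.cases hp (fun j => (mem_erase.1 (hxS j)).2) i⟩
  refine ⟨fun g hg x hx => ?_, fun x y hx hy hxS hyS => ?_, fun g hg x hx hxS hfix => ?_⟩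
  · rw [mem_erase] at hx ⊢
    exact ⟨fun e => hx.1 (g.injective (e.trans hg.2.symm)), h.inv g hg.1 x hx.2⟩
  · obtain ⟨g, hg, hxy⟩ := h.exists_map _ _ (hcons x hx hxS).1 (hcons y hy hyS).1
      (hcons x hx hxS).2 (hcons y hy hyS).2
    refine ⟨g, ⟨hg, by simpa using hxy 0⟩, fun i => by simpa using hxy i.succ⟩
  · exact h.eq_one g hg.1 _ (hcons x hx hxS).1 (hcons x hx hxS).2
      fun i => Fin.cases hg.2 hfix i

variable [DecidableEq α] {G : Subgroup (Equiv.Perm α)} {S : Finset α}

theorem card_eq [Finite α] {k : ℕ} (h : IsSharpOn G S k) (hk : k ≤ S.card) :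
    Nat.card G = S.card.descFactorial k := by
  obtain ⟨x⟩ : Nonempty (Fin k ↪ S) :=
    Function.Embedding.nonempty_of_card_le (by rw [Fintype.card_coe]; simpa using hk)
  have hxi : Function.Injective fun i => (x i).1 := Subtype.val_injective.comp x.injective
  let f : G → (Fin k ↪ S) := fun g =>
    ⟨fun i => ⟨g.1 (x i).1, h.inv g.1 g.2 _ (x i).2⟩,
      fun i j e => x.injective (Subtype.ext (g.1.injective (congrArg Subtype.val e)))⟩
  have hf : Function.Bijective f := by
    constructor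
    · intro a b e
      have h1 := h.eq_one _ (mul_mem (inv_mem b.2) a.2) _ hxi (fun i => (x i).2) fun i => by
        show (b.1)⁻¹ (a.1 (x i).1) = (x i).1
        rw [show a.1 (x i).1 = b.1 (x i).1 from congrArg Subtype.val (DFunLike.congr_fun e i)]
        exact Equiv.symm_apply_apply _ _
      exact Subtype.ext (inv_mul_eq_one.1 h1).symm
    · intro y
      obtain ⟨g, hg, hxy⟩ := h.exists_map _ (fun i => (y i).1) hxi
        (Subtype.val_injective.comp y.injective) (fun i => (x i).2) (fun i => (y i).2)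
      exact ⟨⟨g, hg⟩, Function.Embedding.ext fun i => Subtype.ext (hxy i)⟩
  rw [Nat.card_congr (Equiv.ofBijective f hf), Nat.card_eq_fintype_card, Fintype.card_embedding_eq,
    Fintype.card_coe, Fintype.card_fin]

/-! ### Four-fold -/

section four
variable (h : IsSharpOn G S 4)
include h

theorem map4 {a b c d a' b' c' d' : α} (ha : a ∈ S) (hb : b ∈ S) (hc : c ∈ S) (hd : d ∈ S)
    (hnd : [a, b, c, d].Nodup) (ha' : a' ∈ S) (hb' : b' ∈ S) (hc' : c' ∈ S) (hd' : d' ∈ S)
    (hnd' : [a', b', c', d'].Nodup) : ∃ g ∈ G, g a = a' ∧ g b = b' ∧ g c = c' ∧ g d = d' := by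
  obtain ⟨g, hg, hmap⟩ := h.exists_map ![a, b, c, d] ![a', b', c', d']
    ((List.nodup_ofFn (f := ![a, b, c, d])).1 hnd) ((List.nodup_ofFn (f := ![a', b', c', d'])).1 hnd')
    (by intro i; fin_cases i <;> assumption) (by intro i; fin_cases i <;> assumption)
  exact ⟨g, hg, hmap 0, hmap 1, hmap 2, hmap 3⟩

theorem eq_one4 {g : Equiv.Perm α} (hg : g ∈ G) {a b c d : α} (ha : a ∈ S) (hb : b ∈ S) (hc : c ∈ S)
    (hd : d ∈ S) (hnd : [a, b, c, d].Nodup) (e1 : g a = a) (e2 : g b = b) (e3 : g c = c) (e4 : g d = d) :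
    g = 1 := by
  exact h.eq_one g hg ![a, b, c, d] ((List.nodup_ofFn (f := ![a, b, c, d])).1 hnd)
    (by intro i; fin_cases i <;> assumption) (by intro i; fin_cases i <;> assumption)

theorem eq_of_four {g g' : Equiv.Perm α} (hg : g ∈ G) (hg' : g' ∈ G) {a b c d : α} (ha : a ∈ S)
    (hb : b ∈ S) (hc : c ∈ S) (hd : d ∈ S) (hnd : [a, b, c, d].Nodup) (e1 : g a = g' a)
    (e2 : g b = g' b) (e3 : g c = g' c) (e4 : g d = g' d) : g = g' := by
  have := eq_one4 h (mul_mem (inv_mem hg') hg) ha hb hc hd hnd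
    (show g'⁻¹ (g a) = a by rw [e1]; exact Equiv.symm_apply_apply _ _)
    (show g'⁻¹ (g b) = b by rw [e2]; exact Equiv.symm_apply_apply _ _)
    (show g'⁻¹ (g c) = c by rw [e3]; exact Equiv.symm_apply_apply _ _)
    (show g'⁻¹ (g d) = d by rw [e4]; exact Equiv.symm_apply_apply _ _)
  exact (inv_mul_eq_one.1 this).symm

/-- The fixed points in `S`. -/
def fixes (S : Finset α) (g : Equiv.Perm α) : Finset α := S.filter fun x => g x = x

omit h in
theorem mem_fixes {g : Equiv.Perm α} {x : α} : x ∈ fixes S g ↔ x ∈ S ∧ g x = x := mem_filter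

omit h in
theorem nodup4 {β : Type*} {a b c d : β} (hab : a ≠ b) (hac : a ≠ c) (had : a ≠ d) (hbc : b ≠ c)
    (hbd : b ≠ d) (hcd : c ≠ d) : [a, b, c, d].Nodup := by
  simp only [List.nodup_cons, List.mem_cons, List.not_mem_nil, or_false, not_or, List.nodup_nil,
    and_true, not_false_eq_true]
  exact ⟨⟨hab, hac, had⟩, ⟨hbc, hbd⟩, hcd⟩

theorem fixes_card_le {g : Equiv.Perm α} (hg : g ∈ G) (hg1 : g ≠ 1) : (fixes S g).card ≤ 3 := by
  by_contra hc
  obtain ⟨s, hs, hs4⟩ := exists_subset_card_eq (show 4 ≤ (fixes S g).card by omega)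
  obtain ⟨a, b, c, d, hab, hac, had, hbc, hbd, hcd, rfl⟩ := card_eq_four.1 hs4
  simp only [insert_subset_iff, singleton_subset_iff, mem_fixes] at hs
  exact hg1 (eq_one4 h hg hs.1.1 hs.2.1.1 hs.2.2.1.1 hs.2.2.2.1 (nodup4 hab hac had hbc hbd hcd) hs.1.2 hs.2.1.2 hs.2.2.1.2
    hs.2.2.2.2)

omit h in
/-- An involution moves an even number of points of an invariant set. -/
theorem even_moved {g : Equiv.Perm α} (hS : ∀ x ∈ S, g x ∈ S) (hg : g * g = 1) :
    Even (S \ fixes S g).card := by
  have hgg : ∀ x, g (g x) = x := fun x => by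
    have := congrArg (fun σ : Equiv.Perm α => σ x) hg; simpa using this
  induction hn : (S \ fixes S g).card using Nat.strong_induction_on generalizing S with
  | _ n ih =>
    rcases eq_empty_or_nonempty (S \ fixes S g) with he | ⟨x, hx⟩
    · rw [← hn, he, card_empty]; exact ⟨0, rfl⟩
    rw [mem_sdiff, mem_fixes] at hx
    have hne : g x ≠ x := fun e => hx.2 ⟨hx.1, e⟩
    have hsub : (S \ fixes S g) = insert x (insert (g x) (((S.erase x).erase (g x)) \
        fixes ((S.erase x).erase (g x)) g)) := by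
      ext y
      simp only [mem_sdiff, mem_insert, mem_fixes, mem_erase]
      constructor
      · rintro ⟨hy, hfy⟩
        by_cases h1 : y = x
        · exact Or.inl h1
        by_cases h2 : y = g x
        · exact Or.inr (Or.inl h2)
        exact Or.inr (Or.inr ⟨⟨h2, h1, hy⟩, fun h => hfy ⟨hy, h.2⟩⟩)
      · rintro (rfl | rfl | ⟨⟨h1, h2, hy⟩, hfy⟩)
        · exact ⟨hx.1, hx.2⟩
        · exact ⟨hS x hx.1, fun h => hne (g.injective h.2)⟩
        · exact ⟨hy, fun h => hfy ⟨⟨h1, h2, hy⟩, h.2⟩⟩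
    have hcard := congrArg card hsub
    rw [card_insert_of_notMem (by simp [Ne.symm hne]), card_insert_of_notMem (by simp)] at hcard
    have := ih _ (by omega) (S := (S.erase x).erase (g x)) (fun y hy => by
      simp only [mem_erase] at hy ⊢
      exact ⟨fun e => hy.2.1 (g.injective e), fun e => hy.1 (by rw [← e, hgg]), hS y hy.2.2⟩) rfl
    rw [← hn, hcard, Nat.even_iff]
    rw [Nat.even_iff] at this
    omega

variable [Fintype α]

omit h in
/-- The involutions of `G`. -/
noncomputable def involutions (G : Subgroup (Equiv.Perm α)) : Finset (Equiv.Perm α) := by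
  classical exact univ.filter fun g => g ∈ G ∧ g * g = 1 ∧ g ≠ 1

omit h in
theorem mem_involutions {g : Equiv.Perm α} : g ∈ involutions G ↔ g ∈ G ∧ g * g = 1 ∧ g ≠ 1 := by
  simp [involutions]

theorem exists_unique_swap {a b c d : α} (ha : a ∈ S) (hb : b ∈ S) (hc : c ∈ S) (hd : d ∈ S)
    (hnd : [a, b, c, d].Nodup) :
    (∃ g ∈ involutions G, g a = b ∧ g b = a ∧ g c = d ∧ g d = c) ∧
      ∃ g ∈ involutions G, g a = a ∧ g b = b ∧ g c = d ∧ g d = c := by
  have hnd' := hnd
  simp only [List.nodup_cons, List.mem_cons, List.not_mem_nil, or_false, not_or, List.nodup_nil,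
    and_true, not_false_eq_true] at hnd'
  constructor
  · obtain ⟨g, hg, e1, e2, e3, e4⟩ := map4 h ha hb hc hd hnd hb ha hd hc
      (nodup4 (Ne.symm hnd'.1.1) hnd'.2.1.2 hnd'.2.1.1 hnd'.1.2.2 hnd'.1.2.1 (Ne.symm hnd'.2.2))
    refine ⟨g, mem_involutions.2 ⟨hg, ?_, fun e => hnd'.1.1 (by rw [← e1, e]; rfl)⟩, e1, e2, e3, e4⟩
    exact eq_one4 h (mul_mem hg hg) ha hb hc hd hnd (by simp [e1, e2]) (by simp [e1, e2])
      (by simp [e3, e4]) (by simp [e3, e4])
  · obtain ⟨g, hg, e1, e2, e3, e4⟩ := map4 h ha hb hc hd hnd ha hb hd hc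
      (nodup4 hnd'.1.1 hnd'.1.2.2 hnd'.1.2.1 hnd'.2.1.2 hnd'.2.1.1 (Ne.symm hnd'.2.2))
    refine ⟨g, mem_involutions.2 ⟨hg, ?_, fun e => hnd'.2.2 (by rw [← e3, e]; rfl)⟩, e1, e2, e3, e4⟩
    exact eq_one4 h (mul_mem hg hg) ha hb hc hd hnd (by simp [e1]) (by simp [e2])
      (by simp [e3, e4]) (by simp [e3, e4])

set_option maxHeartbeats 1000000 in
/-- The two double counts. -/
theorem counts :
    (∑ g ∈ involutions G, (S.card - (fixes S g).card) * (S.card - (fixes S g).card - 2)) =
      S.card.descFactorial 4 ∧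
    (∑ g ∈ involutions G, ((fixes S g).card * ((fixes S g).card - 1)) * (S.card - (fixes S g).card)) =
      S.card.descFactorial 4 := by
  classical
  set Q := ((S ×ˢ S) ×ˢ (S ×ˢ S)).filter fun q : (α × α) × α × α => [q.1.1, q.1.2, q.2.1, q.2.2].Nodup
    with hQ
  have hmemQ : ∀ a b c d, ((a, b), c, d) ∈ Q ↔
      a ∈ S ∧ b ∈ S ∧ c ∈ S ∧ d ∈ S ∧ [a, b, c, d].Nodup := fun a b c d => by
    simp only [hQ, mem_filter, mem_product]
    tauto
  have hQcard : Q.card = S.card.descFactorial 4 := by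
    rw [← Fintype.card_coe S, ← Fintype.card_fin 4, ← Fintype.card_embedding_eq, ← card_univ]
    refine (card_bij (fun x _ => ((((x 0 : S) : α), ((x 1 : S) : α)), ((x 2 : S) : α), ((x 3 : S) : α)))
      ?_ ?_ ?_).symm
    · intro x _
      refine (hmemQ _ _ _ _).2 ⟨(x 0).2, (x 1).2, (x 2).2, (x 3).2, ?_⟩
      have := List.Nodup.map (f := fun i => ((x i : S) : α)) (Subtype.val_injective.comp x.injective)
        (show ([0, 1, 2, 3] : List (Fin 4)).Nodup by decide)
      exact this
    · intro x _ y _ e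
      simp only [Prod.mk.injEq, SetLike.coe_eq_coe] at e
      ext i
      fin_cases i <;> simp [e]
    · rintro ⟨⟨a, b⟩, c, d⟩ hq
      obtain ⟨ha, hb, hc, hd, hnd⟩ := (hmemQ a b c d).1 hq
      exact ⟨⟨![⟨a, ha⟩, ⟨b, hb⟩, ⟨c, hc⟩, ⟨d, hd⟩],
        (List.nodup_ofFn (f := ![(⟨a, ha⟩ : S), ⟨b, hb⟩, ⟨c, hc⟩, ⟨d, hd⟩])).1
          (List.Nodup.of_map Subtype.val hnd)⟩, mem_univ _, rfl⟩
  have hcount : ∀ (R : Equiv.Perm α → (α × α) × α × α → Prop) (N : Equiv.Perm α → ℕ),
      (∀ q ∈ Q, ∃ g, g ∈ involutions G ∧ R g q ∧ ∀ g' ∈ involutions G, R g' q → g' = g) →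
      (∀ g ∈ involutions G, (Q.filter (R g)).card = N g) → ∑ g ∈ involutions G, N g = Q.card := by
    intro R N hex hN
    have h1 := sum_card_bipartiteAbove_eq_sum_card_bipartiteBelow R (s := involutions G) (t := Q)
    rw [card_eq_sum_ones Q, sum_congr rfl fun g hg => (hN g hg).symm]
    refine h1.trans (sum_congr rfl fun q hq => ?_)
    obtain ⟨g, hg, hR, huniq⟩ := hex q hq
    rw [card_eq_one]
    refine ⟨g, eq_singleton_iff_unique_mem.2 ⟨(mem_bipartiteBelow R).2 ⟨hg, hR⟩, fun g' hg' => ?_⟩⟩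
    rw [mem_bipartiteBelow] at hg'
    exact huniq g' hg'.1 hg'.2
  have hgg : ∀ g ∈ involutions G, ∀ x, g (g x) = x := fun g hg x => by
    have := congrArg (fun σ : Equiv.Perm α => σ x) (mem_involutions.1 hg).2.1; simpa using this
  have hmov : ∀ g ∈ involutions G, ∀ x ∈ S \ fixes S g, g x ∈ S \ fixes S g ∧ g x ≠ x := by
    intro g hg x hx
    simp only [mem_sdiff, mem_fixes] at hx ⊢
    exact ⟨⟨h.inv g (mem_involutions.1 hg).1 x hx.1, fun e => hx.2 ⟨hx.1, g.injective e.2⟩⟩,
      fun e => hx.2 ⟨hx.1, e⟩⟩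
  have hm : ∀ g, (S \ fixes S g).card = S.card - (fixes S g).card := fun g =>
    card_sdiff_of_subset (filter_subset _ _)
  constructor <;> rw [← hQcard]
  · refine hcount (fun g q => g q.1.1 = q.1.2 ∧ g q.2.1 = q.2.2) _ ?_ fun g hg => ?_
    · rintro ⟨⟨a, b⟩, c, d⟩ hq
      obtain ⟨ha, hb, hc, hd, hnd⟩ := (hmemQ a b c d).1 hq
      obtain ⟨⟨g, hg, e1, e2, e3, e4⟩, -⟩ := exists_unique_swap h ha hb hc hd hnd
      refine ⟨g, hg, ⟨e1, e3⟩, fun g' hg' ⟨e1', e3'⟩ => ?_⟩
      have e2' : g' b = a := (congrArg g' e1').symm.trans (hgg g' hg' a)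
      have e4' : g' d = c := (congrArg g' e3').symm.trans (hgg g' hg' c)
      exact eq_of_four h (mem_involutions.1 hg').1 (mem_involutions.1 hg).1 ha hb hc hd hnd
        (e1'.trans e1.symm) (e2'.trans e2.symm) (e3'.trans e3.symm) (e4'.trans e4.symm)
    · set M := S \ fixes S g with hM
      have e : (Q.filter fun q => g q.1.1 = q.1.2 ∧ g q.2.1 = q.2.2).card =
          (M.sigma fun a => (M.erase a).erase (g a)).card := by
        refine card_bij' (fun q _ => ⟨q.1.1, q.2.1⟩) (fun p _ => ((p.1, g p.1), p.2, g p.2)) ?_ ?_ ?_ ?_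
        · rintro ⟨⟨a, b⟩, c, d⟩ hq
          simp only [mem_filter] at hq
          obtain ⟨hq, hab : g a = b, hcd : g c = d⟩ := hq
          obtain ⟨ha, hb, hc, hd, hnd⟩ := (hmemQ a b c d).1 hq
          simp only [List.nodup_cons, List.mem_cons, List.not_mem_nil, or_false, not_or, List.nodup_nil,
            and_true, not_false_eq_true] at hnd
          simp only [mem_sigma, hM, mem_erase, mem_sdiff, mem_fixes, hab]
          exact ⟨⟨ha, fun e => hnd.1.1 (e.2.symm)⟩, Ne.symm hnd.2.1.1, Ne.symm hnd.1.2.1, hc,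
            fun e => hnd.2.2 (by rw [← hcd, e.2])⟩
        · rintro ⟨a, c⟩ hp
          simp only [mem_sigma, mem_erase] at hp
          obtain ⟨ha, hc1, hc2, hc⟩ := hp
          obtain ⟨hga, hne⟩ := hmov g hg a ha
          obtain ⟨hgc, hne'⟩ := hmov g hg c hc
          refine mem_filter.2 ⟨(hmemQ _ _ _ _).2 ⟨(mem_sdiff.1 ha).1, (mem_sdiff.1 hga).1,
            (mem_sdiff.1 hc).1, (mem_sdiff.1 hgc).1, ?_⟩, rfl, rfl⟩
          have h1 : g c ≠ a := fun e => hc1 (by rw [← e, hgg g hg])
          have h2 : g c ≠ g a := fun e => hc2 (g.injective e)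
          simp [Ne.symm hne, Ne.symm hne', Ne.symm hc1, Ne.symm hc2, Ne.symm h1, Ne.symm h2]
        · rintro ⟨⟨a, b⟩, c, d⟩ hq
          simp only [mem_filter] at hq
          simp [hq.2.1, hq.2.2]
        · rintro ⟨a, c⟩ _; rfl
      refine (Eq.trans (by congr!) e).trans ?_
      rw [card_sigma, sum_congr rfl (g := fun _ => M.card - 2) fun a ha => by
        rw [card_erase_of_mem (mem_erase.2 ⟨(hmov g hg a ha).2, (hmov g hg a ha).1⟩), card_erase_of_mem ha]
        omega, sum_const, smul_eq_mul, hm]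
  · refine hcount (fun g q => g q.1.1 = q.1.1 ∧ g q.1.2 = q.1.2 ∧ g q.2.1 = q.2.2) _ ?_ fun g hg => ?_
    · rintro ⟨⟨a, b⟩, c, d⟩ hq
      obtain ⟨ha, hb, hc, hd, hnd⟩ := (hmemQ a b c d).1 hq
      obtain ⟨-, g, hg, e1, e2, e3, e4⟩ := exists_unique_swap h ha hb hc hd hnd
      refine ⟨g, hg, ⟨e1, e2, e3⟩, fun g' hg' ⟨e1', e2', e3'⟩ => ?_⟩
      have e4' : g' d = c := (congrArg g' e3').symm.trans (hgg g' hg' c)
      exact eq_of_four h (mem_involutions.1 hg').1 (mem_involutions.1 hg).1 ha hb hc hd hnd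
        (e1'.trans e1.symm) (e2'.trans e2.symm) (e3'.trans e3.symm) (e4'.trans e4.symm)
    · set M := S \ fixes S g with hM
      have e : (Q.filter fun q => g q.1.1 = q.1.1 ∧ g q.1.2 = q.1.2 ∧ g q.2.1 = q.2.2).card =
          ((fixes S g).offDiag ×ˢ M).card := by
        refine card_bij' (fun q _ => (q.1, q.2.1)) (fun p _ => (p.1, p.2, g p.2)) ?_ ?_ ?_ ?_
        · rintro ⟨⟨a, b⟩, c, d⟩ hq
          simp only [mem_filter] at hq
          obtain ⟨hq, h1 : g a = a, h2 : g b = b, h3 : g c = d⟩ := hq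
          obtain ⟨ha, hb, hc, hd, hnd⟩ := (hmemQ a b c d).1 hq
          simp only [List.nodup_cons, List.mem_cons, List.not_mem_nil, or_false, not_or, List.nodup_nil,
            and_true, not_false_eq_true] at hnd
          simp only [mem_product, mem_offDiag, hM, mem_sdiff, mem_fixes]
          exact ⟨⟨⟨ha, h1⟩, ⟨hb, h2⟩, hnd.1.1⟩, hc, fun e => hnd.2.2 (by rw [← h3, e.2])⟩
        · rintro ⟨⟨a, b⟩, c⟩ hp
          simp only [mem_product, mem_offDiag, mem_fixes] at hp
          obtain ⟨⟨⟨ha, h1⟩, ⟨hb, h2⟩, hab⟩, hc⟩ := hp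
          obtain ⟨hgc, hne'⟩ := hmov g hg c hc
          refine mem_filter.2 ⟨(hmemQ _ _ _ _).2 ⟨ha, hb, (mem_sdiff.1 hc).1, (mem_sdiff.1 hgc).1, ?_⟩,
            h1, h2, rfl⟩
          have f1 : ∀ x, g x = x → c ≠ x ∧ g c ≠ x := fun x hx =>
            ⟨fun e => hne' (by rw [e, hx]), fun e => hne' (by
              have : g c = g x := e.trans hx.symm
              rw [g.injective this, hx])⟩
          simp [hab, Ne.symm hne', Ne.symm (f1 a h1).1, Ne.symm (f1 a h1).2, Ne.symm (f1 b h2).1,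
            Ne.symm (f1 b h2).2]
        · rintro ⟨⟨a, b⟩, c, d⟩ hq
          simp only [mem_filter] at hq
          simp [hq.2.2.2]
        · rintro ⟨p, c⟩ _; rfl
      refine (Eq.trans (by congr!) e).trans ?_
      rw [card_product, offDiag_card, hm, Nat.mul_sub_one]

theorem fix_sizes {g : Equiv.Perm α} (hg : g ∈ involutions G) :
    (fixes S g).card ≤ 3 ∧ (S.card - (fixes S g).card) % 2 = 0 ∧ (fixes S g).card ≤ S.card := by
  obtain ⟨h1, h2, h3⟩ := mem_involutions.1 hg
  refine ⟨fixes_card_le h h1 h3, ?_, card_le_card (filter_subset _ _)⟩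
  have := even_moved (S := S) (fun x hx => h.inv g h1 x hx) h2
  rwa [card_sdiff_of_subset (s := fixes S g) (filter_subset _ _), Nat.even_iff] at this

/-- The involutions with `i` fixed points in `S`. -/
noncomputable def invFix (G : Subgroup (Equiv.Perm α)) (S : Finset α) (i : ℕ) : Finset (Equiv.Perm α) :=
  (involutions G).filter fun g => (fixes S g).card = i

theorem counts_sum :
    (∑ i ∈ range 4, (invFix G S i).card * ((S.card - i) * (S.card - i - 2))) = S.card.descFactorial 4 ∧
    (∑ i ∈ range 4, (invFix G S i).card * ((i * (i - 1)) * (S.card - i))) = S.card.descFactorial 4 := by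
  obtain ⟨c1, c2⟩ := counts h
  have key : ∀ F : ℕ → ℕ, ∑ g ∈ involutions G, F (fixes S g).card =
      ∑ i ∈ range 4, (invFix G S i).card * F i := by
    intro F
    rw [← sum_fiberwise_of_maps_to (g := fun g => (fixes S g).card) (t := range 4)
      (fun g hg => mem_range.2 (Nat.lt_succ_of_le (fix_sizes h hg).1))]
    refine sum_congr rfl fun i _ => ?_
    rw [sum_congr rfl (g := fun _ => F i) fun g hg => by rw [(mem_filter.1 hg).2], sum_const,
      smul_eq_mul, invFix]
  rw [key (fun i => (S.card - i) * (S.card - i - 2))] at c1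
  rw [key (fun i => i * (i - 1) * (S.card - i))] at c2
  exact ⟨c1, c2⟩

theorem invFix_parity {i : ℕ} (hi : (S.card + i) % 2 = 1) : (invFix G S i).card = 0 := by
  refine card_eq_zero.2 (filter_eq_empty_iff.2 fun g hg e => ?_)
  have := fix_sizes h hg
  omega

/-- Each point is fixed equally often. -/
theorem card_invFix_one : S.card ∣ (invFix G S 1).card ∨ S.card < 4 := by
  classical
  by_cases hn : S.card < 4
  · exact Or.inr hn
  left
  have htr : ∀ a ∈ S, ∀ b ∈ S, ∃ g ∈ G, g a = b := by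
    intro a ha b hb
    obtain ⟨x⟩ : Nonempty (Fin 4 ↪ S) :=
      Function.Embedding.nonempty_of_card_le (by rw [Fintype.card_coe, Fintype.card_fin]; omega)
    let x' := x.setValue 0 ⟨a, ha⟩
    let y' := x.setValue 0 ⟨b, hb⟩
    obtain ⟨g, hg, hmap⟩ := h.exists_map (fun i => (x' i).1) (fun i => (y' i).1)
      (Subtype.val_injective.comp x'.injective) (Subtype.val_injective.comp y'.injective)
      (fun i => (x' i).2) (fun i => (y' i).2)
    refine ⟨g, hg, ?_⟩
    have h0 := hmap 0
    simp only [x', y', Function.Embedding.setValue_eq] at h0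
    exact h0
  set N : α → Finset (Equiv.Perm α) := fun a => (invFix G S 1).filter fun g => g a = a
  have hsum : (invFix G S 1).card = ∑ a ∈ S, (N a).card := by
    have h1 := sum_card_bipartiteAbove_eq_sum_card_bipartiteBelow (fun (g : Equiv.Perm α) a => g a = a)
      (s := invFix G S 1) (t := S)
    rw [card_eq_sum_ones]
    refine Eq.trans (sum_congr rfl fun g hg => ?_) h1
    exact ((mem_filter.1 hg).2).symm
  obtain ⟨a, ha⟩ := card_pos.1 (show 0 < S.card by omega)
  have hconst : ∀ b ∈ S, (N b).card = (N a).card := by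
    intro b hb
    obtain ⟨t, ht, htb⟩ := htr b hb a ha
    have hconj : ∀ (t : Equiv.Perm α), t ∈ G → ∀ g ∈ invFix G S 1, t * g * t⁻¹ ∈ invFix G S 1 := by
      intro t ht g hg
      rw [invFix, mem_filter, mem_involutions] at hg ⊢
      obtain ⟨⟨h1, h2, h3⟩, h4⟩ := hg
      refine ⟨⟨mul_mem (mul_mem ht h1) (inv_mem ht), ?_, ?_⟩, ?_⟩
      · calc t * g * t⁻¹ * (t * g * t⁻¹) = t * (g * g) * t⁻¹ := by group
          _ = 1 := by rw [h2]; group
      · exact fun e => h3 (by rw [show g = t⁻¹ * (t * g * t⁻¹) * t by group, e]; group)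
      · rw [← h4]
        refine card_bij' (fun x _ => t⁻¹ x) (fun x _ => t x) ?_ ?_ ?_ ?_
        · intro x hx
          rw [mem_fixes] at hx ⊢
          refine ⟨h.inv _ (inv_mem ht) x hx.1, t.injective ?_⟩
          rw [show t (t⁻¹ x) = x from Equiv.apply_symm_apply _ _]
          exact hx.2
        · intro x hx
          rw [mem_fixes] at hx ⊢
          exact ⟨h.inv _ ht x hx.1, by simp [hx.2]⟩
        · intro x _; exact Equiv.apply_symm_apply _ _
        · intro x _; exact Equiv.symm_apply_apply _ _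
    refine card_bij' (fun g _ => t * g * t⁻¹) (fun g _ => t⁻¹ * g * t) ?_ ?_ ?_ ?_
    · intro g hg
      simp only [N, mem_filter] at hg ⊢
      refine ⟨hconj t ht g hg.1, ?_⟩
      show t (g (t⁻¹ a)) = a
      rw [show t⁻¹ a = b from (Equiv.symm_apply_eq t).2 htb.symm, hg.2, htb]
    · intro g hg
      simp only [N, mem_filter] at hg ⊢
      refine ⟨by simpa using hconj t⁻¹ (inv_mem ht) g hg.1, ?_⟩
      show t⁻¹ (g (t b)) = b
      rw [htb, hg.2, ← htb]
      exact Equiv.symm_apply_apply _ _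
    · intro g _; group
    · intro g _; group
  rw [hsum, sum_congr rfl hconst, sum_const, smul_eq_mul]
  exact ⟨_, rfl⟩

theorem card_cases (hn : 4 ≤ S.card) :
    S.card = 4 ∨ S.card = 5 ∨ S.card = 6 ∨ (S.card = 11 ∧ (invFix G S 1).card = 0 ∧
      (invFix G S 3).card = 165) := by
  obtain ⟨c1, c2⟩ := counts_sum h
  have h01 := fun i => invFix_parity h (i := i)
  have hdiv := card_invFix_one h
  have hdf : S.card.descFactorial 4 = S.card * (S.card - 1) * (S.card - 2) * (S.card - 3) := by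
    simp [Nat.descFactorial]; ring
  rw [hdf] at c1 c2
  simp only [sum_range_succ, sum_range_zero, zero_add, zero_mul, mul_zero, add_zero, Nat.sub_self,
    Nat.sub_zero] at c1 c2
  rcases Nat.even_or_odd S.card with ⟨m, hm⟩ | ⟨m, hm⟩
  · by_cases h6 : S.card ≤ 6
    · omega
    exfalso
    simp only [h01 1 (by omega), h01 3 (by omega)] at c1 c2
    simp only [zero_mul, add_zero, Nat.reduceSub, mul_one] at c1 c2
    obtain ⟨p, hp⟩ : ∃ p, S.card = p + 7 := ⟨S.card - 7, by omega⟩
    rw [hp] at c1 c2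
    simp only [show p + 7 - 1 = p + 6 by omega, show p + 7 - 2 = p + 5 by omega,
      show p + 7 - 3 = p + 4 by omega, show p + 5 - 2 = p + 3 by omega] at c1 c2
    set N₂ := (invFix G S 2).card
    have e2 : 2 * N₂ = (p + 7) * (p + 6) * (p + 4) :=
      Nat.eq_of_mul_eq_mul_right (m := p + 5) (by omega) (by linarith)
    have l0 : N₂ * (p + 3) * (p + 5) ≤ (p + 7) * (p + 6) * (p + 4) * (p + 5) := by
      linarith [Nat.zero_le ((invFix G S 0).card * ((p + 7) * (p + 5)))]
    have l1 := Nat.le_of_mul_le_mul_right l0 (by omega)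
    have hpos : 0 < (p + 7) * (p + 6) * (p + 4) := by positivity
    nlinarith
  · by_cases h5 : S.card ≤ 5
    · omega
    simp only [h01 0 (by omega), h01 2 (by omega)] at c1 c2
    simp only [zero_mul, add_zero, zero_add, Nat.reduceSub, Nat.reduceMul] at c1 c2
    by_cases h12 : 12 ≤ S.card
    · exfalso
      obtain ⟨p, hp⟩ : ∃ p, S.card = p + 12 := ⟨S.card - 12, by omega⟩
      rw [hp] at c1 c2
      simp only [show p + 12 - 1 = p + 11 by omega, show p + 12 - 2 = p + 10 by omega,
        show p + 12 - 3 = p + 9 by omega, show p + 11 - 2 = p + 9 by omega,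
        show p + 9 - 2 = p + 7 by omega] at c1 c2
      set N₃ := (invFix G S 3).card
      have e2 : 6 * N₃ = (p + 12) * (p + 11) * (p + 10) :=
        Nat.eq_of_mul_eq_mul_right (m := p + 9) (by omega) (by linarith)
      have l0 : N₃ * (p + 7) * (p + 9) ≤ (p + 12) * (p + 11) * (p + 10) * (p + 9) := by
        linarith [Nat.zero_le ((invFix G S 1).card * ((p + 11) * (p + 9)))]
      have l1 := Nat.le_of_mul_le_mul_right l0 (by omega)
      have hpos : 0 < (p + 12) * (p + 11) * (p + 10) := by positivity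
      nlinarith
    · have : S.card = 7 ∨ S.card = 9 ∨ S.card = 11 := by omega
      rcases this with e | e | e <;> rw [e] at c1 c2 hdiv ⊢ <;> norm_num at c1 c2 hdiv ⊢ <;>
        (try simp only [← card_eq_zero]) <;> omega

end four

/-- Degrees of sharply four-fold transitive groups. -/
theorem degree_four [Fintype α] (h : IsSharpOn G S 4) (hn : 4 ≤ S.card) :
    S.card = 4 ∨ S.card = 5 ∨ S.card = 6 ∨ S.card = 11 := by
  rcases card_cases h hn with e | e | e | e
  exacts [Or.inl e, Or.inr (Or.inl e), Or.inr (Or.inr (Or.inl e)), Or.inr (Or.inr (Or.inr e.1))]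

/-- Degrees of sharply five-fold transitive groups. -/
theorem degree_five [Fintype α] (h : IsSharpOn G S 5) (hn : 5 ≤ S.card) :
    S.card = 5 ∨ S.card = 6 ∨ S.card = 7 ∨ S.card = 12 := by
  obtain ⟨p, hp⟩ := card_pos.1 (show 0 < S.card by omega)
  have := degree_four (h.fix hp) (by rw [card_erase_of_mem hp]; omega)
  rw [card_erase_of_mem hp] at this
  omega

/-- No group is sharply six-fold transitive on thirteen points. -/
theorem no_six_thirteen [Fintype α] (h : IsSharpOn G S 6) : S.card ≠ 13 := by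
  intro hn
  have hcard := card_eq h (by omega)
  rw [hn, show (13 : ℕ).descFactorial 6 = 1235520 by decide] at hcard
  have hfaith : ∀ g ∈ G, (∀ x ∈ S, g x = x) → g = 1 := by
    intro g hg hfix
    obtain ⟨x⟩ : Nonempty (Fin 6 ↪ S) :=
      Function.Embedding.nonempty_of_card_le (by rw [Fintype.card_coe, hn]; simp)
    exact h.eq_one g hg (fun i => (x i).1) (Subtype.val_injective.comp x.injective) (fun i => (x i).2)
      fun i => hfix _ (x i).2
  haveI : Fact (Nat.Prime 13) := ⟨by norm_num⟩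
  obtain ⟨P⟩ : Nonempty (Sylow 13 G) := inferInstance
  have hfact : (Nat.card G).factorization 13 = 1 := by
    rw [hcard, show (1235520 : ℕ) = 13 * 95040 by norm_num, Nat.factorization_mul (by norm_num) (by norm_num)]
    simp [Nat.Prime.factorization_self (show Nat.Prime 13 by norm_num),
      Nat.factorization_eq_zero_of_not_dvd (show ¬ 13 ∣ 95040 by norm_num)]
  have hP13 : Nat.card P = 13 := by rw [P.card_eq_multiplicity, hfact, pow_one]
  obtain ⟨c, hc⟩ := exists_prime_orderOf_dvd_card' (G := P) 13 (by rw [hP13])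
  set σ : Equiv.Perm α := ((c : G) : Equiv.Perm α) with hσ
  have hσord : orderOf σ = 13 := by rw [hσ, Subgroup.orderOf_coe, Subgroup.orderOf_coe, hc]
  -- the orbit of a moved point is all of `S`
  obtain ⟨a, haS, haσ⟩ : ∃ a ∈ S, σ a ≠ a := by
    by_contra hh
    push Not at hh
    have := hfaith σ (c : G).2 hh
    rw [this, orderOf_one] at hσord
    exact absurd hσord (by norm_num)
  have horb : (Finset.range 13).image (fun i => (σ ^ i) a) = S := by
    refine eq_of_subset_of_card_le (fun x hx => ?_) ?_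
    · obtain ⟨i, -, rfl⟩ := mem_image.1 hx
      exact h.inv _ (pow_mem (c : G).2 i) a haS
    · rw [hn, card_image_of_injOn, card_range]
      suffices key : ∀ i j, i < j → j < 13 → (σ ^ i) a = (σ ^ j) a → False by
        intro i hi j hj (e : (σ ^ i) a = (σ ^ j) a)
        simp only [coe_range, Set.mem_Iio] at hi hj
        rcases lt_trichotomy i j with hlt | hlt | hlt
        exacts [(key i j hlt hj e).elim, hlt, (key j i hlt hi e.symm).elim]
      intro i j hlt hj e
      have e2 : (σ ^ (j - i)) a = a := by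
        apply (σ ^ i).injective
        rw [← Equiv.Perm.mul_apply, ← pow_add, show i + (j - i) = j by omega, e]
      have hcop : Nat.Coprime (j - i) 13 :=
        Nat.Coprime.symm ((Nat.Prime.coprime_iff_not_dvd (by norm_num)).2 fun hd => by
          have := Nat.le_of_dvd (by omega) hd; omega)
      have hmem : σ ^ (j - i) ∈ MulAction.stabilizer (Equiv.Perm α) a := e2
      obtain ⟨u, hu⟩ := exists_pow_eq_self_of_coprime (x := σ) (n := j - i) (hσord.symm ▸ hcop)
      have h2 := pow_mem hmem u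
      rw [hu] at h2
      exact haσ h2
  -- the centraliser of the Sylow subgroup is itself
  have hcent : ∀ g : G, g * (c : G) = (c : G) * g → g ∈ (P : Subgroup G) := by
    intro g hgc
    have hga : (g : Equiv.Perm α) a ∈ (Finset.range 13).image (fun i => (σ ^ i) a) := by
      rw [horb]; exact h.inv _ g.2 a haS
    obtain ⟨i, -, hi⟩ := mem_image.1 hga
    have hcomm : Commute (g : Equiv.Perm α) σ := congrArg Subtype.val hgc
    have hg' : g = (c : G) ^ i := by
      refine Subtype.ext ?_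
      refine (inv_mul_eq_one.1 (hfaith _ (mul_mem (inv_mem ((c : G) ^ i).2) g.2) fun x hx => ?_)).symm
      rw [← horb, mem_image] at hx
      obtain ⟨j, -, rfl⟩ := hx
      show ((((c : G) ^ i : G) : Equiv.Perm α))⁻¹ ((g : Equiv.Perm α) ((σ ^ j) a)) = (σ ^ j) a
      rw [show (g : Equiv.Perm α) ((σ ^ j) a) = (σ ^ j) ((g : Equiv.Perm α) a) from
        congrArg (fun τ : Equiv.Perm α => τ a) (hcomm.pow_right j).eq, ← hi]
      have : (σ ^ j) ((σ ^ i) a) = (σ ^ i) ((σ ^ j) a) := by
        rw [← Equiv.Perm.mul_apply, ← Equiv.Perm.mul_apply, ← pow_add, ← pow_add, add_comm]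
      rw [this]
      exact Equiv.symm_apply_apply _ _
    rw [hg']
    exact pow_mem c.2 i
  -- the normaliser's index in the Sylow subgroup divides 12
  set N := Subgroup.normalizer ((P : Subgroup G) : Set G)
  have hindex : Nat.card (Sylow 13 G) * Nat.card N = 1235520 := by
    rw [Sylow.card_eq_index_normalizer P]
    exact (Subgroup.index_mul_card N).trans hcard
  have hmod := card_sylow_modEq_one 13 G
  let φ : N →* MulAut P := MonoidHom.comp (P : Subgroup G).normalizerMonoidHom (MonoidHom.id N)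
  have hker : φ.ker ≤ (P : Subgroup G).subgroupOf N := by
    intro g hg
    refine hcent g.1 ?_
    have h1 : (g : G) * (c : G) * (g : G)⁻¹ = c :=
      congrArg Subtype.val (DFunLike.congr_fun (show φ g = 1 from hg) c)
    calc (g : G) * c = ((g : G) * c * (g : G)⁻¹) * g := by group
      _ = c * g := by rw [h1]
  have hcyc : IsCyclic P := isCyclic_of_prime_card hP13
  have haut : Nat.card (MulAut P) = 12 := by
    rw [IsCyclic.card_mulAut, hP13, Nat.totient_prime (by norm_num)]
  have hkdvd : Nat.card N ∣ 13 * 12 := by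
    rw [← Subgroup.index_mul_card φ.ker, mul_comm (13 : ℕ), Subgroup.index_ker]
    refine Nat.mul_dvd_mul (haut ▸ Subgroup.card_subgroup_dvd_card φ.range) ?_
    refine Eq.subst (motive := fun x : ℕ => Nat.card φ.ker ∣ x) hP13 ?_
    rw [← Nat.card_congr (Subgroup.subgroupOfEquivOfLe (Subgroup.le_normalizer
      (H := (P : Subgroup G)))).toEquiv]
    exact Subgroup.card_dvd_of_le hker
  have hle : Nat.card N ≤ 156 := Nat.le_of_dvd (by norm_num) hkdvd
  have hkmem : Nat.card N ∈ Nat.divisors 156 := Nat.mem_divisors.2 ⟨hkdvd, by norm_num⟩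
  have h13 : 13 ∣ Nat.card N := hP13 ▸ Subgroup.card_dvd_of_le Subgroup.le_normalizer
  unfold Nat.ModEq at hmod
  rw [show Nat.divisors 156 = {1, 2, 3, 4, 6, 12, 13, 26, 39, 52, 78, 156} by decide] at hkmem
  simp only [mem_insert, mem_singleton] at hkmem
  rcases hkmem with e | e | e | e | e | e | e | e | e | e | e | e <;> rw [e] at hindex h13 <;> omega

/-- Sharply k-fold transitive groups with k at least six have degree at most k + 2. -/
theorem degree_high [Fintype α] : ∀ (k : ℕ) (G : Subgroup (Equiv.Perm α)) (S : Finset α), 6 ≤ k →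
    k ≤ S.card → IsSharpOn G S k → S.card = k ∨ S.card = k + 1 ∨ S.card = k + 2 := by
  intro k
  induction k with
  | zero => intro G S hk; omega
  | succ k ih =>
    intro G S hk hn h
    obtain ⟨p, hp⟩ := card_pos.1 (show 0 < S.card by omega)
    have hc := card_erase_of_mem hp
    by_cases h6 : k = 5
    · subst h6
      have := degree_five (h.fix hp) (by omega)
      have := no_six_thirteen h
      omega
    · have := ih _ _ (by omega) (by omega) (h.fix hp)
      omega

end CfsgLib.Mathieu.Sharp
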