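import Cfsg.Prelude.Def_Sporadic_a

/-!
Counting in Steiner systems: moments of intersections with an arbitrary set of points, intersection
numbers of blocks in the Mathieu parameters.
-/

set_option autoImplicit false

namespace CfsgLib.Mathieu.Steiner

open Cfsg Finset

variable {α : Type*} [Fintype α] {t k : ℕ} {B : Set (Finset α)}

/-- The blocks as a finite set. -/
noncomputable def blocks (B : Set (Finset α)) : Finset (Finset α) := B.toFinite.toFinset

theorem mem_blocks {b : Finset α} : b ∈ blocks B ↔ b ∈ B := Set.Finite.mem_toFinset _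

theorem ncard_eq : B.ncard = (blocks B).card := Set.ncard_eq_toFinset_card _ _

variable [DecidableEq α]

omit [Fintype α] in
theorem card_supersets {s b : Finset α} (hsb : s ⊆ b) {j : ℕ} (hj : s.card ≤ j) :
    ((b.powersetCard j).filter fun T => s ⊆ T).card = (b.card - s.card).choose (j - s.card) := by
  rw [← Finset.card_sdiff_of_subset hsb, ← Finset.card_powersetCard]
  refine Finset.card_bij' (fun T _ => T \ s) (fun T _ => T ∪ s) ?_ ?_ ?_ ?_
  · intro T hT
    simp only [mem_filter, mem_powersetCard] at hT ⊢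
    exact ⟨Finset.sdiff_subset_sdiff hT.1.1 le_rfl, by
      rw [Finset.card_sdiff_of_subset hT.2, hT.1.2]⟩
  · intro T hT
    simp only [mem_filter, mem_powersetCard] at hT ⊢
    refine ⟨⟨union_subset (hT.1.trans Finset.sdiff_subset) hsb, ?_⟩, subset_union_right⟩
    rw [card_union_of_disjoint (Finset.sdiff_disjoint.mono_left hT.1), hT.2]
    omega
  · intro T hT
    simp only [mem_filter] at hT
    exact Finset.sdiff_union_of_subset hT.2
  · intro T hT
    simp only [mem_powersetCard] at hT
    exact Finset.union_sdiff_cancel_right (Finset.sdiff_disjoint.mono_left hT.1)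

theorem blocks_containing_mul (hB : IsSteinerSystem t k B) {s : Finset α} (hs : s.card ≤ t) :
    ((blocks B).filter fun b => s ⊆ b).card * (k - s.card).choose (t - s.card) =
      (Fintype.card α - s.card).choose (t - s.card) := by
  rw [← Finset.card_univ, ← card_supersets (subset_univ s) hs]
  have hU : (((blocks B).filter fun b => s ⊆ b).biUnion fun b =>
      (b.powersetCard t).filter fun T => s ⊆ T) =
      (univ.powersetCard t).filter fun T => s ⊆ T := by
    ext T
    simp only [mem_biUnion, mem_filter, mem_powersetCard, subset_univ, true_and]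
    constructor
    · rintro ⟨b, -, ⟨-, h1⟩, h2⟩
      exact ⟨h1, h2⟩
    · rintro ⟨h1, h2⟩
      obtain ⟨b, ⟨hb, hTb⟩, -⟩ := hB.2 T h1
      exact ⟨b, ⟨mem_blocks.2 hb, h2.trans hTb⟩, ⟨hTb, h1⟩, h2⟩
  rw [← hU, card_biUnion]
  · rw [sum_congr rfl (g := fun _ => (k - s.card).choose (t - s.card)) fun b hb => ?_, sum_const,
      smul_eq_mul]
    simp only [mem_filter, mem_blocks] at hb
    rw [card_supersets hb.2 hs, hB.1 b hb.1]
  · intro b hb c hc hne
    refine disjoint_left.2 fun T h1 h2 => hne ?_
    simp only [coe_filter, mem_blocks, Set.mem_ofPred_eq] at hb hc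
    simp only [mem_filter, mem_powersetCard] at h1 h2
    exact (hB.2 T h1.1.2).unique ⟨hb.1, h1.1.1⟩ ⟨hc.1, h2.1.1⟩

theorem blocks_containing (hB : IsSteinerSystem t k B) {i m : ℕ} (hi : i ≤ t)
    (hpos : 0 < (k - i).choose (t - i))
    (hm : m * (k - i).choose (t - i) = (Fintype.card α - i).choose (t - i))
    {s : Finset α} (hs : s.card = i) : ((blocks B).filter fun b => s ⊆ b).card = m := by
  subst hs
  exact Nat.eq_of_mul_eq_mul_right hpos ((blocks_containing_mul hB hi).trans hm.symm)

/-- The `j`-th binomial moment of the intersections with `S`. -/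
theorem sum_choose_inter (hB : IsSteinerSystem t k B) {j m : ℕ} (hj : j ≤ t)
    (hpos : 0 < (k - j).choose (t - j))
    (hm : m * (k - j).choose (t - j) = (Fintype.card α - j).choose (t - j)) (S : Finset α) :
    ∑ c ∈ blocks B, (S ∩ c).card.choose j = S.card.choose j * m := by
  have h := Finset.sum_card_bipartiteAbove_eq_sum_card_bipartiteBelow (s := blocks B)
    (t := S.powersetCard j) (fun c T => T ⊆ c)
  have hl : ∀ c ∈ blocks B, (S ∩ c).card.choose j =
      (Finset.bipartiteAbove (fun c T => T ⊆ c) (S.powersetCard j) c).card := by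
    intro c _
    rw [← card_powersetCard]
    congr 1
    ext T
    simp only [mem_powersetCard, Finset.mem_bipartiteAbove, subset_inter_iff]
    tauto
  rw [sum_congr rfl hl, h, sum_congr rfl (g := fun _ => m) fun T hT => ?_, sum_const, smul_eq_mul,
    card_powersetCard]
  exact blocks_containing hB hj hpos hm (mem_powersetCard.1 hT).2

/-- The number of blocks meeting `S` in exactly `i` points, the blocks in `excl` left out. -/
noncomputable def nMeet (B : Set (Finset α)) (S : Finset α) (excl : Finset (Finset α)) (i : ℕ) : ℕ :=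
  (((blocks B) \ excl).filter fun c => (S ∩ c).card = i).card

theorem sum_eq_sum_nMeet (S : Finset α) (excl : Finset (Finset α)) {m : ℕ}
    (hm : ∀ c ∈ blocks B \ excl, (S ∩ c).card < m) (f : ℕ → ℕ) :
    ∑ c ∈ blocks B \ excl, f (S ∩ c).card = ∑ i ∈ range m, nMeet B S excl i * f i := by
  rw [← sum_fiberwise_of_maps_to (g := fun c => (S ∩ c).card) (t := range m)
    (fun c hc => mem_range.2 (hm c hc))]
  refine sum_congr rfl fun i _ => ?_
  rw [sum_congr rfl (g := fun _ => f i) fun c hc => by rw [(mem_filter.1 hc).2], sum_const,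
    smul_eq_mul, nMeet]

omit [Fintype α] in
theorem eq_of_t_le (hB : IsSteinerSystem t k B) {b c : Finset α} (hb : b ∈ B) (hc : c ∈ B)
    (h : t ≤ (b ∩ c).card) : b = c := by
  obtain ⟨s, hs, hcard⟩ := exists_subset_card_eq h
  exact (hB.2 s hcard).unique ⟨hb, hs.trans inter_subset_left⟩ ⟨hc, hs.trans inter_subset_right⟩

theorem inter_lt (hB : IsSteinerSystem t k B) {b c : Finset α} (hb : b ∈ B) (hc : c ∈ B)
    (h : b ≠ c) : (b ∩ c).card < t := by
  by_contra h'
  exact h (eq_of_t_le hB hb hc (Nat.le_of_not_lt h'))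

theorem moment_erase (hB : IsSteinerSystem t k B) {b : Finset α} (hb : b ∈ B) {j m : ℕ} (hj : j ≤ t)
    (hpos : 0 < (k - j).choose (t - j))
    (hm : m * (k - j).choose (t - j) = (Fintype.card α - j).choose (t - j)) :
    ∑ i ∈ range t, nMeet B b {b} i * i.choose j + k.choose j = k.choose j * m := by
  have h := sum_choose_inter hB hj hpos hm b
  rw [hB.1 b hb, ← sum_sdiff (singleton_subset_iff.2 (mem_blocks.2 hb)), sum_singleton, inter_self,
    hB.1 b hb, sum_eq_sum_nMeet b {b} (m := t) (fun c hc => ?_) (fun i => i.choose j)] at h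
  · exact h
  · simp only [mem_sdiff, mem_blocks, mem_singleton] at hc
    exact inter_lt hB hb hc.1 (Ne.symm hc.2)

theorem nMeet_pos {S c : Finset α} {excl : Finset (Finset α)} (hc : c ∈ B) (hne : c ∉ excl) {i : ℕ}
    (hi : (S ∩ c).card = i) : 0 < nMeet B S excl i :=
  card_pos.2 ⟨c, by simp [mem_blocks, hc, hne, hi]⟩

theorem inter_card_ne (S : Finset α) {c : Finset α} {excl : Finset (Finset α)} (hc : c ∈ B)
    (hne : c ∉ excl) {i : ℕ} (h0 : nMeet B S excl i = 0) : (S ∩ c).card ≠ i := fun h =>
  Nat.lt_irrefl 0 (h0 ▸ nMeet_pos hc hne h)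

theorem ncard_mul_choose (hB : IsSteinerSystem t k B) :
    B.ncard * Nat.choose k t = Nat.choose (Fintype.card α) t := by
  have h := blocks_containing_mul hB (s := ∅) (Nat.zero_le _)
  simpa [ncard_eq] using h

/-! ### S(5,8,24) -/

section s24
variable (hα : Fintype.card α = 24) (hB : IsSteinerSystem 5 8 B)
include hα hB

theorem nMeet_24 {b : Finset α} (hb : b ∈ B) :
    nMeet B b {b} 0 = 30 ∧ nMeet B b {b} 1 = 0 ∧ nMeet B b {b} 2 = 448 ∧ nMeet B b {b} 3 = 0 ∧
      nMeet B b {b} 4 = 280 := by
  have h0 := moment_erase hB hb (j := 0) (m := 759) (by norm_num) (by decide) (by rw [hα]; decide)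
  have h1 := moment_erase hB hb (j := 1) (m := 253) (by norm_num) (by decide) (by rw [hα]; decide)
  have h2 := moment_erase hB hb (j := 2) (m := 77) (by norm_num) (by decide) (by rw [hα]; decide)
  have h3 := moment_erase hB hb (j := 3) (m := 21) (by norm_num) (by decide) (by rw [hα]; decide)
  have h4 := moment_erase hB hb (j := 4) (m := 5) (by norm_num) (by decide) (by rw [hα]; decide)
  simp only [sum_range_succ, sum_range_zero, Nat.choose, zero_add, mul_zero, mul_one, Nat.reduceAdd] at h0 h1 h2 h3 h4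
  omega

theorem inter_24 {b c : Finset α} (hb : b ∈ B) (hc : c ∈ B) (hbc : b ≠ c) :
    (b ∩ c).card = 0 ∨ (b ∩ c).card = 2 ∨ (b ∩ c).card = 4 := by
  obtain ⟨-, h1, -, h3, -⟩ := nMeet_24 hα hB hb
  have hne : c ∉ ({b} : Finset (Finset α)) := by simpa using Ne.symm hbc
  have := inter_lt hB hb hc hbc
  have := inter_card_ne b hc hne h1
  have := inter_card_ne b hc hne h3
  omega

theorem even_inter_24 {b c : Finset α} (hb : b ∈ B) (hc : c ∈ B) : Even (b ∩ c).card := by
  by_cases h : b = c
  · rw [h, inter_self, hB.1 c hc]; exact ⟨4, rfl⟩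
  · rcases inter_24 hα hB hb hc h with h | h | h <;> rw [h] <;> decide

/-- An 8-set that every block meets evenly is a block. -/
theorem mem_of_even_inter {S : Finset α} (hS : S.card = 8) (hev : ∀ c ∈ B, Even (S ∩ c).card) :
    S ∈ B := by
  have hlt : ∀ c ∈ blocks B \ ∅, (S ∩ c).card < 9 := fun c _ =>
    Nat.lt_succ_of_le (hS ▸ card_le_card inter_subset_left)
  have hm : ∀ j m : ℕ, j ≤ 5 → 0 < (8 - j).choose (5 - j) →
      m * (8 - j).choose (5 - j) = (24 - j).choose (5 - j) →
      ∑ i ∈ range 9, nMeet B S ∅ i * i.choose j = (8 : ℕ).choose j * m := by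
    intro j m hj hp hm
    have h := sum_choose_inter hB hj hp (by rw [hα]; exact hm) S
    rwa [hS, show blocks B = blocks B \ ∅ from (sdiff_empty).symm, sum_eq_sum_nMeet S ∅ hlt
      (fun i => i.choose j)] at h
  have hodd : ∀ i, i % 2 = 1 → nMeet B S ∅ i = 0 := fun i hi => by
    refine card_eq_zero.2 (filter_eq_empty_iff.2 fun c hc h => ?_)
    simp only [mem_sdiff, mem_blocks, notMem_empty, not_false_eq_true, and_true] at hc
    have := Nat.even_iff.1 (h ▸ hev c hc)
    omega
  have h3 := hm 3 21 (by norm_num) (by decide) (by decide)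
  have h4 := hm 4 5 (by norm_num) (by decide) (by decide)
  have h5 := hm 5 1 (by norm_num) (by decide) (by decide)
  simp only [sum_range_succ, sum_range_zero, Nat.choose, zero_add, Nat.reduceAdd, mul_zero, mul_one,
    hodd 1 rfl, hodd 3 rfl, hodd 5 rfl, hodd 7 rfl, zero_mul, add_zero] at h3 h4 h5
  have h8 : nMeet B S ∅ 8 ≠ 0 := by omega
  obtain ⟨c, hc⟩ := card_pos.1 (Nat.pos_of_ne_zero h8)
  simp only [mem_filter, mem_sdiff, mem_blocks, notMem_empty, not_false_eq_true, and_true] at hc
  have hSc : S ∩ c = S := eq_of_subset_of_card_le inter_subset_left (by omega)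
  have : S = c := eq_of_subset_of_card_le (inter_eq_left.1 hSc) (by rw [hS, hB.1 c hc.1])
  exact this ▸ hc.1

theorem symmDiff_24 {b c : Finset α} (hb : b ∈ B) (hc : c ∈ B) (h4 : (b ∩ c).card = 4) :
    symmDiff b c ∈ B := by
  refine mem_of_even_inter hα hB ?_ fun e he => ?_
  · rw [symmDiff, Finset.sup_eq_union, card_union_of_disjoint disjoint_sdiff_sdiff, Finset.card_sdiff,
      Finset.card_sdiff, inter_comm c b, h4, hB.1 b hb, hB.1 c hc]
  · have h1 := even_inter_24 hα hB he hb
    have h2 := even_inter_24 hα hB he hc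
    have key : (symmDiff b c ∩ e).card + 2 * (e ∩ b ∩ (e ∩ c)).card = (e ∩ b).card + (e ∩ c).card := by
      rw [← card_union_add_card_inter (e ∩ b) (e ∩ c), two_mul, ← add_assoc]
      congr 1
      rw [← card_union_of_disjoint]
      · congr 1
        ext x
        simp only [mem_union, mem_inter, mem_symmDiff]
        tauto
      · refine disjoint_left.2 fun x hx hx' => ?_
        simp only [mem_inter, mem_symmDiff] at hx hx'
        tauto
    rw [Nat.even_iff] at h1 h2 ⊢
    omega

theorem disjoint_count_24 {b : Finset α} (hb : b ∈ B) :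
    {c : Finset α | c ∈ B ∧ Disjoint b c}.ncard = 30 := by
  rw [← (nMeet_24 hα hB hb).1, nMeet, ← Set.ncard_coe_finset]
  congr 1
  ext c
  simp only [Set.mem_ofPred_eq, coe_filter, mem_sdiff, mem_blocks, mem_singleton, card_eq_zero,
    disjoint_iff_inter_eq_empty]
  refine ⟨fun h => ⟨⟨h.1, fun e => ?_⟩, h.2⟩, fun h => ⟨h.1.1, h.2⟩⟩
  have := hB.1 b hb
  rw [e, inter_self] at h
  simp [h.2] at this

end s24

/-! ### S(4,7,23), S(3,6,22), S(5,6,12) -/

theorem inter_23 (hα : Fintype.card α = 23) (hB : IsSteinerSystem 4 7 B) {b c : Finset α}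
    (hb : b ∈ B) (hc : c ∈ B) (hbc : b ≠ c) : (b ∩ c).card = 1 ∨ (b ∩ c).card = 3 := by
  have h0 := moment_erase hB hb (j := 0) (m := 253) (by norm_num) (by decide) (by rw [hα]; decide)
  have h1 := moment_erase hB hb (j := 1) (m := 77) (by norm_num) (by decide) (by rw [hα]; decide)
  have h2 := moment_erase hB hb (j := 2) (m := 21) (by norm_num) (by decide) (by rw [hα]; decide)
  have h3 := moment_erase hB hb (j := 3) (m := 5) (by norm_num) (by decide) (by rw [hα]; decide)
  simp only [sum_range_succ, sum_range_zero, Nat.choose, zero_add, mul_zero, mul_one, Nat.reduceAdd]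
    at h0 h1 h2 h3
  have e0 : nMeet B b {b} 0 = 0 := by omega
  have e2 : nMeet B b {b} 2 = 0 := by omega
  have hne : c ∉ ({b} : Finset (Finset α)) := by simpa using Ne.symm hbc
  have := inter_lt hB hb hc hbc
  have := inter_card_ne b hc hne e0
  have := inter_card_ne b hc hne e2
  omega

theorem nMeet_22 (hα : Fintype.card α = 22) (hB : IsSteinerSystem 3 6 B) {b : Finset α} (hb : b ∈ B) :
    nMeet B b {b} 0 = 16 ∧ nMeet B b {b} 1 = 0 ∧ nMeet B b {b} 2 = 60 := by
  have h0 := moment_erase hB hb (j := 0) (m := 77) (by norm_num) (by decide) (by rw [hα]; decide)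
  have h1 := moment_erase hB hb (j := 1) (m := 21) (by norm_num) (by decide) (by rw [hα]; decide)
  have h2 := moment_erase hB hb (j := 2) (m := 5) (by norm_num) (by decide) (by rw [hα]; decide)
  simp only [sum_range_succ, sum_range_zero, Nat.choose, zero_add, mul_zero, mul_one, Nat.reduceAdd]
    at h0 h1 h2
  omega

theorem inter_22 (hα : Fintype.card α = 22) (hB : IsSteinerSystem 3 6 B) {b c : Finset α}
    (hb : b ∈ B) (hc : c ∈ B) (hbc : b ≠ c) : (b ∩ c).card = 0 ∨ (b ∩ c).card = 2 := by
  have hne : c ∉ ({b} : Finset (Finset α)) := by simpa using Ne.symm hbc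
  have := inter_lt hB hb hc hbc
  have := inter_card_ne b hc hne (nMeet_22 hα hB hb).2.1
  omega

theorem compl_mem_12 (hα : Fintype.card α = 12) (hB : IsSteinerSystem 5 6 B) {b : Finset α}
    (hb : b ∈ B) : bᶜ ∈ B := by
  have h0 := moment_erase hB hb (j := 0) (m := 132) (by norm_num) (by decide) (by rw [hα]; decide)
  have h1 := moment_erase hB hb (j := 1) (m := 66) (by norm_num) (by decide) (by rw [hα]; decide)
  have h2 := moment_erase hB hb (j := 2) (m := 30) (by norm_num) (by decide) (by rw [hα]; decide)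
  have h3 := moment_erase hB hb (j := 3) (m := 12) (by norm_num) (by decide) (by rw [hα]; decide)
  have h4 := moment_erase hB hb (j := 4) (m := 4) (by norm_num) (by decide) (by rw [hα]; decide)
  simp only [sum_range_succ, sum_range_zero, Nat.choose, zero_add, mul_zero, mul_one, Nat.reduceAdd]
    at h0 h1 h2 h3 h4
  have e0 : nMeet B b {b} 0 ≠ 0 := by omega
  obtain ⟨c, hc⟩ := card_pos.1 (Nat.pos_of_ne_zero e0)
  simp only [mem_filter, mem_sdiff, mem_blocks, mem_singleton, card_eq_zero] at hc
  have e : c = bᶜ := eq_of_subset_of_card_le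
    (fun x hx => mem_compl.2 fun h => notMem_empty x (hc.2 ▸ mem_inter.2 ⟨h, hx⟩))
    (by rw [card_compl, hα, hB.1 b hb, hB.1 c hc.1.1])
  exact e ▸ hc.1.1

omit [Fintype α] in
theorem derived (hB : IsSteinerSystem (t + 1) (k + 1) B) (p : α) :
    IsSteinerSystem t k
      {b' : Finset {a : α // a ≠ p} | ∃ b ∈ B, p ∈ b ∧ b' = Finset.subtype (fun a => a ≠ p) b} := by
  constructor
  · rintro _ ⟨b, hb, hp, rfl⟩
    rw [card_subtype, filter_ne', card_erase_of_mem hp, hB.1 b hb, Nat.add_sub_cancel]
  · intro s hs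
    have hnot : p ∉ s.map (Function.Embedding.subtype _) := by simp
    have hc : (insert p (s.map (Function.Embedding.subtype fun a => a ≠ p))).card = t + 1 := by
      rw [card_insert_of_notMem hnot, card_map, hs]
    obtain ⟨b, ⟨hb, hsb⟩, huniq⟩ := hB.2 _ hc
    rw [insert_subset_iff] at hsb
    refine ⟨_, ⟨⟨b, hb, hsb.1, rfl⟩, fun x hx => ?_⟩, ?_⟩
    · exact mem_subtype.2 (hsb.2 (mem_map.2 ⟨x, hx, rfl⟩))
    · rintro _ ⟨⟨c, hc, hpc, rfl⟩, hsc⟩
      congr 1
      refine huniq c ⟨hc, insert_subset_iff.2 ⟨hpc, fun x hx => ?_⟩⟩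
      obtain ⟨y, hy, rfl⟩ := mem_map.1 hx
      exact mem_subtype.1 (hsc hy)

end CfsgLib.Mathieu.Steiner
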