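import Cfsg.Agent.Mathieu.Code
import Cfsg.Agent.Mathieu.Steiner

/-!
How the octads meet a dodecad; the Steiner system S(5,6,12) cut out on a dodecad.
-/

set_option autoImplicit false

namespace CfsgLib.Mathieu

open Cfsg Finset

theorem card_golayPt : Fintype.card GolayPt = 24 := by simp [ZMod.card]

theorem octad_dodecad_nMeet {d : Finset GolayPt} (hd : d ∈ dodecads) :
    Steiner.nMeet octads d ∅ 2 = 132 ∧ Steiner.nMeet octads d ∅ 4 = 495 ∧
      Steiner.nMeet octads d ∅ 6 = 132 ∧ ∀ o ∈ octads, (d ∩ o).card ≤ 6 := by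
  have hB := octads_isSteinerSystem
  have hev : ∀ o ∈ octads, (d ∩ o).card % 2 = 0 := fun o ho =>
    Nat.even_iff.1 (supports_inter_even hd.1 ho.1)
  have hne : ∀ e : Finset GolayPt, e ∈ dodecads → ∀ o ∈ octads, (e ∩ o).card ≠ 8 := by
    intro e he o ho h
    have h1 := card_symmDiff_add e o
    have h2 := supports_card (supports_symmDiff he.1 ho.1)
    rw [he.2, ho.2, h] at h1
    omega
  have hlt : ∀ o ∈ Steiner.blocks octads \ ∅, (d ∩ o).card < 8 := fun o ho => by
    rw [sdiff_empty, Steiner.mem_blocks] at ho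
    have := hne d hd o ho
    have : (d ∩ o).card ≤ 8 := ho.2 ▸ card_le_card inter_subset_right
    omega
  have hm : ∀ j m : ℕ, j ≤ 5 → 0 < (8 - j).choose (5 - j) →
      m * (8 - j).choose (5 - j) = (24 - j).choose (5 - j) →
      ∑ i ∈ range 8, Steiner.nMeet octads d ∅ i * i.choose j = (12 : ℕ).choose j * m := by
    intro j m hj hp hm
    have h := Steiner.sum_choose_inter hB hj hp (by rw [card_golayPt]; exact hm) d
    rwa [hd.2, show Steiner.blocks octads = Steiner.blocks octads \ ∅ from (sdiff_empty).symm,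
      Steiner.sum_eq_sum_nMeet d ∅ hlt (fun i => i.choose j)] at h
  have hodd : ∀ i, i % 2 = 1 → Steiner.nMeet octads d ∅ i = 0 := fun i hi => by
    refine card_eq_zero.2 (filter_eq_empty_iff.2 fun o ho h => ?_)
    rw [sdiff_empty, Steiner.mem_blocks] at ho
    have := hev o ho
    omega
  have h0 : Steiner.nMeet octads d ∅ 0 = 0 := by
    refine card_eq_zero.2 (filter_eq_empty_iff.2 fun o ho h => ?_)
    rw [sdiff_empty, Steiner.mem_blocks] at ho
    have hc : dᶜ ∈ dodecads := ⟨supports_compl hd.1, by rw [card_compl, card_golayPt, hd.2]⟩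
    refine hne _ hc o ho ?_
    rw [inter_comm, ← sdiff_eq_inter_compl, card_sdiff, h]
    exact ho.2
  have h5 := hm 5 1 (by norm_num) (by decide) (by decide)
  have h1 := hm 1 253 (by norm_num) (by decide) (by decide)
  have h2 := hm 2 77 (by norm_num) (by decide) (by decide)
  simp only [sum_range_succ, sum_range_zero, Nat.choose, zero_add, Nat.reduceAdd, Nat.reduceMul,
    mul_zero, mul_one, hodd 1 rfl, hodd 3 rfl, hodd 5 rfl, hodd 7 rfl, h0, zero_mul, add_zero]
    at h5 h1 h2
  refine ⟨by omega, by omega, by omega, fun o ho => ?_⟩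
  have h := hlt o (by rw [sdiff_empty, Steiner.mem_blocks]; exact ho)
  have := hev o ho
  omega

theorem ncard_octads_meeting {d : Finset GolayPt} (i : ℕ) :
    {o : Finset GolayPt | o ∈ octads ∧ (o ∩ d).card = i}.ncard = Steiner.nMeet octads d ∅ i := by
  rw [Steiner.nMeet, ← Set.ncard_coe_finset]
  congr 1
  ext o
  simp [Steiner.mem_blocks, inter_comm]

theorem dodecad_isSteinerSystem {d : Finset GolayPt} (hd : d ∈ dodecads) :
    IsSteinerSystem 5 6 {h : Finset {p : GolayPt // p ∈ d} |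
      ∃ o ∈ octads, (o ∩ d).card = 6 ∧ h = Finset.subtype (fun p => p ∈ d) o} := by
  constructor
  · rintro _ ⟨o, -, h6, rfl⟩
    rw [card_subtype, filter_mem_eq_inter, h6]
  · intro s hs
    obtain ⟨o, ⟨ho, hso⟩, huniq⟩ := octads_isSteinerSystem.2 (s.map (Function.Embedding.subtype _))
      (by rw [card_map, hs])
    have h6 : (o ∩ d).card = 6 := by
      have h1 : 5 ≤ (o ∩ d).card := by
        rw [← hs, ← card_map (Function.Embedding.subtype fun p => p ∈ d)]
        refine card_le_card fun x hx => mem_inter.2 ⟨hso hx, ?_⟩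
        obtain ⟨y, -, rfl⟩ := mem_map.1 hx
        exact y.2
      have h2 := (octad_dodecad_nMeet hd).2.2.2 o ho
      rw [inter_comm] at h2
      have h3 := Nat.even_iff.1 (supports_inter_even ho.1 hd.1)
      omega
    refine ⟨_, ⟨⟨o, ho, h6, rfl⟩, fun x hx => mem_subtype.2 (hso (mem_map.2 ⟨x, hx, rfl⟩))⟩, ?_⟩
    rintro _ ⟨⟨o', ho', -, rfl⟩, hso'⟩
    congr 1
    refine huniq o' ⟨ho', fun x hx => ?_⟩
    obtain ⟨y, hy, rfl⟩ := mem_map.1 hx
    exact mem_subtype.1 (hso' hy)

end CfsgLib.Mathieu
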