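import Cfsg.Agent.Mathieu.Steiner12
import Cfsg.Agent.Mathieu.DodecadOctads
import Cfsg.Agent.Mathieu.SteinerAut

/-!
Automorphisms of S(5,6,12): the group is `Cfsg.Spor.M12`.
-/

set_option autoImplicit false

namespace CfsgLib.Mathieu.S12

open Cfsg Finset
open scoped Pointwise

/-- The point of a label. -/
def pos (i : Fin 12) : GolayPt := pt (pos12.getD i.val 0)

theorem pos_injective : Function.Injective pos := by decide +kernel

theorem image_pos_univ : (univ : Finset (Fin 12)).image pos = setOf24 m12Dodecad := by decide +kernel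

theorem pos_mem (i : Fin 12) : pos i ∈ setOf24 m12Dodecad := by
  rw [← image_pos_univ]; exact mem_image_of_mem _ (mem_univ i)

/-- The labels, as the points of the dodecad of squares. -/
noncomputable def posEquiv : Fin 12 ≃ {p // p ∈ setOf24 m12Dodecad} :=
  Equiv.ofBijective (fun i => ⟨pos i, pos_mem i⟩)
    ⟨fun i j h => pos_injective (congrArg Subtype.val h), fun p => by
      obtain ⟨i, -, hi⟩ := mem_image.1 (show p.1 ∈ (univ : Finset (Fin 12)).image pos by
        rw [image_pos_univ]; exact p.2)
      exact ⟨i, Subtype.ext hi⟩⟩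

theorem squareDodecad_dodecad : setOf24 m12Dodecad ∈ dodecads := squareDodecad_eq ▸ squareDodecad_mem

theorem mem_std12_iff (s : Finset (Fin 12)) :
    s ∈ std12 ↔ s.card = 6 ∧ ∃ o ∈ octads, o ∩ setOf24 m12Dodecad = s.image pos := by
  set d := setOf24 m12Dodecad
  set S : Finset (Finset (Fin 12)) :=
    ((Steiner.blocks octads).filter fun o => (o ∩ d).card = 6).image
      fun o => univ.filter fun i => pos i ∈ o with hS
  have hcut : ∀ o : Finset GolayPt, (univ.filter fun i => pos i ∈ o).image pos = o ∩ d := by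
    intro o
    ext p
    simp only [mem_image, mem_filter, mem_univ, true_and, mem_inter]
    constructor
    · rintro ⟨i, hi, rfl⟩; exact ⟨hi, pos_mem i⟩
    · rintro ⟨hp, hd⟩
      rw [show d = (univ : Finset (Fin 12)).image pos from image_pos_univ.symm, mem_image] at hd
      obtain ⟨i, -, rfl⟩ := hd
      exact ⟨i, hp, rfl⟩
  have hSmem : ∀ s, s ∈ S ↔ s.card = 6 ∧ ∃ o ∈ octads, o ∩ d = s.image pos := by
    intro s
    simp only [hS, mem_image, mem_filter, Steiner.mem_blocks]
    constructor
    · rintro ⟨o, ⟨ho, h6⟩, rfl⟩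
      rw [← card_image_of_injective _ pos_injective, hcut]
      exact ⟨h6, o, ho, rfl⟩
    · rintro ⟨h6, o, ho, he⟩
      refine ⟨o, ⟨ho, by rw [he, card_image_of_injective _ pos_injective, h6]⟩, ?_⟩
      exact image_injective pos_injective (by rw [hcut, he])
  have hcardS : S.card ≤ 132 := by
    refine card_image_le.trans ?_
    obtain ⟨-, -, h6, -⟩ := octad_dodecad_nMeet squareDodecad_dodecad
    rw [← h6, Steiner.nMeet, sdiff_empty]
    exact le_of_eq (by congr 1; ext o; simp [d, inter_comm])
  have hsub : std12 ⊆ S := by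
    intro s hs
    simp only [std12, List.mem_toFinset, List.mem_map] at hs
    obtain ⟨h, hh, rfl⟩ := hs
    rw [hSmem]
    have key : ∀ h ∈ hexMasks, (set12 h).card = 6 ∧ ∃ o ∈ hexOctads,
        (isCode o && wt o == 8) = true ∧ setOf24 o ∩ setOf24 m12Dodecad = (set12 h).image pos := by
      have e : (hexMasks.zip hexOctads).all (fun x =>
          (isCode x.2 && wt x.2 == 8) && decide ((set12 x.1).card = 6) &&
            decide (setOf24 x.2 ∩ setOf24 m12Dodecad = (set12 x.1).image pos)) = true := by
        decide +kernel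
      intro h hh
      obtain ⟨n, hn, rfl⟩ := List.getElem_of_mem hh
      have hn' : n < hexOctads.length := by
        rw [show hexOctads.length = hexMasks.length from by decide +kernel]; exact hn
      have := List.all_eq_true.1 e (hexMasks[n], hexOctads[n]) (by
        rw [List.mem_iff_getElem]
        exact ⟨n, by rw [List.length_zip]; omega, List.getElem_zip⟩)
      simp only [Bool.and_eq_true, decide_eq_true_eq] at this
      exact ⟨this.1.2, _, List.getElem_mem _, by simp only [Bool.and_eq_true]; exact this.1.1, this.2⟩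
    obtain ⟨h6, o, -, ho, he⟩ := key h hh
    simp only [Bool.and_eq_true, beq_iff_eq] at ho
    exact ⟨h6, _, setOf24_mem_wordsOfWeight ho.1 ho.2, he⟩
  rw [eq_of_subset_of_card_le hsub (by rw [card_std12]; exact hcardS), hSmem]

theorem std12_isSteinerSystem : IsSteinerSystem 5 6 (std12 : Set (Finset (Fin 12))) := by
  refine ⟨fun b hb => ((mem_std12_iff b).1 (mem_coe.1 hb)).1, fun s hs => ?_⟩
  set d := setOf24 m12Dodecad
  obtain ⟨o, ⟨ho, hso⟩, huniq⟩ := octads_isSteinerSystem.2 (s.image pos)
    (by rw [card_image_of_injective _ pos_injective, hs])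
  have hsd : s.image pos ⊆ o ∩ d := subset_inter hso fun p hp => by
    obtain ⟨i, -, rfl⟩ := mem_image.1 hp; exact pos_mem i
  have h6 : (o ∩ d).card = 6 := by
    have h1 := card_le_card hsd
    rw [card_image_of_injective _ pos_injective, hs] at h1
    have h2 : (o ∩ d).card ≤ 6 := by
      rw [inter_comm]; exact (octad_dodecad_nMeet squareDodecad_dodecad).2.2.2 o ho
    have h3 : (o ∩ d).card % 2 = 0 :=
      Nat.even_iff.1 (supports_inter_even ho.1 squareDodecad_dodecad.1)
    omega
  have hcut : (univ.filter fun i => pos i ∈ o).image pos = o ∩ d := by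
    ext p
    simp only [mem_image, mem_filter, mem_univ, true_and, mem_inter]
    constructor
    · rintro ⟨i, hi, rfl⟩; exact ⟨hi, pos_mem i⟩
    · rintro ⟨hp, hd⟩
      rw [show d = (univ : Finset (Fin 12)).image pos from image_pos_univ.symm, mem_image] at hd
      obtain ⟨i, -, rfl⟩ := hd
      exact ⟨i, hp, rfl⟩
  refine ⟨univ.filter fun i => pos i ∈ o, ⟨mem_coe.2 ((mem_std12_iff _).2 ⟨?_, o, ho, hcut.symm⟩),
    fun i hi => mem_filter.2 ⟨mem_univ _, hso (mem_image_of_mem _ hi)⟩⟩, ?_⟩
  · rw [← card_image_of_injective _ pos_injective, hcut, h6]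
  · rintro b ⟨hb, hsb⟩
    obtain ⟨-, o', ho', he⟩ := (mem_std12_iff b).1 (mem_coe.1 hb)
    have : o' = o := huniq o' ⟨ho', (image_subset_image hsb).trans (he ▸ inter_subset_left)⟩
    subst this
    exact image_injective pos_injective (by rw [hcut, he])

theorem test_perms : ∀ l ∈ ([6, 7, 8, 9, 10, 11] : List (Fin 12)).permutations', l ≠ [6, 7, 8, 9, 10, 11] →
    ∃ m ∈ testMasks, hexBits.testBit ((List.range 12).foldr
      (fun i acc => if m.testBit i then
        acc ||| 2 ^ (if i < 6 then i else (l.getD (i - 6) 0).val) else acc) 0) = false := by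
  decide +kernel

theorem hexBits_spec : ∀ h ∈ hexMasks, hexBits.testBit h = true := by decide +kernel

theorem std12_fix_five {g : Equiv.Perm (Fin 12)}
    (hg : g ∈ setSystemAut (std12 : Set (Finset (Fin 12)))) (hfix : ∀ i : Fin 12, i.val < 5 → g i = i) :
    g = 1 := by
  have hB := std12_isSteinerSystem
  have h6 : g 5 = 5 := by
    obtain ⟨h, hh, hsix⟩ : ∃ h ∈ hexMasks, set12 h = ({0, 1, 2, 3, 4, 5} : Finset (Fin 12)) := by
      decide +kernel
    have hb : ({0, 1, 2, 3, 4, 5} : Finset (Fin 12)) ∈ (std12 : Set (Finset (Fin 12))) := by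
      rw [← hsix]; simp [std12]; exact ⟨h, hh, rfl⟩
    have himg := setSystemAut_image_mem hg hb
    have he : ({0, 1, 2, 3, 4, 5} : Finset (Fin 12)).image g = {0, 1, 2, 3, 4, 5} := by
      refine Steiner.eq_of_t_le hB himg hb ?_
      refine le_of_eq_of_le (show 5 = ({0, 1, 2, 3, 4} : Finset (Fin 12)).card by decide) (card_le_card ?_)
      intro i hi
      have hlt : i.val < 5 := by revert hi; revert i; decide
      refine mem_inter.2 ⟨mem_image.2 ⟨i, ?_, hfix i hlt⟩, ?_⟩ <;> (revert hi; revert i; decide)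
    have h5 : g 5 ∈ ({0, 1, 2, 3, 4, 5} : Finset (Fin 12)) :=
      he ▸ mem_image_of_mem _ (by decide)
    have hne : ∀ i : Fin 12, i.val < 5 → g 5 ≠ i := fun i hi e => by
      rw [← hfix i hi] at e
      have := g.injective e
      subst this
      exact absurd hi (by decide)
    exact (by decide : ∀ x : Fin 12, x ∈ ({0, 1, 2, 3, 4, 5} : Finset (Fin 12)) →
      (∀ i : Fin 12, i.val < 5 → x ≠ i) → x = 5) _ h5 hne
  have hfix6 : ∀ i : Fin 12, i.val < 6 → g i = i := by
    intro i hi
    by_cases h : i.val < 5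
    · exact hfix i h
    · rw [show i = 5 from Fin.ext (by simp; omega)]; exact h6
  have hge : ∀ i : Fin 12, 6 ≤ i.val → 6 ≤ (g i).val := fun i hi => by
    by_contra h
    have := g.injective (hfix6 (g i) (by omega))
    rw [this] at h
    omega
  set l : List (Fin 12) := ([6, 7, 8, 9, 10, 11] : List (Fin 12)).map g with hl
  have hlmem : l ∈ ([6, 7, 8, 9, 10, 11] : List (Fin 12)).permutations' := by
    rw [List.mem_permutations']
    have hnd : l.Nodup := List.Nodup.map g.injective (by decide)
    refine (List.perm_ext_iff_of_nodup hnd (by decide)).2 fun a => ?_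
    have hs : l.toFinset = ([6, 7, 8, 9, 10, 11] : List (Fin 12)).toFinset := by
      refine eq_of_subset_of_card_le (fun x hx => ?_) (by
        rw [List.toFinset_card_of_nodup hnd, hl, List.length_map]; decide)
      rw [List.mem_toFinset, hl, List.mem_map] at hx
      obtain ⟨i, hi, rfl⟩ := hx
      have h6le : 6 ≤ i.val := (by decide : ∀ i ∈ ([6, 7, 8, 9, 10, 11] : List (Fin 12)), 6 ≤ i.val) i hi
      exact (by decide : ∀ y : Fin 12, 6 ≤ y.val → y ∈ ([6, 7, 8, 9, 10, 11] : List (Fin 12)).toFinset)
        _ (hge i h6le)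
    simpa using Finset.ext_iff.1 hs a
  have hget : ∀ i : Fin 12, (if i.val < 6 then i.val else (l.getD (i.val - 6) 0).val) = (g i).val := by
    intro i
    split
    · rename_i h; rw [hfix6 i h]
    · rename_i h
      rw [hl]
      have hk : ∀ k < 6, ((([6, 7, 8, 9, 10, 11] : List (Fin 12)).map g).getD k 0) = g (Fin.ofNat 12 (k + 6)) := by
        intro k hk
        interval_cases k <;> rfl
      rw [hk _ (by omega)]
      congr 2
      exact Fin.ext (by simp; omega)
  by_cases hid : l = [6, 7, 8, 9, 10, 11]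
  · refine Equiv.ext fun i => Fin.ext ?_
    rw [← hget i, hid]
    exact (by decide : ∀ i : Fin 12, (if i.val < 6 then i.val else
      ((([6, 7, 8, 9, 10, 11] : List (Fin 12))).getD (i.val - 6) 0).val) = i.val) i
  exfalso
  obtain ⟨m, hm, hbit⟩ := test_perms l hlmem hid
  have hmhex : m ∈ hexMasks := (by decide +kernel : ∀ m ∈ testMasks, m ∈ hexMasks) m hm
  have himg := setSystemAut_image_mem hg
    (show set12 m ∈ (std12 : Set (Finset (Fin 12))) by simp [std12]; exact ⟨m, hmhex, rfl⟩)
  simp only [std12, mem_coe, List.mem_toFinset, List.mem_map] at himg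
  obtain ⟨h, hh, he⟩ := himg
  set M := (List.range 12).foldr (fun i acc => if m.testBit i then
    acc ||| 2 ^ (if i < 6 then i else (l.getD (i - 6) 0).val) else acc) 0 with hM
  have htb : ∀ (L : List ℕ) (k : ℕ), ((L.foldr (fun i acc => if m.testBit i then
      acc ||| 2 ^ (if i < 6 then i else (l.getD (i - 6) 0).val) else acc) 0).testBit k = true ↔
      ∃ i ∈ L, m.testBit i ∧ (if i < 6 then i else (l.getD (i - 6) 0).val) = k) := by
    intro L k
    induction L with
    | nil => simp
    | cons a L ih =>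
      simp only [List.foldr_cons, List.mem_cons, exists_eq_or_imp]
      by_cases ha : m.testBit a
      · rw [if_pos ha, Nat.testBit_or, Bool.or_eq_true, ih, Nat.testBit_two_pow]
        simp only [decide_eq_true_eq, ha, true_and]
        exact or_comm
      · rw [if_neg ha, ih]
        simp [ha]
  have hMlt : M < 4096 := by
    refine Nat.lt_pow_two_of_testBit (n := 12) M fun k hk => ?_
    by_contra hne
    rw [Bool.not_eq_false, htb] at hne
    obtain ⟨i, hi, -, he⟩ := hne
    rw [List.mem_range] at hi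
    have := hget ⟨i, hi⟩
    simp only at this
    omega
  have : M = h := by
    refine set12_injOn hMlt (hexMasks_lt h hh) ?_
    rw [he]
    ext y
    have hMb : M.testBit y.val = true ↔ _ := htb _ y.val
    simp only [set12, mem_filter, mem_univ, true_and, mem_image, hMb, List.mem_range]
    constructor
    · rintro ⟨i, hi, hmi, hy⟩
      exact ⟨⟨i, hi⟩, hmi, Fin.ext (by rw [← hget ⟨i, hi⟩]; exact hy)⟩
    · rintro ⟨i, hmi, rfl⟩
      exact ⟨i.val, i.isLt, hmi, hget i⟩
  rw [this, hexBits_spec h hh] at hbit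
  exact absurd hbit (by simp)

/-- The automorphisms of the standard system form `Spor.M12`. -/
theorem autStd12_equiv : ∃ Φ : Spor.M12 ≃* setSystemAut (std12 : Set (Finset (Fin 12))),
    ∀ g i, pos ((Φ g : Equiv.Perm (Fin 12)) i) = (g : Equiv.Perm GolayPt) (pos i) := by
  have hinv : ∀ g ∈ Spor.M12, ∀ x, x ∈ setOf24 m12Dodecad ↔ g x ∈ setOf24 m12Dodecad := fun g hg x =>
    ⟨SporM12_preserves hg, fun h => not_not.1 fun hx => SporM12_preserves_compl hg hx h⟩
  let r : Spor.M12 →* Equiv.Perm (Fin 12) :=
    { toFun := fun g => posEquiv.symm.permCongrHom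
        (g.1.subtypePerm fun x => (hinv g.1 g.2 x).symm)
      map_one' := Equiv.ext fun i => by simp [Equiv.permCongrHom]
      map_mul' := fun a b => Equiv.ext fun i => by simp [Equiv.permCongrHom] }
  have hr : ∀ (g : Spor.M12) i, pos (r g i) = (g : Equiv.Perm GolayPt) (pos i) := fun g i => by
    have h := congrArg Subtype.val
      (posEquiv.apply_symm_apply ((g.1.subtypePerm fun x => (hinv g.1 g.2 x).symm) (posEquiv i)))
    exact h
  have hmem : ∀ g, r g ∈ setSystemAut (std12 : Set (Finset (Fin 12))) := fun g => by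
    refine mem_setSystemAut_of_image fun b hb => mem_coe.2 ((mem_std12_iff _).2 ?_)
    obtain ⟨h6, o, ho, he⟩ := (mem_std12_iff b).1 (mem_coe.1 hb)
    obtain ⟨hg24, hgd⟩ := mem_SporM12.1 g.2
    refine ⟨by rw [card_image_of_injective _ (r g).injective, h6], _, octad_image hg24 ho, ?_⟩
    conv_lhs => rw [← hgd, ← image_inter _ _ (Equiv.injective _), he]
    rw [image_image, image_image]
    exact image_congr fun i _ => (hr g i).symm
  have hinj : Function.Injective r := fun a b h => by
    have h1 : ∀ i, (a : Equiv.Perm GolayPt) (pos i) = (b : Equiv.Perm GolayPt) (pos i) := fun i => by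
      rw [← hr, ← hr, h]
    have := SporM12_sharp (g := (b : Equiv.Perm GolayPt)⁻¹ * a) (mul_mem (inv_mem b.2) a.2)
      (fun k : Fin 5 => pos ⟨k.val, by omega⟩)
      (fun k l e => Fin.ext (by simpa using congrArg Fin.val (pos_injective e)))
      (fun k => pos_mem _) (fun k => by
        show (b : Equiv.Perm GolayPt)⁻¹ ((a : Equiv.Perm GolayPt) _) = _
        rw [h1, perm_inv_apply])
    exact Subtype.ext (inv_mul_eq_one.1 this).symm
  refine ⟨MulEquiv.ofBijective (r.codRestrict _ hmem) ⟨fun a b h => hinj (congrArg Subtype.val h), ?_⟩,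
    fun g i => hr g i⟩
  rintro ⟨g, hg⟩
  obtain ⟨a, ha, hax⟩ := SporM12_map_five (fun k : Fin 5 => pos ⟨k.val, by omega⟩)
    (fun k : Fin 5 => pos (g ⟨k.val, by omega⟩))
    (fun k l e => Fin.ext (by simpa using congrArg Fin.val (pos_injective e)))
    (fun k l e => Fin.ext (by simpa using congrArg Fin.val (g.injective (pos_injective e))))
    (fun k => pos_mem _) (fun k => pos_mem _)
  refine ⟨⟨a, ha⟩, Subtype.ext ?_⟩
  show r ⟨a, ha⟩ = g
  have := std12_fix_five (mul_mem (inv_mem hg) (hmem ⟨a, ha⟩)) fun i hi => by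
    show g⁻¹ (r ⟨a, ha⟩ i) = i
    have e : r ⟨a, ha⟩ i = g i := pos_injective (by rw [hr]; exact hax ⟨i.val, hi⟩)
    rw [e, perm_inv_apply]
  exact (inv_mul_eq_one.1 this).symm

variable {α : Type*} [Fintype α] [DecidableEq α] {B : Set (Finset α)}

theorem steiner12_unique {β : Type*} [Fintype β] [DecidableEq β] {B' : Set (Finset β)}
    (hα : Fintype.card α = 12) (hβ : Fintype.card β = 12) (hB : IsSteinerSystem 5 6 B)
    (hB' : IsSteinerSystem 5 6 B') : SetSystemIso B B' := by
  obtain ⟨e, he⟩ := exists_equiv hα hB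
  obtain ⟨e', he'⟩ := exists_equiv hβ hB'
  refine ⟨e.symm.trans e', ?_⟩
  rw [← he, ← he', Set.image_image]
  exact Set.image_congr fun b _ => by rw [image_image]; simp [Function.comp_def]

theorem steiner12_aut (hα : Fintype.card α = 12) (hB : IsSteinerSystem 5 6 B) :
    IsM12 (setSystemAut B) ∧ MulAction.IsMultiplyPretransitive (setSystemAut B) α 5 ∧
      ∀ x : Fin 5 ↪ α, MulAction.stabilizer (setSystemAut B) x = ⊥ := by
  obtain ⟨e, he⟩ := exists_equiv hα hB
  obtain ⟨Φ, hΦ⟩ := autStd12_equiv
  let Ψ := setSystemAutCongr e he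
  have E := Φ.trans Ψ
  have hcard : Nat.card (setSystemAut B) = 95040 := by rw [← Nat.card_congr E.toEquiv, card_SporM12]
  refine ⟨⟨E.isSimpleGroup_congr.1 simple_SporM12, hcard⟩, ⟨fun x y => ?_⟩, fun x => ?_⟩
  · obtain ⟨a, ha, hax⟩ := SporM12_map_five (fun k => pos (e.symm (x k))) (fun k => pos (e.symm (y k)))
      (pos_injective.comp (e.symm.injective.comp x.injective))
      (pos_injective.comp (e.symm.injective.comp y.injective)) (fun k => pos_mem _) (fun k => pos_mem _)
    refine ⟨Ψ (Φ ⟨a, ha⟩), Function.Embedding.ext fun k => ?_⟩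
    show (Ψ (Φ ⟨a, ha⟩) : Equiv.Perm α) (x k) = y k
    obtain ⟨i, hi⟩ := e.surjective (x k)
    rw [← hi, setSystemAutCongr_apply, ← e.eq_symm_apply]
    apply pos_injective
    rw [hΦ, ← hax k, ← hi, e.symm_apply_apply]
  · refine (Subgroup.eq_bot_iff_forall _).2 fun g hg => ?_
    obtain ⟨a, rfl⟩ := (Φ.trans Ψ).surjective g
    have hfix : ∀ k, (a : Equiv.Perm GolayPt) (pos (e.symm (x k))) = pos (e.symm (x k)) := fun k => by
      have h : (Ψ (Φ a) : Equiv.Perm α) (x k) = x k := DFunLike.congr_fun hg k
      obtain ⟨i, hi⟩ := e.surjective (x k)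
      rw [← hi, setSystemAutCongr_apply] at h
      rw [← hi, e.symm_apply_apply, ← hΦ, e.injective h]
    have := SporM12_sharp a.2 _ (pos_injective.comp (e.symm.injective.comp x.injective))
      (fun k => pos_mem _) hfix
    rw [show a = 1 from Subtype.ext this, map_one]

end CfsgLib.Mathieu.S12
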