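import Cfsg.Agent.Mathieu.Code

/-!
Uniqueness of the Golay code: a family of subsets of 24 points closed under symmetric difference,
with 4096 members, all sizes divisible by four and none of size four, is equivalent to the code.
-/

set_option autoImplicit false

namespace CfsgLib.Mathieu

open Cfsg Finset
open scoped symmDiff

variable {α : Type*} [DecidableEq α]

/-- A doubly even self-dual binary code of length 24 without words of weight four, as a family of
supports. -/
structure IsGolayFamily [Fintype α] (C : Finset (Finset α)) : Prop where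
  card_points : Fintype.card α = 24
  card_words : C.card = 4096
  empty_mem : ∅ ∈ C
  symm_mem : ∀ a ∈ C, ∀ b ∈ C, a ∆ b ∈ C
  four_dvd : ∀ a ∈ C, 4 ∣ a.card
  ne_four : ∀ a ∈ C, a.card ≠ 4

theorem inter_card_symmDiff (x a b : Finset α) :
    ((x ∩ (a ∆ b)).card) + 2 * (x ∩ a ∩ (x ∩ b)).card = (x ∩ a).card + (x ∩ b).card := by
  rw [show x ∩ (a ∆ b) = (x ∩ a) ∆ (x ∩ b) by
    ext y; simp only [Finset.mem_inter, Finset.mem_symmDiff]; tauto]
  exact card_symmDiff_add _ _

theorem neg_one_pow_symmDiff (x a b : Finset α) :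
    (-1 : ℤ) ^ (x ∩ (a ∆ b)).card = (-1) ^ (x ∩ a).card * (-1) ^ (x ∩ b).card := by
  rw [← pow_add, ← inter_card_symmDiff x a b, pow_add, Even.neg_one_pow (n := 2 * _) ⟨_, two_mul _⟩,
    mul_one]

/-- The subsets of `U` meeting every member of `D` evenly. -/
def evenPerp (U : Finset α) (D : Finset (Finset α)) : Finset (Finset α) :=
  U.powerset.filter fun x => ∀ d ∈ D, Even (x ∩ d).card

theorem card_evenPerp_mul {U : Finset α} {D : Finset (Finset α)} (h0 : ∅ ∈ D)
    (hD : ∀ d ∈ D, d ⊆ U) (hs : ∀ a ∈ D, ∀ b ∈ D, a ∆ b ∈ D) :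
    (evenPerp U D).card * D.card = 2 ^ U.card := by
  have key : ∀ x, (∑ d ∈ D, (-1 : ℤ) ^ (x ∩ d).card) =
      if ∀ d ∈ D, Even (x ∩ d).card then (D.card : ℤ) else 0 := by
    intro x
    split
    · rename_i h
      rw [Finset.sum_congr rfl (g := fun _ => (1 : ℤ)) fun d hd => (h d hd).neg_one_pow,
        Finset.sum_const, nsmul_eq_mul, mul_one]
    · rename_i h
      push Not at h
      obtain ⟨a, ha, hodd⟩ := h
      have hT : ∀ d ∈ D, d ∆ a ∈ D := fun d hd => hs d hd a ha
      have hS := Finset.sum_bij' (s := D) (t := D) (f := fun d => (-1 : ℤ) ^ (x ∩ d).card)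
        (g := fun d => (-1 : ℤ) ^ (x ∩ (d ∆ a)).card) (fun d _ => d ∆ a) (fun d _ => d ∆ a)
        hT hT (fun d _ => symmDiff_symmDiff_cancel_right a d)
        (fun d _ => symmDiff_symmDiff_cancel_right a d)
        (fun d _ => by rw [symmDiff_symmDiff_cancel_right])
      simp only [neg_one_pow_symmDiff, (Nat.not_even_iff_odd.1 hodd).neg_one_pow, mul_neg, mul_one,
        Finset.sum_neg_distrib] at hS
      omega
  have h2 : ∀ d ∈ D, (∑ x ∈ U.powerset, (-1 : ℤ) ^ (x ∩ d).card) =
      if d = ∅ then (2 : ℤ) ^ U.card else 0 := by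
    intro d hd
    split
    · rename_i h
      subst h
      simp
    · rename_i h
      obtain ⟨a, ha⟩ := Finset.nonempty_iff_ne_empty.2 h
      have haU : a ∈ U := hD d hd ha
      have hT : ∀ x ∈ U.powerset, x ∆ {a} ∈ U.powerset := fun x hx => by
        rw [Finset.mem_powerset] at hx ⊢
        exact symmDiff_le_sup.trans (Finset.union_subset hx (Finset.singleton_subset_iff.2 haU))
      have hS := Finset.sum_bij' (s := U.powerset) (t := U.powerset)
        (f := fun x => (-1 : ℤ) ^ (x ∩ d).card)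
        (g := fun x => (-1 : ℤ) ^ ((x ∆ {a}) ∩ d).card) (fun x _ => x ∆ {a}) (fun x _ => x ∆ {a})
        hT hT (fun x _ => symmDiff_symmDiff_cancel_right {a} x)
        (fun x _ => symmDiff_symmDiff_cancel_right {a} x)
        (fun x _ => by rw [symmDiff_symmDiff_cancel_right])
      have e : ∀ x : Finset α, (-1 : ℤ) ^ ((x ∆ {a}) ∩ d).card = -((-1) ^ (x ∩ d).card) := fun x => by
        rw [Finset.inter_comm, neg_one_pow_symmDiff, Finset.inter_singleton_of_mem ha,
          Finset.card_singleton, pow_one, mul_neg, mul_one, Finset.inter_comm d x]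
      simp only [e, Finset.sum_neg_distrib] at hS
      omega
  have h3 : ∑ x ∈ U.powerset, ∑ d ∈ D, (-1 : ℤ) ^ (x ∩ d).card = (2 : ℤ) ^ U.card := by
    rw [Finset.sum_comm, Finset.sum_congr rfl h2, Finset.sum_ite_eq' D ∅, if_pos h0]
  rw [Finset.sum_congr rfl fun x _ => key x, ← Finset.sum_filter, Finset.sum_const, nsmul_eq_mul] at h3
  exact_mod_cast h3

variable [Fintype α] {C : Finset (Finset α)} (hC : IsGolayFamily C)
include hC

theorem IsGolayFamily.even_inter {a b : Finset α} (ha : a ∈ C) (hb : b ∈ C) :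
    Even (a ∩ b).card := by
  have h := card_symmDiff_add a b
  have h1 := hC.four_dvd a ha
  have h2 := hC.four_dvd b hb
  have h3 := hC.four_dvd _ (hC.symm_mem a ha b hb)
  rw [Nat.even_iff]; omega

theorem IsGolayFamily.mem_iff_even (x : Finset α) : x ∈ C ↔ ∀ c ∈ C, Even (x ∩ c).card := by
  have h := card_evenPerp_mul (U := (univ : Finset α)) hC.empty_mem (fun d _ => subset_univ d) hC.symm_mem
  rw [hC.card_words, card_univ, hC.card_points] at h
  have hsub : C ⊆ evenPerp univ C := fun c hc => by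
    simp only [evenPerp, mem_filter, mem_powerset, subset_univ, true_and]
    exact fun d hd => hC.even_inter hc hd
  have heq := eq_of_subset_of_card_le hsub (by rw [hC.card_words]; omega)
  conv_lhs => rw [heq]
  simp [evenPerp]

theorem IsGolayFamily.univ_mem : (univ : Finset α) ∈ C := by
  rw [hC.mem_iff_even]
  intro c hc
  rw [univ_inter, Nat.even_iff]
  have := hC.four_dvd c hc
  omega

theorem IsGolayFamily.compl_mem {a : Finset α} (ha : a ∈ C) : aᶜ ∈ C := by
  have h := hC.symm_mem a ha univ hC.univ_mem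
  rwa [show a ∆ (univ : Finset α) = aᶜ by ext x; simp [Finset.mem_symmDiff]] at h

theorem IsGolayFamily.card_values {a : Finset α} (ha : a ∈ C) :
    a.card = 0 ∨ a.card = 8 ∨ a.card = 12 ∨ a.card = 16 ∨ a.card = 24 := by
  have h1 := hC.four_dvd a ha
  have h2 := hC.ne_four a ha
  have h3 := hC.ne_four _ (hC.compl_mem ha)
  have h4 : a.card ≤ 24 := hC.card_points ▸ card_le_univ a
  rw [card_compl, hC.card_points] at h3
  omega

theorem IsGolayFamily.exists_octad : ∃ O ∈ C, O.card = 8 := by
  let small := (range 5).biUnion fun k => (univ : Finset α).powersetCard k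
  have hsmall : 4096 < small.card := by
    rw [card_biUnion (fun i _ j _ hij => pairwise_disjoint_powersetCard _ hij),
      sum_congr rfl fun k _ => card_powersetCard k _, card_univ, hC.card_points]
    decide
  obtain ⟨p, hp, q, hq, hne, he⟩ : ∃ p ∈ small ×ˢ C, ∃ q ∈ small ×ˢ C, p ≠ q ∧ p.1 ∆ p.2 = q.1 ∆ q.2 := by
    refine exists_ne_map_eq_of_card_lt_of_maps_to (t := (univ : Finset (Finset α))) ?_
      (fun _ _ => mem_univ _)
    rw [card_univ, Fintype.card_finset, hC.card_points, card_product, hC.card_words]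
    omega
  have hp' := mem_product.1 hp
  have hq' := mem_product.1 hq
  have hd : p.1 ∆ q.1 = p.2 ∆ q.2 := by
    have h1 : p.1 = q.1 ∆ (q.2 ∆ p.2) := by
      rw [← symmDiff_assoc, ← he, symmDiff_symmDiff_cancel_right]
    rw [h1, symmDiff_comm q.1, symmDiff_symmDiff_cancel_right, symmDiff_comm]
  refine ⟨p.1 ∆ q.1, hd ▸ hC.symm_mem _ hp'.2 _ hq'.2, ?_⟩
  have hne1 : p.1 ≠ q.1 := fun e => hne (by
    refine Prod.ext e ?_
    rw [e] at he
    exact symmDiff_right_injective _ he)
  have hle : ∀ x ∈ small, x.card ≤ 4 := fun x hx => by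
    obtain ⟨k, hk, hx⟩ := mem_biUnion.1 hx
    have := (mem_powersetCard.1 hx).2
    have := mem_range.1 hk
    omega
  have h1 := hle _ hp'.1
  have h2 := hle _ hq'.1
  have h3 := hC.card_values (hd ▸ hC.symm_mem _ hp'.2 _ hq'.2 : p.1 ∆ q.1 ∈ C)
  have h4 := card_symmDiff_add p.1 q.1
  have h5 : (p.1 ∆ q.1).card ≠ 0 := fun h => hne1 (symmDiff_eq_bot.1 (card_eq_zero.1 h))
  omega

omit hC in
theorem symmDiff_disjoint_of_disjoint {O a b : Finset α} (ha : Disjoint a O) (hb : Disjoint b O) :
    Disjoint (a ∆ b) O :=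
  Disjoint.mono_left symmDiff_le_sup (Finset.disjoint_union_left.2 ⟨ha, hb⟩)

/-- The words avoiding an octad, and the shadows of words outside it. -/
theorem IsGolayFamily.outside {O : Finset α} (hO : O ∈ C) (hO8 : O.card = 8) :
    (C.filter fun c => Disjoint c O).card = 32 ∧
    (∀ c ∈ C, Disjoint c O → c = ∅ ∨ c = Oᶜ ∨ c.card = 8) ∧
    ∀ F : Finset α, Disjoint F O → (∀ c ∈ C, Disjoint c O → Even (F ∩ c).card) →
      ∃ c ∈ C, c \ O = F := by
  have hsymO : ∀ c ∈ C.filter (fun c => Disjoint c O), ∀ d ∈ C.filter (fun c => Disjoint c O),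
      c ∆ d ∈ C.filter (fun c => Disjoint c O) := fun c hc d hd => by
    simp only [mem_filter] at hc hd ⊢
    exact ⟨hC.symm_mem c hc.1 d hd.1, symmDiff_disjoint_of_disjoint hc.2 hd.2⟩
  have hoc : Oᶜ.card = 16 := by rw [card_compl, hC.card_points, hO8]
  have hperp := card_evenPerp_mul (U := Oᶜ) (D := C.filter fun c => Disjoint c O)
    (mem_filter.2 ⟨hC.empty_mem, disjoint_empty_left _⟩)
    (fun d hd x hx => mem_compl.2 fun hxO => disjoint_left.1 (mem_filter.1 hd).2 hx hxO) hsymO
  rw [hoc] at hperp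
  -- the shadows outside
  have himg : (C.image fun c => c \ O) ⊆ evenPerp Oᶜ (C.filter fun c => Disjoint c O) := by
    intro x hx
    obtain ⟨c, hc, rfl⟩ := mem_image.1 hx
    simp only [evenPerp, mem_filter, mem_powerset]
    refine ⟨fun y hy => mem_compl.2 (mem_sdiff.1 hy).2, fun d hd => ?_⟩
    rw [show (c \ O) ∩ d = c ∩ d by
      ext y
      simp only [mem_inter, mem_sdiff]
      exact ⟨fun h => ⟨h.1.1, h.2⟩, fun h => ⟨⟨h.1, fun hy => disjoint_left.1 hd.2 h.2 hy⟩, h.2⟩⟩]
    exact hC.even_inter hc hd.1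
  have hfib : ∀ x ∈ C.image (fun c => c \ O), (C.filter fun c => c \ O = x).card = 2 := by
    intro x hx
    obtain ⟨c, hc, rfl⟩ := mem_image.1 hx
    have hne : c ≠ c ∆ O := fun e => by
      have : O = ∅ := symmDiff_right_injective c ((e.symm).trans (symmDiff_bot c).symm)
      simp [this] at hO8
    rw [← card_pair hne]
    congr 1
    ext d
    simp only [mem_filter, mem_insert, mem_singleton]
    constructor
    · rintro ⟨hd, he⟩
      have hsub : c ∆ d ⊆ O := fun y hy => by
        by_contra hyO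
        have h1 := congrArg (fun s => y ∈ s) he
        simp only [mem_sdiff, hyO, not_false_eq_true, and_true, eq_iff_iff] at h1
        simp only [Finset.mem_symmDiff, h1] at hy
        tauto
      have h8 : (c ∆ d).card ≤ 8 := hO8 ▸ card_le_card hsub
      rcases hC.card_values (hC.symm_mem c hc d hd) with h | h | h | h | h <;> try omega
      · exact Or.inl (symmDiff_eq_bot.1 (card_eq_zero.1 h)).symm
      · right
        rw [← eq_of_subset_of_card_le hsub (by omega), ← symmDiff_assoc, symmDiff_self, bot_symmDiff]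
    · rintro (rfl | rfl)
      · exact ⟨hc, rfl⟩
      · refine ⟨hC.symm_mem c hc O hO, ?_⟩
        ext y; simp only [mem_sdiff, Finset.mem_symmDiff]; tauto
  have himg_card : (C.image fun c => c \ O).card = 2048 := by
    have h := card_eq_sum_card_image (fun c => c \ O) C
    rw [sum_congr rfl hfib, sum_const, smul_eq_mul, hC.card_words] at h
    omega
  -- the traces on `O`
  have hin : 32 ≤ (C.filter fun c => Disjoint c O).card := by
    have hfib' : ∀ y ∈ C.image (fun c => c ∩ O),
        (C.filter fun c => c ∩ O = y).card = (C.filter fun c => Disjoint c O).card := by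
      intro y hy
      obtain ⟨c, hc, rfl⟩ := mem_image.1 hy
      refine card_bij' (fun d _ => c ∆ d) (fun d _ => c ∆ d) ?_ ?_ ?_ ?_
      · intro d hd
        simp only [mem_filter] at hd ⊢
        refine ⟨hC.symm_mem c hc d hd.1, disjoint_left.2 fun z hz hzO => ?_⟩
        have := congrArg (fun s => z ∈ s) hd.2
        simp only [mem_inter, eq_iff_iff] at this
        simp only [Finset.mem_symmDiff] at hz
        tauto
      · intro d hd
        simp only [mem_filter] at hd ⊢
        refine ⟨hC.symm_mem c hc d hd.1, ?_⟩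
        ext z
        have : z ∈ d → z ∉ O := fun h => disjoint_left.1 hd.2 h
        simp only [mem_inter, Finset.mem_symmDiff]
        tauto
      · intro d _; exact symmDiff_symmDiff_cancel_left c d
      · intro d _; exact symmDiff_symmDiff_cancel_left c d
    have h := card_eq_sum_card_image (fun c => c ∩ O) C
    rw [sum_congr rfl hfib', sum_const, smul_eq_mul, hC.card_words] at h
    have h128 : (C.image fun c => c ∩ O).card ≤ 128 := by
      have hsub : (C.image fun c => c ∩ O) ⊆ evenPerp O {∅, O} := by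
        intro y hy
        obtain ⟨c, hc, rfl⟩ := mem_image.1 hy
        simp only [evenPerp, mem_filter, mem_powerset, inter_subset_right, true_and, mem_insert,
          mem_singleton]
        rintro d (rfl | rfl)
        · simp
        · rw [inter_assoc, inter_self]; exact hC.even_inter hc hO
      have hne : (∅ : Finset α) ≠ O := fun e => by simp [← e] at hO8
      have h2 := card_evenPerp_mul (U := O) (D := {∅, O}) (mem_insert_self _ _) (fun d hd => by
          simp only [mem_insert, mem_singleton] at hd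
          rcases hd with rfl | rfl <;> simp) (fun a ha b hb => by
          simp only [mem_insert, mem_singleton] at ha hb ⊢
          rcases ha with rfl | rfl <;> rcases hb with rfl | rfl <;> simp)
      rw [card_pair hne, hO8] at h2
      have := card_le_card hsub
      omega
    nlinarith
  have hple : 2048 ≤ (evenPerp Oᶜ (C.filter fun c => Disjoint c O)).card :=
    himg_card ▸ card_le_card himg
  have h32 : (C.filter fun c => Disjoint c O).card = 32 := by nlinarith
  refine ⟨h32, fun c hc hd => ?_, fun F hF hev => ?_⟩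
  · have hsub : c ⊆ Oᶜ := fun x hx => mem_compl.2 fun h => disjoint_left.1 hd hx h
    have hcompl : Oᶜ ∆ c = Oᶜ \ c := symmDiff_of_ge hsub
    have h4 := hC.ne_four _ (hC.symm_mem _ (hC.compl_mem hO) c hc)
    rw [hcompl, card_sdiff_of_subset hsub, hoc] at h4
    have h16 : c.card ≤ 16 := hoc ▸ card_le_card hsub
    rcases hC.card_values hc with h | h | h | h | h <;> try omega
    · exact Or.inl (card_eq_zero.1 h)
    · exact Or.inr (Or.inl (eq_of_subset_of_card_le hsub (by omega)))
  · have heq := eq_of_subset_of_card_le himg (by rw [himg_card]; rw [h32] at hperp; omega)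
    have hFmem : F ∈ evenPerp Oᶜ (C.filter fun c => Disjoint c O) := by
      simp only [evenPerp, mem_filter, mem_powerset]
      exact ⟨fun x hx => mem_compl.2 fun h => disjoint_left.1 hF hx h, fun d hd => hev d hd.1 hd.2⟩
    rw [← heq, mem_image] at hFmem
    exact hFmem

omit hC in
/-- The family generated by five sets. -/
theorem span_step {S : Finset (Finset α)} {a : Finset α} (hS : ∀ x ∈ S, ∀ y ∈ S, x ∆ y ∈ S)
    (h0 : ∅ ∈ S) (ha : a ∉ S) :
    (S ∪ S.image (· ∆ a)).card = 2 * S.card ∧
      (∀ x ∈ S ∪ S.image (· ∆ a), ∀ y ∈ S ∪ S.image (· ∆ a), x ∆ y ∈ S ∪ S.image (· ∆ a)) ∧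
      ∅ ∈ S ∪ S.image (· ∆ a) ∧ a ∈ S ∪ S.image (· ∆ a) := by
  refine ⟨?_, ?_, mem_union_left _ h0,
    mem_union_right _ (mem_image.2 ⟨∅, h0, bot_symmDiff a⟩)⟩
  · rw [card_union_of_disjoint, card_image_of_injective _ (symmDiff_left_injective a), two_mul]
    refine disjoint_left.2 fun x hx hx' => ?_
    obtain ⟨y, hy, rfl⟩ := mem_image.1 hx'
    exact ha (symmDiff_symmDiff_cancel_left y a ▸ hS y hy _ hx)
  · intro x hx y hy
    simp only [mem_union, mem_image] at hx hy ⊢
    rcases hx with hx | ⟨x, hx, rfl⟩ <;> rcases hy with hy | ⟨y, hy, rfl⟩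
    · exact Or.inl (hS x hx y hy)
    · exact Or.inr ⟨_, hS x hx y hy, symmDiff_assoc x y a⟩
    · exact Or.inr ⟨_, hS x hx y hy, by rw [symmDiff_assoc, symmDiff_comm y a, ← symmDiff_assoc]⟩
    · left
      rw [symmDiff_assoc, symmDiff_left_comm a, symmDiff_self, symmDiff_bot]
      exact hS x hx y hy

/-- Five independent words avoiding an octad, separating the sixteen points outside it. -/
theorem IsGolayFamily.frame {O : Finset α} (hO : O ∈ C) (hO8 : O.card = 8) :
    ∃ d : Fin 4 → Finset α, (∀ i, d i ∈ C ∧ Disjoint (d i) O) ∧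
      (∀ p q, p ∉ O → q ∉ O → (∀ i, p ∈ d i ↔ q ∈ d i) → p = q) ∧
      ∀ F : Finset α, Even F.card → Disjoint F O → (∀ i, Even (F ∩ d i).card) → ∃ c ∈ C, c \ O = F := by
  obtain ⟨h32, -, hshadow⟩ := hC.outside hO hO8
  set D := C.filter fun c => Disjoint c O with hD
  let S0 : Finset (Finset α) := {∅, Oᶜ}
  have hne : (∅ : Finset α) ≠ Oᶜ := fun e => by
    have := congrArg card e
    rw [card_compl, hC.card_points, hO8] at this
    simp at this
  have hS0 : S0 ⊆ D ∧ S0.card = 2 ∧ (∀ x ∈ S0, ∀ y ∈ S0, x ∆ y ∈ S0) ∧ ∅ ∈ S0 := by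
    refine ⟨?_, card_pair hne, ?_, mem_insert_self _ _⟩
    · intro x hx
      simp only [S0, mem_insert, mem_singleton] at hx
      rcases hx with rfl | rfl
      · exact mem_filter.2 ⟨hC.empty_mem, disjoint_empty_left _⟩
      · exact mem_filter.2 ⟨hC.compl_mem hO, disjoint_compl_left⟩
    · intro x hx y hy
      simp only [S0, mem_insert, mem_singleton] at hx hy ⊢
      rcases hx with rfl | rfl <;> rcases hy with rfl | rfl <;> simp
  have grow : ∀ S : Finset (Finset α), S ⊆ D → S.card < 32 → (∀ x ∈ S, ∀ y ∈ S, x ∆ y ∈ S) → ∅ ∈ S →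
      ∃ a ∈ D, ∃ S' : Finset (Finset α), S' = S ∪ S.image (· ∆ a) ∧ S' ⊆ D ∧ S'.card = 2 * S.card ∧
        (∀ x ∈ S', ∀ y ∈ S', x ∆ y ∈ S') ∧ ∅ ∈ S' := by
    intro S hSD hlt hS h0
    obtain ⟨a, ha, haS⟩ := exists_of_ssubset (hSD.ssubset_of_ne fun e => by rw [e] at hlt; omega)
    obtain ⟨h1, h2, h3, -⟩ := span_step hS h0 haS
    refine ⟨a, ha, _, rfl, union_subset hSD ?_, h1, h2, h3⟩
    intro x hx
    obtain ⟨y, hy, rfl⟩ := mem_image.1 hx
    have hy' := mem_filter.1 (hSD hy)
    have ha' := mem_filter.1 ha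
    exact mem_filter.2 ⟨hC.symm_mem y hy'.1 a ha'.1, symmDiff_disjoint_of_disjoint hy'.2 ha'.2⟩
  obtain ⟨hs0, hc0, hk0, he0⟩ := hS0
  obtain ⟨a0, ha0, S1, e1, hs1, hc1, hk1, he1⟩ := grow S0 hs0 (by omega) hk0 he0
  obtain ⟨a1, ha1, S2, e2, hs2, hc2, hk2, he2⟩ := grow S1 hs1 (by omega) hk1 he1
  obtain ⟨a2, ha2, S3, e3, hs3, hc3, hk3, he3⟩ := grow S2 hs2 (by omega) hk2 he2
  obtain ⟨a3, ha3, S4, e4, hs4, hc4, hk4, -⟩ := grow S3 hs3 (by omega) hk3 he3
  have hall : S4 = D := eq_of_subset_of_card_le hs4 (by omega)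
  -- properties stable under symmetric difference pass from the frame to all of `D`
  have prop : ∀ P : Finset α → Prop, P ∅ → P Oᶜ → P a0 → P a1 → P a2 → P a3 →
      (∀ x y, P x → P y → P (x ∆ y)) → ∀ x ∈ D, P x := by
    intro P p0 pc q0 q1 q2 q3 hP
    have step : ∀ (S : Finset (Finset α)) (a : Finset α), (∀ x ∈ S, P x) → P a →
        ∀ x ∈ S ∪ S.image (· ∆ a), P x := by
      intro S a hS ha x hx
      simp only [mem_union, mem_image] at hx
      rcases hx with hx | ⟨y, hy, rfl⟩
      · exact hS x hx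
      · exact hP y a (hS y hy) ha
    have h0 : ∀ x ∈ S0, P x := by
      intro x hx
      simp only [S0, mem_insert, mem_singleton] at hx
      rcases hx with rfl | rfl <;> assumption
    rw [← hall, e4, e3, e2, e1]
    exact step _ _ (step _ _ (step _ _ (step _ _ h0 q0) q1) q2) q3
  have hmem : ∀ i, (![a0, a1, a2, a3] : Fin 4 → Finset α) i ∈ C ∧
      Disjoint ((![a0, a1, a2, a3] : Fin 4 → Finset α) i) O := by
    intro i
    fin_cases i <;> [exact mem_filter.1 ha0; exact mem_filter.1 ha1; exact mem_filter.1 ha2;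
      exact mem_filter.1 ha3]
  refine ⟨![a0, a1, a2, a3], hmem, fun p q hp hq hpq => ?_, fun F hF2 hF hev => ?_⟩
  · by_contra hne'
    have hsame : ∀ x ∈ D, (p ∈ x ↔ q ∈ x) := by
      refine prop (fun x => p ∈ x ↔ q ∈ x) (by simp) (by simp [hp, hq]) (hpq 0) (hpq 1) (hpq 2) (hpq 3)
        fun x y hx hy => ?_
      simp only [Finset.mem_symmDiff, hx, hy]
    obtain ⟨c, hc, hcF⟩ := hshadow {p, q} (by simp [hp, hq]) fun x hx hd => by
      have h := hsame x (mem_filter.2 ⟨hx, hd⟩)
      by_cases hpx : p ∈ x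
      · rw [inter_eq_left.2 (by simp [insert_subset_iff, hpx, h.1 hpx]), card_pair hne']
        decide
      · rw [disjoint_iff_inter_eq_empty.1 (by
          rw [disjoint_left]
          intro z hz hzx
          simp only [mem_insert, mem_singleton] at hz
          rcases hz with rfl | rfl
          · exact hpx hzx
          · exact hpx (h.2 hzx)), card_empty]
        decide
    have h1 := card_sdiff_add_card_inter c O
    rw [hcF, card_pair hne'] at h1
    have h2 : (c ∩ O).card ≤ 8 := hO8 ▸ card_le_card inter_subset_right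
    rcases hC.card_values hc with h | h | h | h | h <;> try omega
    have h3 := card_symmDiff_add c O
    have h4 := hC.card_values (hC.symm_mem c hc O hO)
    omega
  · refine hshadow F hF fun x hx hd => ?_
    refine prop (fun x => Even (F ∩ x).card) (by simp) ?_ (hev 0) (hev 1) (hev 2) (hev 3)
      (fun x y h1 h2 => ?_) x (mem_filter.2 ⟨hx, hd⟩)
    · rwa [inter_eq_left.2 (fun z hz => mem_compl.2 fun h => disjoint_left.1 hF hz h)]
    · have := inter_card_symmDiff F x y
      rw [Nat.even_iff] at h1 h2 ⊢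
      omega

/-! ### Matching with the standard code -/

/-- The octad of the standard frame. -/
def stdOctad : ℕ := 8391797
/-- Four words avoiding it. -/
def stdFrame : List ℕ := [307594, 762504, 1164162, 2322816]
/-- Six octads meeting it in the edges of a path. -/
def stdPath : List ℕ := [140167, 180636, 78514, 168928, 104010, 126216]
/-- The basis rows from the twelve frame words. -/
def stdCerts : List ℕ := [2747, 54, 2795, 18, 2649, 2933, 2387, 28, 60, 6, 3441, 1375]

omit hC [Fintype α] [DecidableEq α] in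
theorem std_facts :
    (codeRows = stdCerts.map (xorSel ([stdOctad, 16777215 ^^^ stdOctad] ++ stdFrame ++ stdPath))) ∧
    (∀ p q, p ∉ setOf24 stdOctad → q ∉ setOf24 stdOctad →
      (∀ i : Fin 4, p ∈ setOf24 (stdFrame.getD i 0) ↔ q ∈ setOf24 (stdFrame.getD i 0)) → p = q) ∧
    (∀ p q, p ∈ setOf24 stdOctad → q ∈ setOf24 stdOctad →
      (∀ k : Fin 6, p ∈ setOf24 (stdPath.getD k 0) ↔ q ∈ setOf24 (stdPath.getD k 0)) → p = q) ∧
    (∀ k : Fin 6, (setOf24 (stdPath.getD k 0) \ setOf24 stdOctad).card = 6 ∧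
      ∀ i : Fin 4, Even ((setOf24 (stdPath.getD k 0) \ setOf24 stdOctad) ∩ setOf24 (stdFrame.getD i 0)).card) ∧
    (∀ i : Fin 4, Disjoint (setOf24 (stdFrame.getD i 0)) (setOf24 stdOctad)) ∧
    (∀ x ∈ setOf24 stdOctad, (∀ k : Fin 6, x ∉ setOf24 (stdPath.getD k 0)) ∨
      (x ∈ setOf24 (stdPath.getD 0 0) ∧ ∀ k : Fin 6, k.val ≠ 0 → x ∉ setOf24 (stdPath.getD k 0)) ∨
      (x ∈ setOf24 (stdPath.getD 5 0) ∧ ∀ k : Fin 6, k.val ≠ 5 → x ∉ setOf24 (stdPath.getD k 0)) ∨
      ∃ j : Fin 5, ∀ k : Fin 6, x ∈ setOf24 (stdPath.getD k 0) ↔ (k.val = j.val ∨ k.val = j.val + 1)) ∧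
    (∀ k l : Fin 6, k < l →
      ((setOf24 (stdPath.getD k 0) \ setOf24 stdOctad) ∩ (setOf24 (stdPath.getD l 0) \ setOf24 stdOctad)).card % 2 =
        if l.val = k.val + 1 then 1 else 0) ∧
    (∀ k l : Fin 6, k.val + 1 < l.val → ∃ j : Fin 6,
      (((setOf24 (stdPath.getD k 0) \ setOf24 stdOctad) ∆
        (setOf24 (stdPath.getD l 0) \ setOf24 stdOctad)) ∩
          (setOf24 (stdPath.getD j 0) \ setOf24 stdOctad)).card % 2 = 1) := by
  refine ⟨?_, ?_, ?_, ?_, ?_, ?_, ?_, ?_⟩ <;> decide +kernel

set_option maxHeartbeats 2000000 in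
/-- A family of that kind is the image of the code's family of supports. -/
theorem IsGolayFamily.exists_equiv :
    ∃ e : α ≃ GolayPt, ∀ s : Finset α, s ∈ C ↔
      s.image e ∈ supports (golayCode : Set (GolayPt → ZMod 2)) := by
  classical
  obtain ⟨O, hO, hO8⟩ := hC.exists_octad
  obtain ⟨d, hd, hsep, hshadow⟩ := hC.frame hO hO8
  obtain ⟨hrows, hout0, hin0, hF0, hdis0, hcases, hpar, hnotD⟩ := std_facts
  set O0 := setOf24 stdOctad with hO0
  set D0 : Fin 4 → Finset GolayPt := fun i => setOf24 (stdFrame.getD i 0)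
  set P0 : Fin 6 → Finset GolayPt := fun k => setOf24 (stdPath.getD k 0)
  have hO0c : O0.card = 8 := by rw [hO0, card_setOf24]; decide +kernel
  -- outside: match the columns
  let col0 : {x // x ∉ O0} → (Fin 4 → Bool) := fun x i => decide (x.1 ∈ D0 i)
  let col : {x // x ∉ O} → (Fin 4 → Bool) := fun x i => decide (x.1 ∈ d i)
  have hcol0 : Function.Bijective col0 := by
    refine (Fintype.bijective_iff_injective_and_card col0).2 ⟨fun x y h => Subtype.ext ?_, ?_⟩
    · exact hout0 x.1 y.1 x.2 y.2 fun i => by simpa [col0, D0] using congrFun h i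
    · rw [Fintype.card_subtype_compl, Fintype.card_coe, hO0c,
        show Fintype.card GolayPt = 24 by simp [ZMod.card]]; simp
  have hcol : Function.Bijective col := by
    refine (Fintype.bijective_iff_injective_and_card col).2 ⟨fun x y h => Subtype.ext ?_, ?_⟩
    · exact hsep x.1 y.1 x.2 y.2 fun i => by simpa [col] using congrFun h i
    · rw [Fintype.card_subtype_compl, Fintype.card_coe, hO8, hC.card_points]; simp
  let go : {x // x ∉ O0} ≃ {x // x ∉ O} :=
    (Equiv.ofBijective col0 hcol0).trans (Equiv.ofBijective col hcol).symm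
  have hgo : ∀ x i, (go x).1 ∈ d i ↔ x.1 ∈ D0 i := fun x i => by
    have h : col (go x) = col0 x := Equiv.apply_symm_apply (Equiv.ofBijective col hcol) (col0 x)
    simpa [col, col0] using congrFun h i
  let φ : {x // x ∉ O0} ↪ α := go.toEmbedding.trans (Function.Embedding.subtype _)
  let F : Fin 6 → Finset α := fun k => ((P0 k \ O0).subtype fun x => x ∉ O0).map φ
  let G : Fin 6 → Finset GolayPt := fun k => P0 k \ O0
  have hsubG : ∀ k, ((G k).subtype fun x => x ∉ O0).map (Function.Embedding.subtype _) = G k :=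
    fun k => Finset.subtype_map_of_mem fun x hx => (mem_sdiff.1 hx).2
  have hmemF : ∀ (x : {x // x ∉ O0}) k, φ x ∈ F k ↔ x.1 ∈ G k := fun x k => by
    rw [mem_map' φ, Finset.mem_subtype]
  have hFdis : ∀ k, Disjoint (F k) O := fun k => by
    refine disjoint_left.2 fun y hy => ?_
    obtain ⟨x, -, rfl⟩ := mem_map.1 hy
    exact (go x).2
  have hcardF : ∀ k, (F k).card = 6 := fun k => by
    rw [card_map, ← card_map (Function.Embedding.subtype fun x => x ∉ O0), hsubG]
    exact (hF0 k).1
  have htrans : ∀ (k : Fin 6) (Y : Finset α) (Y0 : Finset GolayPt),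
      (∀ x : {x // x ∉ O0}, φ x ∈ Y ↔ x.1 ∈ Y0) → (F k ∩ Y).card = (G k ∩ Y0).card := by
    intro k Y Y0 h
    have h1 : (F k ∩ Y) = (((G k).subtype fun x => x ∉ O0).filter fun x => x.1 ∈ Y0).map φ := by
      ext y
      simp only [F, mem_inter, mem_map, mem_filter]
      constructor
      · rintro ⟨⟨x, hx, rfl⟩, hy⟩; exact ⟨x, ⟨hx, (h x).1 hy⟩, rfl⟩
      · rintro ⟨x, ⟨hx, hY⟩, rfl⟩; exact ⟨⟨x, hx, rfl⟩, (h x).2 hY⟩
    rw [h1, card_map, ← card_map (Function.Embedding.subtype fun x => x ∉ O0)]
    congr 1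
    ext y
    simp only [mem_map, mem_filter, mem_inter, Finset.mem_subtype, Function.Embedding.subtype_apply]
    constructor
    · rintro ⟨x, ⟨h1, h2⟩, rfl⟩; exact ⟨h1, h2⟩
    · rintro ⟨h1, h2⟩; exact ⟨⟨y, (mem_sdiff.1 h1).2⟩, ⟨h1, h2⟩, rfl⟩
  -- shadows with two points in the octad
  have hex : ∀ k, ∃ c ∈ C, c \ O = F k ∧ (c ∩ O).card = 2 := fun k => by
    obtain ⟨c, hc, hcF⟩ := hshadow (F k) (by rw [hcardF]; decide) (hFdis k) fun i => by
      rw [htrans k (d i) (D0 i) fun x => hgo x i]
      exact (hF0 k).2 i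
    have h1 := card_sdiff_add_card_inter c O
    rw [hcF, hcardF] at h1
    have h8 : (c ∩ O).card ≤ 8 := hO8 ▸ card_le_card inter_subset_right
    rcases hC.card_values hc with h | h | h | h | h <;> try omega
    · exact ⟨c, hc, hcF, by omega⟩
    · refine ⟨c ∆ O, hC.symm_mem c hc O hO, ?_, ?_⟩
      · rw [← hcF]; ext y; simp only [mem_sdiff, Finset.mem_symmDiff]; tauto
      · have h2 : (c ∆ O) ∩ O = O \ c := by
          ext y; simp only [mem_inter, mem_sdiff, Finset.mem_symmDiff]; tauto
        rw [h2, card_sdiff, hO8]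
        omega
  choose c hc hcF hc2 using hex
  let E : Fin 6 → Finset α := fun k => c k ∩ O
  have hsplit : ∀ k l, (c k ∩ c l).card = (G k ∩ G l).card + (E k ∩ E l).card := fun k l => by
    rw [← card_sdiff_add_card_inter (c k ∩ c l) O]
    congr 1
    · rw [← htrans k (F l) (G l) fun x => hmemF x l, ← hcF k, ← hcF l]
      congr 1; ext y; simp only [mem_inter, mem_sdiff]; tauto
    · congr 1; ext y; simp only [E, mem_inter]; tauto
  have hE2 : ∀ k, (E k).card = 2 := hc2
  have hadj : ∀ k l : Fin 6, l.val = k.val + 1 → (E k ∩ E l).card = 1 := by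
    intro k l h
    have h1 := hpar k l (Fin.lt_def.2 (by omega))
    rw [if_pos h] at h1
    have h2 := Nat.even_iff.1 (hC.even_inter (hc k) (hc l))
    rw [hsplit] at h2
    have h3 : (E k ∩ E l).card ≤ 2 := hE2 k ▸ card_le_card inter_subset_left
    change (G k ∩ G l).card % 2 = 1 at h1
    omega
  have hnon : ∀ k l : Fin 6, k.val + 1 < l.val → (E k ∩ E l).card = 0 := by
    intro k l h
    have h1 := hpar k l (Fin.lt_def.2 (by omega))
    rw [if_neg (by omega)] at h1
    have h2 := Nat.even_iff.1 (hC.even_inter (hc k) (hc l))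
    rw [hsplit] at h2
    have h3 : (E k ∩ E l).card ≤ 2 := hE2 k ▸ card_le_card inter_subset_left
    change (G k ∩ G l).card % 2 = 0 at h1
    by_contra hne
    have hEq : E k = E l := by
      have h4 : E k ∩ E l = E k := eq_of_subset_of_card_le inter_subset_left (by rw [hE2]; omega)
      have h5 : E k ∩ E l = E l := eq_of_subset_of_card_le inter_subset_right (by rw [hE2]; omega)
      exact h4.symm.trans h5
    obtain ⟨j, hj⟩ := hnotD k l h
    have hX : c k ∆ c l = F k ∆ F l := by
      rw [← hcF k, ← hcF l]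
      ext y
      have := congrArg (fun s => y ∈ s) hEq
      simp only [E, mem_inter, eq_iff_iff] at this
      simp only [Finset.mem_symmDiff, mem_sdiff]
      tauto
    have h6 := Nat.even_iff.1 (hC.even_inter (hc j) (hC.symm_mem _ (hc k) _ (hc l)))
    rw [hX, show c j ∩ (F k ∆ F l) = F j ∩ (F k ∆ F l) by
      rw [← hcF j]
      ext y
      have hk : y ∈ F k → y ∉ O := fun hy => disjoint_left.1 (hFdis k) hy
      have hl : y ∈ F l → y ∉ O := fun hy => disjoint_left.1 (hFdis l) hy
      simp only [mem_inter, mem_sdiff, Finset.mem_symmDiff]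
      tauto,
      htrans j (F k ∆ F l) (G k ∆ G l) (fun x => by simp only [Finset.mem_symmDiff, hmemF]),
      inter_comm] at h6
    change ((G k ∆ G l) ∩ G j).card % 2 = 1 at hj
    omega
  -- inside: every standard pattern occurs
  have hlt : ∀ k l : Fin 6, k ≠ l → l.val ≠ k.val + 1 → k.val ≠ l.val + 1 →
      (E k ∩ E l).card = 0 := fun k l h1 h2 h3 => by
    rcases Nat.lt_or_ge k.val l.val with h | h
    · exact hnon k l (by omega)
    · have : k.val ≠ l.val := fun e => h1 (Fin.ext e)
      rw [inter_comm]; exact hnon l k (by omega)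
  have hpat : ∀ x ∈ O0, ∃ y ∈ O, ∀ k, (y ∈ E k ↔ x ∈ P0 k) := by
    intro x hx
    have not_mem : ∀ {y : α} {k l : Fin 6}, y ∈ E k → k ≠ l → l.val ≠ k.val + 1 → k.val ≠ l.val + 1 →
        y ∉ E l := fun {y k l} hy h1 h2 h3 hy' => by
      exact notMem_empty y (card_eq_zero.1 (hlt k l h1 h2 h3) ▸ mem_inter.2 ⟨hy, hy'⟩)
    rcases hcases x hx with h | ⟨hx0, h⟩ | ⟨hx5, h⟩ | ⟨j, h⟩
    · have hu : ((univ : Finset (Fin 6)).biUnion E).card < 8 := by
        have e0 : (univ : Finset (Fin 6)).biUnion E =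
            E 0 ∪ (E 1 ∪ (E 2 ∪ (E 3 ∪ (E 4 ∪ E 5)))) := by
          ext y; simp [Fin.exists_fin_succ]
        have u : ∀ s t : Finset α, ∀ k l : Fin 6, k.val + 1 = l.val → s = E k → E l ⊆ t →
            (s ∪ t).card + 1 ≤ 2 + t.card := by
          intro s t k l hkl hs ht
          subst hs
          have h1 := card_union_add_card_inter (E k) t
          have h2 : (E k ∩ E l).card ≤ (E k ∩ t).card := card_le_card (inter_subset_inter le_rfl ht)
          have := hadj k l hkl.symm
          have := hE2 k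
          omega
        have s4 := u (E 4) (E 5) 4 5 rfl rfl le_rfl
        have s3 := u (E 3) (E 4 ∪ E 5) 3 4 rfl rfl subset_union_left
        have s2 := u (E 2) (E 3 ∪ (E 4 ∪ E 5)) 2 3 rfl rfl subset_union_left
        have s1 := u (E 1) (E 2 ∪ (E 3 ∪ (E 4 ∪ E 5))) 1 2 rfl rfl subset_union_left
        have s0 := u (E 0) (E 1 ∪ (E 2 ∪ (E 3 ∪ (E 4 ∪ E 5)))) 0 1 rfl rfl subset_union_left
        have := hE2 5
        rw [e0]; omega
      obtain ⟨y, hyO, hy⟩ := exists_mem_notMem_of_card_lt_card (hu.trans_eq hO8.symm)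
      exact ⟨y, hyO, fun k => iff_of_false (fun hk => hy (mem_biUnion.2 ⟨k, mem_univ _, hk⟩)) (h k)⟩
    · obtain ⟨y, hy, hy1⟩ := exists_mem_notMem_of_card_lt_card
        (s := E 0 ∩ E 1) (t := E 0) (by rw [hadj 0 1 rfl, hE2]; norm_num)
      refine ⟨y, (mem_inter.1 hy).2, fun k => ?_⟩
      by_cases h0 : k.val = 0
      · rw [show k = 0 from Fin.ext h0]; exact iff_of_true hy hx0
      · refine iff_of_false (fun hk => ?_) (h k h0)
        by_cases h1 : k.val = 1
        · rw [show k = 1 from Fin.ext h1] at hk; exact hy1 (mem_inter.2 ⟨hy, hk⟩)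
        · exact not_mem hy (fun e => h0 (by rw [← e]; rfl)) (by simpa using h1) (by simp) hk
    · obtain ⟨y, hy, hy1⟩ := exists_mem_notMem_of_card_lt_card
        (s := E 4 ∩ E 5) (t := E 5) (by rw [hadj 4 5 rfl, hE2]; norm_num)
      refine ⟨y, (mem_inter.1 hy).2, fun k => ?_⟩
      by_cases h0 : k.val = 5
      · rw [show k = 5 from Fin.ext h0]; exact iff_of_true hy hx5
      · refine iff_of_false (fun hk => ?_) (h k h0)
        by_cases h1 : k.val = 4
        · rw [show k = 4 from Fin.ext h1] at hk; exact hy1 (mem_inter.2 ⟨hk, hy⟩)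
        · refine not_mem hy (fun e => h0 (by rw [← e]; rfl)) ?_ ?_ hk
          · show k.val ≠ 5 + 1
            omega
          · show (5 : ℕ) ≠ k.val + 1
            omega
    · obtain ⟨y, hy⟩ : (E j.castSucc ∩ E j.succ).Nonempty :=
        card_pos.1 (by rw [hadj j.castSucc j.succ (by simp)]; norm_num)
      rw [mem_inter] at hy
      refine ⟨y, (mem_inter.1 hy.1).2, fun k => Iff.trans ?_ (h k).symm⟩
      constructor
      · intro hk
        by_contra hn
        push Not at hn
        by_cases h1 : k.val + 1 = j.val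
        · exact not_mem hk (fun e => by have := congrArg Fin.val e; simp at this; omega)
            (by simp; omega) (by simp; omega) hy.2
        · exact not_mem hy.1 (fun e => by have := congrArg Fin.val e; simp at this; omega)
            (by simp; omega) (by simp; omega) hk
      · rintro (h1 | h1)
        · rw [show k = j.castSucc from Fin.ext h1]; exact hy.1
        · rw [show k = j.succ from Fin.ext (by simpa using h1)]; exact hy.2
  -- assemble
  choose gi hgiO hgi using hpat
  let g : GolayPt → α := fun x => if h : x ∈ O0 then gi x h else φ ⟨x, h⟩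
  have gO : ∀ x, g x ∈ O ↔ x ∈ O0 := fun x => by
    by_cases h : x ∈ O0
    · simp only [g, dif_pos h, h, iff_true]; exact hgiO x h
    · simp only [g, dif_neg h, h, iff_false]; exact (go ⟨x, h⟩).2
  have ginj : Function.Injective g := fun x y h => by
    by_cases hx : x ∈ O0
    · have hy : y ∈ O0 := (gO y).1 (h ▸ (gO x).2 hx)
      simp only [g, dif_pos hx, dif_pos hy] at h
      refine hin0 x y hx hy fun k => ?_
      exact (by rw [← hgi x hx k, ← hgi y hy k, h])
    · have hy : y ∉ O0 := fun hy => hx ((gO x).1 (h ▸ (gO y).2 hy))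
      simp only [g, dif_neg hx, dif_neg hy] at h
      exact congrArg Subtype.val (φ.injective h)
  have gbij : Function.Bijective g := by
    refine (Fintype.bijective_iff_injective_and_card g).2 ⟨ginj, ?_⟩
    rw [hC.card_points, show Fintype.card GolayPt = 24 by simp [ZMod.card]]
  have himgO : O0.image g = O := eq_of_subset_of_card_le
    (fun y hy => by obtain ⟨x, hx, rfl⟩ := mem_image.1 hy; exact (gO x).2 hx)
    (by rw [card_image_of_injective _ ginj, hO0c, hO8])
  have himg : ∀ (s0 : Finset GolayPt) (s : Finset α), (∀ x, g x ∈ s ↔ x ∈ s0) → s0.image g = s :=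
    fun s0 s h => by
      ext y
      obtain ⟨x, rfl⟩ := gbij.2 y
      rw [ginj.mem_finset_image, h]
  have hP : ∀ k, (P0 k).image g = c k := fun k => himg _ _ fun x => by
    by_cases hx : x ∈ O0
    · rw [← hgi x hx k]
      simp only [g, dif_pos hx, E, mem_inter]
      exact ⟨fun h => ⟨h, hgiO x hx⟩, fun h => h.1⟩
    · have h := hmemF ⟨x, hx⟩ k
      rw [← hcF k] at h
      simp only [G, mem_sdiff, hx, not_false_eq_true, and_true] at h
      simp only [g, dif_neg hx]
      exact ⟨fun hy => h.1 ⟨hy, (go ⟨x, hx⟩).2⟩, fun hy => (h.2 hy).1⟩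
  have hD' : ∀ i, (D0 i).image g = d i := fun i => himg _ _ fun x => by
    by_cases hx : x ∈ O0
    · simp only [g, dif_pos hx]
      exact iff_of_false (fun h => disjoint_left.1 (hd i).2 h (hgiO x hx))
        (fun h => disjoint_left.1 (hdis0 i) h hx)
    · simp only [g, dif_neg hx]; exact hgo ⟨x, hx⟩ i
  have hall : ∀ M, isCode M = true → (setOf24 M).image g ∈ C := by
    intro M hM
    have h0 : (setOf24 0).image g ∈ C := by rw [setOf24_zero, image_empty]; exact hC.empty_mem
    have hx : ∀ a b, (setOf24 a).image g ∈ C → (setOf24 b).image g ∈ C →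
        (setOf24 (a ^^^ b)).image g ∈ C := fun a b ha hb => by
      rw [setOf24_xor, Finset.image_symmDiff _ _ ginj]; exact hC.symm_mem _ ha _ hb
    rw [← isCode_iff.1 hM]
    refine xorSel_induction (fun M => (setOf24 M).image g ∈ C) h0 hx _ _ ?_
    rw [hrows]
    intro r hr
    obtain ⟨m, -, rfl⟩ := List.mem_map.1 hr
    refine xorSel_induction (fun M => (setOf24 M).image g ∈ C) h0 hx _ _ ?_
    have hP' : ∀ (k : Fin 6), (setOf24 (stdPath.getD k 0)).image g ∈ C := fun k => by
      rw [show (setOf24 (stdPath.getD k 0)).image g = c k from hP k]; exact hc k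
    have hD'' : ∀ (i : Fin 4), (setOf24 (stdFrame.getD i 0)).image g ∈ C := fun i => by
      rw [show (setOf24 (stdFrame.getD i 0)).image g = d i from hD' i]; exact (hd i).1
    intro r hr
    have hr' : r = stdOctad ∨ r = 16777215 ^^^ stdOctad ∨ (∃ i : Fin 4, r = stdFrame.getD i 0) ∨
        ∃ k : Fin 6, r = stdPath.getD k 0 :=
      (by decide +kernel : ∀ r ∈ [stdOctad, 16777215 ^^^ stdOctad] ++ stdFrame ++ stdPath,
        r = stdOctad ∨ r = 16777215 ^^^ stdOctad ∨ (∃ i : Fin 4, r = stdFrame.getD i 0) ∨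
          ∃ k : Fin 6, r = stdPath.getD k 0) r hr
    rcases hr' with rfl | rfl | ⟨i, rfl⟩ | ⟨k, rfl⟩
    · rw [← hO0, himgO]; exact hO
    · refine hx _ _ ?_ (by rw [← hO0, himgO]; exact hO)
      rw [setOf24_full, image_univ_of_surjective gbij.2]; exact hC.univ_mem
    · exact hD'' i
    · exact hP' k
  have hSC : (C : Set (Finset α)) =
      (fun s => s.image g) '' supports (golayCode : Set (GolayPt → ZMod 2)) := by
    symm
    refine Set.eq_of_subset_of_ncard_le ?_ ?_ (Set.toFinite _)
    · rintro _ ⟨s, hs, rfl⟩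
      rw [supports_eq] at hs
      obtain ⟨M, hM, rfl⟩ := hs
      exact hall M hM
    · rw [Set.ncard_coe_finset, hC.card_words, Set.InjOn.ncard_image (image_injective ginj).injOn,
        supports_eq, Set.InjOn.ncard_image setOf24_injOn_code, ncard_codeMasks]
  refine ⟨(Equiv.ofBijective g gbij).symm, fun s => ?_⟩
  set e := (Equiv.ofBijective g gbij).symm
  have hge : ∀ y, g (e y) = y := fun y => (Equiv.ofBijective g gbij).apply_symm_apply y
  have hs : (s.image e).image g = s := by
    rw [image_image]; simp [Function.comp_def, hge]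
  rw [← mem_coe, hSC]
  constructor
  · rintro ⟨t, ht, hts⟩
    have := image_injective ginj (hts.trans hs.symm)
    rwa [← this]
  · intro h
    exact ⟨_, h, hs⟩

end CfsgLib.Mathieu
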