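import Cfsg.Agent.Mathieu.Sharp
import Cfsg.Agent.Mathieu.Steiner11

/-!
Sharply four- and five-fold transitive groups on eleven and twelve points preserve Steiner systems.
-/

set_option autoImplicit false

namespace CfsgLib.Mathieu.Sharp

open Finset Cfsg

variable {α : Type*} [DecidableEq α] [Fintype α] {G : Subgroup (Equiv.Perm α)} {S : Finset α}

/-- A point outside `s` fixed by all involutions that act on `s` without fixed points. -/
def Centre (G : Subgroup (Equiv.Perm α)) (S s : Finset α) (z : α) : Prop :=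
  z ∈ S ∧ z ∉ s ∧ ∀ t ∈ involutions G, (∀ y ∈ s, t y ∈ s ∧ t y ≠ y) → t z = z

/-- Centres are equivariant. -/
theorem Centre.map {H : Subgroup (Equiv.Perm α)} {T s : Finset α} {z : α} (g : Equiv.Perm α)
    (hH : ∀ t ∈ H, g⁻¹ * t * g ∈ G) (hT : ∀ x ∈ S, g x ∈ T) (h : Centre G S s z) :
    Centre H T (s.image g) (g z) := by
  refine ⟨hT z h.1, fun e => h.2.1 (g.injective.mem_finset_image.1 e), fun t ht hs => ?_⟩
  obtain ⟨h1, h2, h3⟩ := mem_involutions.1 ht
  have hmem : g⁻¹ * t * g ∈ involutions G := mem_involutions.2 ⟨hH t h1, by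
    calc g⁻¹ * t * g * (g⁻¹ * t * g) = g⁻¹ * (t * t) * g := by group
      _ = 1 := by rw [h2]; group, fun e => h3 (by
    rw [show t = g * (g⁻¹ * t * g) * g⁻¹ by group, e]; group)⟩
  have := h.2.2 _ hmem fun y hy => by
    obtain ⟨hy1, hy2⟩ := hs (g y) (mem_image_of_mem _ hy)
    obtain ⟨w, hw, e⟩ := mem_image.1 hy1
    have e' : (g⁻¹ * t * g) y = w := by
      show g⁻¹ (t (g y)) = w
      rw [← e]
      exact Equiv.symm_apply_apply _ _
    rw [e']
    exact ⟨hw, fun e'' => hy2 (by rw [← e, e''])⟩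
  exact (Equiv.symm_apply_eq g).1 this

section eleven
variable (h : IsSharpOn G S 4) (hS : S.card = 11)
include h hS

theorem fixes_card_eq_three {g : Equiv.Perm α} (hg : g ∈ involutions G) : (fixes S g).card = 3 := by
  obtain ⟨h1, h2, -⟩ := fix_sizes h hg
  rcases card_cases h (by omega) with e | e | e | ⟨-, e1, -⟩
  · omega
  · omega
  · omega
  have : (fixes S g).card ≠ 1 := fun e => by
    have hm : g ∈ invFix G S 1 := mem_filter.2 ⟨hg, e⟩
    rw [card_eq_zero.1 e1] at hm
    exact notMem_empty g hm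
  omega

/-- An involution is determined by its fixed points. -/
theorem eq_of_fixes_eq {g g' : Equiv.Perm α} (hg : g ∈ involutions G) (hg' : g' ∈ involutions G)
    (he : fixes S g = fixes S g') : g = g' := by
  have h165 : (invFix G S 3).card = 165 := by
    rcases card_cases h (by omega) with e | e | e | e <;> omega
  have hsurj : Set.SurjOn (fun g => fixes S g) (invFix G S 3) (S.powersetCard 3 : Finset (Finset α)) := by
    intro T hT
    rw [mem_coe, mem_powersetCard] at hT
    obtain ⟨a, b, c, hab, hac, hbc, rfl⟩ := card_eq_three.1 hT.2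
    obtain ⟨d, hd⟩ : (S \ {a, b, c}).Nonempty := card_pos.1 (by
      rw [card_sdiff_of_subset hT.1, hT.2]; omega)
    obtain ⟨d', hd'⟩ : ((S \ {a, b, c}).erase d).Nonempty := card_pos.1 (by
      rw [card_erase_of_mem hd, card_sdiff_of_subset hT.1, hT.2]; omega)
    simp only [mem_erase, mem_sdiff, mem_insert, mem_singleton, not_or] at hd hd'
    simp only [insert_subset_iff, singleton_subset_iff] at hT
    -- conjugate any involution
    obtain ⟨g, hg⟩ := card_pos.1 (show 0 < (invFix G S 3).card by omega)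
    obtain ⟨hgi, hg3⟩ := mem_filter.1 hg
    obtain ⟨p, q, r, hpq, hpr, hqr, hpqr⟩ := card_eq_three.1 hg3
    obtain ⟨u, hu⟩ : ((S \ {p, q, r})).Nonempty := card_pos.1 (by
      rw [card_sdiff_of_subset (hpqr ▸ filter_subset _ _), ← hpqr, hg3]; omega)
    have hmem : ∀ x ∈ ({p, q, r} : Finset α), x ∈ S ∧ g x = x := fun x hx => mem_fixes.1 (hpqr ▸ hx)
    simp only [mem_sdiff, mem_insert, mem_singleton, not_or] at hu
    obtain ⟨w, hw, e1, e2, e3, -⟩ := map4 h (hmem p (by simp)).1 (hmem q (by simp)).1 (hmem r (by simp)).1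
      hu.1 (nodup4 hpq hpr (Ne.symm hu.2.1) hqr (Ne.symm hu.2.2.1) (Ne.symm hu.2.2.2))
      hT.1.1 hT.1.2.1 hT.1.2.2 hd.1
      (nodup4 hab hac (Ne.symm hd.2.1) hbc (Ne.symm hd.2.2.1) (Ne.symm hd.2.2.2))
    have hfix : ∀ x, x ∈ S → (g x = x) → (w * g * w⁻¹) (w x) = w x := fun x _ hx => by
      show w (g (w⁻¹ (w x))) = w x
      rw [show w⁻¹ (w x) = x from Equiv.symm_apply_apply _ _, hx]
    have hi : w * g * w⁻¹ ∈ involutions G := by
      obtain ⟨h1, h2, h3⟩ := mem_involutions.1 hgi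
      refine mem_involutions.2 ⟨mul_mem (mul_mem hw h1) (inv_mem hw), ?_, fun e => h3 ?_⟩
      · calc w * g * w⁻¹ * (w * g * w⁻¹) = w * (g * g) * w⁻¹ := by group
          _ = 1 := by rw [h2]; group
      · rw [show g = w⁻¹ * (w * g * w⁻¹) * w by group, e]; group
    refine ⟨_, mem_coe.2 (mem_filter.2 ⟨hi, fixes_card_eq_three h hS hi⟩), ?_⟩
    refine (eq_of_subset_of_card_le ?_ ?_).symm
    · intro x hx
      simp only [mem_insert, mem_singleton] at hx
      rcases hx with rfl | rfl | rfl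
      · exact mem_fixes.2 ⟨hT.1.1, e1 ▸ hfix p (hmem p (by simp)).1 (hmem p (by simp)).2⟩
      · exact mem_fixes.2 ⟨hT.1.2.1, e2 ▸ hfix q (hmem q (by simp)).1 (hmem q (by simp)).2⟩
      · exact mem_fixes.2 ⟨hT.1.2.2, e3 ▸ hfix r (hmem r (by simp)).1 (hmem r (by simp)).2⟩
    · rw [fixes_card_eq_three h hS hi, card_eq_three.2 ⟨a, b, c, hab, hac, hbc, rfl⟩]
  have hinj := injOn_of_surjOn_of_card_le (fun g => fixes S g)
    (fun g hg => mem_coe.2 (mem_powersetCard.2 ⟨filter_subset _ _, (mem_filter.1 hg).2⟩)) hsurj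
    (by rw [card_powersetCard, hS]; exact h165.le.trans (by decide))
  exact hinj (mem_filter.2 ⟨hg, fixes_card_eq_three h hS hg⟩)
    (mem_filter.2 ⟨hg', fixes_card_eq_three h hS hg'⟩) he

theorem exists_unique_centre {s : Finset α} (hsS : s ⊆ S) (hs : s.card = 4) :
    ∃! z, Centre G S s z := by
  obtain ⟨a, b, c, d, hab, hac, had, hbc, hbd, hcd, rfl⟩ := card_eq_four.1 hs
  simp only [insert_subset_iff, singleton_subset_iff] at hsS
  obtain ⟨ha, hb, hc, hd⟩ := hsS
  obtain ⟨⟨t₁, ht₁, p1, p2, p3, p4⟩, -⟩ := exists_unique_swap h ha hb hc hd (nodup4 hab hac had hbc hbd hcd)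
  obtain ⟨⟨t₂, ht₂, q1, q2, q3, q4⟩, -⟩ := exists_unique_swap h ha hc hb hd
    (nodup4 hac hab had hbc.symm hcd hbd)
  obtain ⟨g1, g1sq, -⟩ := mem_involutions.1 ht₁
  obtain ⟨g2, g2sq, -⟩ := mem_involutions.1 ht₂
  have hcomm : ∀ x, t₁ (t₂ x) = t₂ (t₁ x) := by
    have e := eq_of_four h (mul_mem g1 g2) (mul_mem g2 g1) ha hb hc hd (nodup4 hab hac had hbc hbd hcd)
      (show t₁ (t₂ a) = t₂ (t₁ a) by rw [q1, p3, p1, q3]) (show t₁ (t₂ b) = t₂ (t₁ b) by rw [q3, p4, p2, q1])
      (show t₁ (t₂ c) = t₂ (t₁ c) by rw [q2, p1, p3, q4]) (show t₁ (t₂ d) = t₂ (t₁ d) by rw [q4, p2, p4, q2])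
    exact fun x => congrArg (fun σ : Equiv.Perm α => σ x) e
  have hF : ∀ x ∈ fixes S t₁, t₂ x ∈ fixes S t₁ := fun x hx => by
    rw [mem_fixes] at hx ⊢
    exact ⟨h.inv _ g2 x hx.1, by rw [hcomm, hx.2]⟩
  have heven := even_moved (S := fixes S t₁) hF g2sq
  rw [card_sdiff_of_subset (s := fixes (fixes S t₁) t₂) (filter_subset _ _),
    fixes_card_eq_three h hS ht₁, Nat.even_iff] at heven
  have hsub : (fixes (fixes S t₁) t₂).card ≤ 3 := by
    rw [← fixes_card_eq_three h hS ht₁]; exact card_le_card (filter_subset _ _)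
  have hone : (fixes (fixes S t₁) t₂).card = 1 := by
    by_contra hne
    have h3 : fixes (fixes S t₁) t₂ = fixes S t₁ :=
      eq_of_subset_of_card_le (filter_subset _ _) (by rw [fixes_card_eq_three h hS ht₁]; omega)
    have h4 : fixes S t₁ = fixes S t₂ := eq_of_subset_of_card_le (fun x hx => by
      have hx1 := mem_fixes.1 hx
      rw [← h3] at hx
      exact mem_fixes.2 ⟨hx1.1, (mem_fixes.1 hx).2⟩)
      (by rw [fixes_card_eq_three h hS ht₁, fixes_card_eq_three h hS ht₂])
    have := eq_of_fixes_eq h hS ht₁ ht₂ h4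
    exact hbc (by rw [← p1, this, q1])
  obtain ⟨z, hz⟩ := card_eq_one.1 hone
  have hz1 : z ∈ fixes (fixes S t₁) t₂ := by rw [hz]; exact mem_singleton_self z
  simp only [mem_fixes] at hz1
  obtain ⟨⟨hzS, hz1⟩, hz2⟩ := hz1
  have hcoa : ∀ {t : Equiv.Perm α}, t ∈ involutions G → ∀ x, t (t x) = x := fun ht x => by
    have := congrArg (fun σ : Equiv.Perm α => σ x) (mem_involutions.1 ht).2.1; simpa using this
  refine ⟨z, ⟨hzS, ?_, ?_⟩, ?_⟩
  · simp only [mem_insert, mem_singleton]
    rintro (rfl | rfl | rfl | rfl)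
    · exact hab (hz1.symm.trans p1)
    · exact hab (p2.symm.trans hz1)
    · exact hcd (hz1.symm.trans p3)
    · exact hcd (p4.symm.trans hz1)
  · intro t ht hts
    have key : ∀ (u : Equiv.Perm α) (x y v w : α), u ∈ G → x ∈ S → y ∈ S → v ∈ S → w ∈ S →
        x ≠ y → x ≠ v → x ≠ w → y ≠ v → y ≠ w → v ≠ w →
        u x = y → u y = x → u v = w → u w = v → t x = y →
        (t v = x ∨ t v = y ∨ t v = v ∨ t v = w) → t v ≠ v → u z = z → t z = z := by
      intro u x y v w hu hx hy hv hw hxy hxv hxw hyv hyw hvw u1 u2 u3 u4 t1 htv hvne huz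
      have t2 : t y = x := (congrArg t t1).symm.trans (hcoa ht x)
      have t3 : t v = w := by
        rcases htv with e | e | e | e
        · exact absurd (t.injective (t2.trans e.symm)) hyv
        · exact absurd (t.injective (t1.trans e.symm)) hxv
        · exact absurd e hvne
        · exact e
      have t4 : t w = v := (congrArg t t3).symm.trans (hcoa ht v)
      rw [eq_of_four h (mem_involutions.1 ht).1 hu hx hy hv hw (nodup4 hxy hxv hxw hyv hyw hvw)
        (t1.trans u1.symm) (t2.trans u2.symm) (t3.trans u3.symm) (t4.trans u4.symm)]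
      exact huz
    have ha' := hts a (by simp)
    have hb' := hts b (by simp)
    have hc' := hts c (by simp)
    simp only [mem_insert, mem_singleton] at ha' hb' hc'
    rcases ha'.1 with e | e | e | e
    · exact absurd e ha'.2
    · exact key t₁ a b c d g1 ha hb hc hd hab hac had hbc hbd hcd p1 p2 p3 p4 e hc'.1 hc'.2 hz1
    · refine key t₂ a c b d g2 ha hc hb hd hac hab had hbc.symm hcd hbd q1 q2 q3 q4 e ?_ hb'.2 hz2
      tauto
    · refine key (t₁ * t₂) a d b c (mul_mem g1 g2) ha hd hb hc had hab hac hbd.symm hcd.symm hbc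
        (show t₁ (t₂ a) = d by rw [q1, p3]) (show t₁ (t₂ d) = a by rw [q4, p2])
        (show t₁ (t₂ b) = c by rw [q3, p4]) (show t₁ (t₂ c) = b by rw [q2, p1]) e ?_ hb'.2
        (show t₁ (t₂ z) = z by rw [hz2, hz1])
      tauto
  · rintro y ⟨hyS, hys, hy⟩
    have hy1 := hy t₁ ht₁ fun w hw => by
      simp only [mem_insert, mem_singleton] at hw ⊢
      rcases hw with rfl | rfl | rfl | rfl <;> simp [p1, p2, p3, p4, hab, Ne.symm hab, hcd, Ne.symm hcd]
    have hy2 := hy t₂ ht₂ fun w hw => by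
      simp only [mem_insert, mem_singleton] at hw ⊢
      rcases hw with rfl | rfl | rfl | rfl <;> simp [q1, q2, q3, q4, hac, Ne.symm hac, hbd, Ne.symm hbd]
    have : y ∈ fixes (fixes S t₁) t₂ := mem_fixes.2 ⟨mem_fixes.2 ⟨hyS, hy1⟩, hy2⟩
    rwa [hz, mem_singleton] at this

/-- The transposition type involution on a four-set fixes the centre. -/
theorem fixes_eq_of_centre {a b c d z : α} {u : Equiv.Perm α} (hu : u ∈ involutions G) (ha : a ∈ S)
    (hb : b ∈ S) (hc : c ∈ S) (hd : d ∈ S) (hcd : c ≠ d) (hz : Centre G S {a, b, c, d} z)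
    (hs : ({a, b, c, d} : Finset α).card = 4) (e1 : u a = b) (e2 : u b = a) (e3 : u c = c) (e4 : u d = d) :
    fixes S u = {c, d, z} := by
  have himg : ({a, b, c, d} : Finset α).image u = {a, b, c, d} := by
    simp only [image_insert, image_singleton, e1, e2, e3, e4]
    exact insert_comm _ _ _
  have hsS : ({a, b, c, d} : Finset α) ⊆ S := by simp [insert_subset_iff, ha, hb, hc, hd]
  have hcu : Centre G S (({a, b, c, d} : Finset α).image u) (u z) :=
    Centre.map u (fun t ht => mul_mem (mul_mem (inv_mem (mem_involutions.1 hu).1) ht) (mem_involutions.1 hu).1)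
      (fun x hx => h.inv u (mem_involutions.1 hu).1 x hx) hz
  rw [himg] at hcu
  have huz : u z = z := (exists_unique_centre h hS hsS hs).unique hcu hz
  have hzc : z ≠ c := fun e => hz.2.1 (by simp [e])
  have hzd : z ≠ d := fun e => hz.2.1 (by simp [e])
  refine (eq_of_subset_of_card_le ?_ ?_).symm
  · simp [insert_subset_iff, mem_fixes, hc, hd, e3, e4, hz.1, huz]
  · rw [fixes_card_eq_three h hS hu, card_eq_three.2 ⟨c, d, z, hcd, hzc.symm, hzd.symm, rfl⟩]

theorem centre_exchange {s : Finset α} {y z : α} (hsS : s ⊆ S) (hs : s.card = 4) (hy : y ∈ s)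
    (hz : Centre G S s z) : Centre G S (insert z (s.erase y)) y := by
  obtain ⟨a, b, c, hab, hac, hbc, he⟩ := card_eq_three.1 (show (s.erase y).card = 3 by
    rw [card_erase_of_mem hy, hs])
  have hs' : s = {a, b, c, y} := by
    rw [← insert_erase hy, he]; ext x; simp only [mem_insert, mem_singleton]; tauto
  have hm : ∀ x ∈ s.erase y, x ∈ S ∧ x ≠ y ∧ x ≠ z := fun x hx =>
    ⟨hsS (mem_erase.1 hx).2, (mem_erase.1 hx).1, fun e => hz.2.1 (e ▸ (mem_erase.1 hx).2)⟩
  rw [he] at hm ⊢
  obtain ⟨ha, hay, haz⟩ := hm a (by simp)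
  obtain ⟨hb, hby, hbz⟩ := hm b (by simp)
  obtain ⟨hc, hcy, hcz⟩ := hm c (by simp)
  have hyS := hsS hy
  have hyz : y ≠ z := fun e => hz.2.1 (e ▸ hy)
  subst hs'
  obtain ⟨-, u, hu, e1, e2, e3, e4⟩ := exists_unique_swap h hc hyS ha hb
    (nodup4 hcy hac.symm hbc.symm hay.symm hby.symm hab)
  have hF := fixes_eq_of_centre h hS hu ha hb hc hyS hcy hz hs e3 e4 e1 e2
  have heq : insert z ({a, b, c} : Finset α) = {a, b, c, z} := by
    ext x; simp only [mem_insert, mem_singleton]; tauto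
  rw [heq]
  have hcard' : ({a, b, c, z} : Finset α).card = 4 := by
    rw [card_eq_four]; exact ⟨a, b, c, z, hab, hac, haz, hbc, hbz, hcz, rfl⟩
  have hsub' : ({a, b, c, z} : Finset α) ⊆ S := by simp [insert_subset_iff, ha, hb, hc, hz.1]
  obtain ⟨z', hz', -⟩ := exists_unique_centre h hS hsub' hcard'
  have huz : u z = z := (mem_fixes.1 (show z ∈ fixes S u by rw [hF]; simp)).2
  have hF' := fixes_eq_of_centre h hS hu ha hb hc hz.1 hcz hz' hcard' e3 e4 e1 huz
  have : y ∈ ({c, z, z'} : Finset α) := by rw [← hF', hF]; simp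
  simp only [mem_insert, mem_singleton] at this
  rcases this with e | e | e
  · exact absurd e.symm hcy
  · exact absurd e hyz
  · exact e ▸ hz'

end eleven

/-- Completing `t`-sets by an exchangeable point gives a Steiner system. -/
theorem isSteinerSystem_of_exchange (R : Finset α → α → Prop) {t : ℕ}
    (hex : ∀ s : Finset α, s.card = t → ∃! z, R s z) (hout : ∀ s z, R s z → z ∉ s)
    (hexc : ∀ s : Finset α, ∀ y z, s.card = t → y ∈ s → R s z → R (insert z (s.erase y)) y) :
    IsSteinerSystem t (t + 1) {b | ∃ s z, s.card = t ∧ R s z ∧ b = insert z s} := by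
  refine ⟨fun b ⟨s, z, hs, hR, hb⟩ => by rw [hb, card_insert_of_notMem (hout s z hR), hs],
    fun s hs => ?_⟩
  obtain ⟨z, hz, -⟩ := hex s hs
  refine ⟨insert z s, ⟨⟨s, z, hs, hz, rfl⟩, subset_insert _ _⟩, ?_⟩
  rintro _ ⟨⟨s', z', hs', hR', rfl⟩, hsub⟩
  by_cases hz's : z' ∈ s
  · have h1 : s.erase z' ⊆ s' := fun x hx =>
      (mem_insert.1 (hsub (mem_erase.1 hx).2)).resolve_left (mem_erase.1 hx).1
    have h2 : (s' \ s.erase z').card = 1 := by
      rw [card_sdiff_of_subset h1, card_erase_of_mem hz's, hs', hs]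
      have : 0 < t := hs ▸ card_pos.2 ⟨z', hz's⟩
      omega
    obtain ⟨y, hy⟩ := card_eq_one.1 h2
    have hy' : y ∈ s' ∧ y ∉ s.erase z' := mem_sdiff.1 (hy ▸ mem_singleton_self y)
    have hR := hexc s' y z' hs' hy'.1 hR'
    have e : insert z' (s'.erase y) = s := by
      refine (eq_of_subset_of_card_le (fun x hx => ?_) ?_).symm
      · by_cases hxz : x = z'
        · exact hxz ▸ mem_insert_self _ _
        · refine mem_insert_of_mem (mem_erase.2 ⟨fun e => hy'.2 (e ▸ mem_erase.2 ⟨hxz, hx⟩), ?_⟩)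
          exact h1 (mem_erase.2 ⟨hxz, hx⟩)
      · rw [card_insert_of_notMem (fun e => hout s' z' hR' (mem_erase.1 e).2), card_erase_of_mem hy'.1,
          hs', hs]
        have : 0 < t := hs' ▸ card_pos.2 ⟨y, hy'.1⟩
        omega
    rw [e] at hR
    rw [← (hex s hs).unique hR hz, ← e, insert_comm, insert_erase hy'.1]
  · have e : s = s' := eq_of_subset_of_card_le
      (fun x hx => (mem_insert.1 (hsub hx)).resolve_left fun e => hz's (e ▸ hx)) (by rw [hs, hs'])
    subst e
    rw [(hex s hs).unique hR' hz]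

/-- Twelve points: the common centre of a five-set. -/
def Centre5 (G : Subgroup (Equiv.Perm α)) (s : Finset α) (z : α) : Prop :=
  z ∉ s ∧ ∀ p ∈ s, Centre (fixPoint G p) (univ.erase p) (s.erase p) z

section twelve
variable (h : IsSharpOn G univ 5) (hα : Fintype.card α = 12)
include h hα

theorem card_erase_univ (p : α) : ((univ : Finset α).erase p).card = 11 := by
  rw [card_erase_of_mem (mem_univ p), card_univ, hα]

theorem exists_unique_centre5 {s : Finset α} (hs : s.card = 5) : ∃! z, Centre5 G s z := by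
  have hsub : ∀ p, s.erase p ⊆ univ.erase p := fun p => erase_subset_erase p (subset_univ _)
  have hc : ∀ p ∈ s, ∃! z, Centre (fixPoint G p) (univ.erase p) (s.erase p) z := fun p hp =>
    exists_unique_centre (h.fix (mem_univ p)) (card_erase_univ h hα p) (hsub p)
      (by rw [card_erase_of_mem hp, hs])
  obtain ⟨p, hp⟩ := card_pos.1 (show 0 < s.card by omega)
  obtain ⟨z, hz, huniq⟩ := hc p hp
  have hzs : z ∉ s := fun e => hz.2.1 (mem_erase.2 ⟨(mem_erase.1 hz.1).1, e⟩)
  refine ⟨z, ⟨hzs, fun c hcs => ?_⟩, fun z' hz' => huniq z' (hz'.2 p hp)⟩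
  by_cases hpc : c = p
  · exact hpc ▸ hz
  obtain ⟨a, b, d, hab, had, hbd, he⟩ := card_eq_three.1 (show ((s.erase p).erase c).card = 3 by
    rw [card_erase_of_mem (mem_erase.2 ⟨hpc, hcs⟩), card_erase_of_mem hp, hs])
  have hm : ∀ x ∈ ({a, b, d} : Finset α), x ≠ c ∧ x ≠ p := fun x hx => by
    rw [← he, mem_erase, mem_erase] at hx; exact ⟨hx.1, hx.2.1⟩
  obtain ⟨hac, hap⟩ := hm a (by simp)
  obtain ⟨hbc, hbp⟩ := hm b (by simp)
  obtain ⟨hdc, hdp⟩ := hm d (by simp)
  have e1 : s.erase p = {a, b, c, d} := by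
    rw [← insert_erase (show c ∈ s.erase p from mem_erase.2 ⟨hpc, hcs⟩), he]
    ext x; simp only [mem_insert, mem_singleton]; tauto
  have e2 : s.erase c = {a, b, p, d} := by
    rw [← insert_erase (show p ∈ s.erase c from mem_erase.2 ⟨fun e => hpc e.symm, hp⟩), erase_right_comm, he]
    ext x; simp only [mem_insert, mem_singleton]; tauto
  have hk : (fixPoint G p) ≤ G := inf_le_left
  obtain ⟨-, u, hu, u3, u4, u1, u2⟩ := exists_unique_swap (h.fix (mem_univ p))
    (mem_erase.2 ⟨hpc, mem_univ c⟩) (mem_erase.2 ⟨hdp, mem_univ d⟩) (mem_erase.2 ⟨hap, mem_univ a⟩)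
    (mem_erase.2 ⟨hbp, mem_univ b⟩) (nodup4 hdc.symm hac.symm hbc.symm had.symm hbd.symm hab)
  obtain ⟨hu1, hu2, hu3⟩ := mem_involutions.1 hu
  have hF := fixes_eq_of_centre (h.fix (mem_univ p)) (card_erase_univ h hα p) hu
    (mem_erase.2 ⟨hap, mem_univ a⟩) (mem_erase.2 ⟨hbp, mem_univ b⟩) (mem_erase.2 ⟨hpc, mem_univ c⟩)
    (mem_erase.2 ⟨hdp, mem_univ d⟩) hdc.symm (e1 ▸ hz) (e1 ▸ by rw [card_erase_of_mem hp, hs]) u1 u2 u3 u4
  have hu' : u ∈ involutions (fixPoint G c) := mem_involutions.2 ⟨⟨hu1.1, u3⟩, hu2, hu3⟩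
  obtain ⟨z', hz', -⟩ := hc c hcs
  have hF' := fixes_eq_of_centre (h.fix (mem_univ c)) (card_erase_univ h hα c) hu'
    (mem_erase.2 ⟨hac, mem_univ a⟩) (mem_erase.2 ⟨hbc, mem_univ b⟩)
    (mem_erase.2 ⟨fun e => hpc e.symm, mem_univ p⟩)
    (mem_erase.2 ⟨hdc, mem_univ d⟩) hdp.symm (e2 ▸ hz') (e2 ▸ by rw [card_erase_of_mem hcs, hs]) u1 u2
    hu1.2 u4
  have hzc : z ≠ c := fun e => hzs (e ▸ hcs)
  have hzu : u z = z := (mem_fixes.1 (show z ∈ fixes _ u by rw [hF]; simp)).2
  have : z ∈ ({p, d, z'} : Finset α) := hF' ▸ mem_fixes.2 ⟨mem_erase.2 ⟨hzc, mem_univ z⟩, hzu⟩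
  simp only [mem_insert, mem_singleton] at this
  rcases this with e | e | e
  · exact absurd e (mem_erase.1 hz.1).1
  · exact absurd (e ▸ mem_erase.1 (show d ∈ s.erase p by rw [e1]; simp) |>.2) hzs
  · exact e ▸ hz'

theorem centre5_exchange {s : Finset α} {y z : α} (hs : s.card = 5) (hy : y ∈ s)
    (hz : Centre5 G s z) : Centre5 G (insert z (s.erase y)) y := by
  obtain ⟨p, hp⟩ := card_pos.1 (show 0 < (s.erase y).card by rw [card_erase_of_mem hy]; omega)
  have hps := (mem_erase.1 hp).2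
  have hyp : y ≠ p := fun e => (mem_erase.1 hp).1 e.symm
  have hzp : z ≠ p := fun e => hz.1 (e ▸ hps)
  have hex := centre_exchange (h.fix (mem_univ p)) (card_erase_univ h hα p)
    (erase_subset_erase p (subset_univ s)) (by rw [card_erase_of_mem hps, hs])
    (mem_erase.2 ⟨hyp, hy⟩) (hz.2 p hps)
  have hs' : (insert z (s.erase y)).card = 5 := by
    rw [card_insert_of_notMem (fun e => hz.1 (mem_erase.1 e).2), card_erase_of_mem hy, hs]
  obtain ⟨z', hz', -⟩ := exists_unique_centre5 h hα hs'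
  have e : (insert z (s.erase y)).erase p = insert z ((s.erase p).erase y) := by
    rw [erase_insert_of_ne hzp, erase_right_comm]
  have h' := hz'.2 p (mem_insert_of_mem hp)
  rw [e] at h'
  have := (exists_unique_centre (h.fix (mem_univ p)) (card_erase_univ h hα p)
    (by rw [← e]; exact erase_subset_erase p (subset_univ _))
    (by rw [← e, card_erase_of_mem (mem_insert_of_mem hp), hs'])).unique h' hex
  exact this ▸ hz'

/-- A sharply five-fold transitive group on twelve points is that of a Steiner system. -/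
theorem isM12_of_sharp : IsM12 G := by
  set B : Set (Finset α) := {b | ∃ s z, s.card = 5 ∧ Centre5 G s z ∧ b = insert z s}
  have hB : IsSteinerSystem 5 6 B := isSteinerSystem_of_exchange (Centre5 G)
    (fun s hs => exists_unique_centre5 h hα hs) (fun s z hz => hz.1)
    (fun s y z hs hy hz => centre5_exchange h hα hs hy hz)
  have hle : G ≤ setSystemAut B := fun g hg => by
    refine mem_setSystemAut_of_image ?_
    rintro _ ⟨s, z, hs, hz, rfl⟩
    refine ⟨s.image g, g z, by rw [card_image_of_injective _ g.injective, hs],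
      ⟨fun e => hz.1 (g.injective.mem_finset_image.1 e), fun p hp => ?_⟩, image_insert _ _ _⟩
    obtain ⟨p, hp', rfl⟩ := mem_image.1 hp
    rw [← image_erase g.injective]
    refine Centre.map (G := fixPoint G p) g (fun t ht => ⟨G.mul_mem (G.mul_mem (G.inv_mem hg) ht.1) hg, ?_⟩)
      (fun x hx => mem_erase.2 ⟨fun e => (mem_erase.1 hx).1 (g.injective e), mem_univ _⟩) (hz.2 p hp')
    show g⁻¹ (t (g p)) = p
    rw [show t (g p) = g p from ht.2]
    exact Equiv.symm_apply_apply _ _
  have haut := (S12.steiner12_aut hα hB).1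
  have hcard : Nat.card G = 95040 := by
    rw [card_eq h (by rw [card_univ, hα]; norm_num), card_univ, hα]; decide
  rw [Subgroup.eq_of_le_of_card_ge hle (by rw [hcard, haut.2])]
  exact haut

end twelve

/-- A sharply four-fold transitive group on eleven points is that of a Steiner system. -/
theorem isM11_of_sharp (h : IsSharpOn G univ 4) (hα : Fintype.card α = 11) : IsM11 G := by
  have hS : (univ : Finset α).card = 11 := hα
  set B : Set (Finset α) := {b | ∃ s z, s.card = 4 ∧ Centre G univ s z ∧ b = insert z s}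
  have hB : IsSteinerSystem 4 5 B := isSteinerSystem_of_exchange (Centre G univ)
    (fun s hs => exists_unique_centre h hS (subset_univ _) hs) (fun s z hz => hz.2.1)
    (fun s y z hs hy hz => centre_exchange h hS (subset_univ _) hs hy hz)
  have hle : G ≤ setSystemAut B := fun g hg => by
    refine mem_setSystemAut_of_image ?_
    rintro _ ⟨s, z, hs, hz, rfl⟩
    exact ⟨s.image g, g z, by rw [card_image_of_injective _ g.injective, hs],
      Centre.map g (fun t ht => mul_mem (mul_mem (inv_mem hg) ht) hg) (fun x _ => mem_univ _) hz,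
      image_insert _ _ _⟩
  have haut := (S11.aut11 hα hB).1
  have hcard : Nat.card G = 7920 := by
    rw [card_eq h (by omega), hS]; decide
  rw [Subgroup.eq_of_le_of_card_ge hle (by rw [hcard, haut.2])]
  exact haut

end CfsgLib.Mathieu.Sharp
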