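import Mathlib

/-!
Fifteen vectors with inner products 4 on the diagonal and 1 or -2 off it whose Gram matrix `M`
satisfies `M * M = 12 • M` and has row sums zero: the entries 1 form the triangular graph T(6). We
prove what is used: each pair with entry 1 lies in exactly one five-element set of mutual ones.
-/

set_option autoImplicit false

namespace CfsgLib.Mathieu.GramFifteen

open Finset

variable {Q : Type*} [Fintype Q] [DecidableEq Q]

/-- The hypotheses on the matrix. -/
structure IsGram15 (M : Q → Q → ℤ) : Prop where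
  card : Fintype.card Q = 15
  symm : ∀ a b, M a b = M b a
  diag : ∀ a, M a a = 4
  off : ∀ a b, a ≠ b → M a b = 1 ∨ M a b = -2
  sq : ∀ a b, ∑ k, M a k * M k b = 12 * M a b
  row : ∀ a, ∑ k, M a k = 0

/-- A five-set with all off-diagonal entries one. -/
def IsFive (M : Q → Q → ℤ) (F : Finset Q) : Prop :=
  F.card = 5 ∧ ∀ a ∈ F, ∀ b ∈ F, a ≠ b → M a b = 1

variable {M : Q → Q → ℤ} (h : IsGram15 M)
include h

theorem val (a b : Q) : M a b = 4 ∨ M a b = 1 ∨ M a b = -2 := by
  by_cases e : a = b
  · exact Or.inl (e ▸ h.diag a)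
  · exact Or.inr (h.off a b e)

theorem eq_of_four {a b : Q} (e : M a b = 4) : a = b := by
  by_contra hne
  rcases h.off a b hne with e' | e' <;> omega

/-- The points with given entries against a pair. -/
def cell (_h : IsGram15 M) (b d : Q) (i j : ℤ) : Finset Q := univ.filter fun k => M b k = i ∧ M d k = j

theorem mem_cell {b d k : Q} {i j : ℤ} : k ∈ cell h b d i j ↔ M b k = i ∧ M d k = j := by simp [cell]

theorem sum_split (b d : Q) (hne : b ≠ d) (F : Q → ℤ) :
    ∑ k, F k = F b + F d + (∑ k ∈ cell h b d 1 1, F k + ∑ k ∈ cell h b d 1 (-2), F k +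
      ∑ k ∈ cell h b d (-2) 1, F k + ∑ k ∈ cell h b d (-2) (-2), F k) := by
  rw [← sum_subset (subset_univ (((({b, d} : Finset Q) ∪ cell h b d 1 1) ∪ cell h b d 1 (-2)) ∪
    cell h b d (-2) 1 ∪ cell h b d (-2) (-2))) fun k _ hk => ?_]
  · rw [sum_union, sum_union, sum_union, sum_union, sum_pair hne]
    · ring
    all_goals
      rw [disjoint_left]
      intro k hk hk'
      simp only [mem_union, mem_insert, mem_singleton, mem_cell] at hk hk'
      have := h.diag b; have := h.diag d
      rcases val h b k with e | e | e <;> rcases val h d k with e' | e' | e' <;> aesop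
  · exfalso
    apply hk
    simp only [mem_union, mem_insert, mem_singleton, mem_cell]
    by_cases e1 : b = k
    · exact Or.inl (Or.inl (Or.inl (Or.inl (Or.inl e1.symm))))
    by_cases e2 : d = k
    · exact Or.inl (Or.inl (Or.inl (Or.inl (Or.inr e2.symm))))
    rcases h.off b k e1 with e | e <;> rcases h.off d k e2 with e' | e' <;> tauto

theorem cell_sum {b d : Q} {i j : ℤ} (a c : ℤ) :
    ∑ k ∈ cell h b d i j, (a * M b k + c * M d k) = (a * i + c * j) * (cell h b d i j).card := by
  rw [sum_congr rfl (g := fun _ => a * i + c * j) fun k hk => by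
    rw [(mem_cell h).1 hk |>.1, (mem_cell h).1 hk |>.2], sum_const, nsmul_eq_mul]
  ring

theorem cell_sum_mul {b d : Q} {i j : ℤ} :
    ∑ k ∈ cell h b d i j, M b k * M d k = i * j * (cell h b d i j).card := by
  rw [sum_congr rfl (g := fun _ => i * j) fun k hk => by
    rw [(mem_cell h).1 hk |>.1, (mem_cell h).1 hk |>.2], sum_const, nsmul_eq_mul]
  ring

/-- The sizes of the cells. -/
theorem cell_cards {b d : Q} (hne : b ≠ d) :
    ((cell h b d 1 1).card : ℤ) = 4 ∧
      (M b d = 1 → ((cell h b d 1 (-2)).card : ℤ) = 3 ∧ ((cell h b d (-2) 1).card : ℤ) = 3 ∧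
        ((cell h b d (-2) (-2)).card : ℤ) = 3) ∧
      (M b d = -2 → ((cell h b d (-2) (-2)).card : ℤ) = 1) := by
  have hN := sum_split h b d hne fun _ => 1
  simp only [sum_const, card_univ, h.card, nsmul_one] at hN
  have hb := sum_split h b d hne fun k => 1 * M b k + 0 * M d k
  have hd := sum_split h b d hne fun k => 0 * M b k + 1 * M d k
  rw [cell_sum h, cell_sum h, cell_sum h, cell_sum h] at hb hd
  simp only [one_mul, zero_mul, add_zero, zero_add, h.row, h.diag, h.symm d b] at hb hd
  have hp := sum_split h b d hne fun k => M b k * M d k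
  rw [cell_sum_mul h, cell_sum_mul h, cell_sum_mul h, cell_sum_mul h,
    sum_congr rfl (g := fun k => M b k * M k d) (fun k _ => by rw [h.symm d k]), h.sq, h.diag, h.diag,
    h.symm d b] at hp
  push_cast at hN
  rcases h.off b d hne with e | e <;> rw [e] at hb hd hp ⊢ <;>
    refine ⟨?_, fun e' => ?_, fun e' => ?_⟩ <;> omega

/-- A combination of rows of square zero vanishes. -/
theorem triangle_zero {x y z : Q} (hxy : M x y = -2) (hxz : M x z = -2) (hyz : M y z = -2) (k : Q) :
    M x k + M y k + M z k = 0 := by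
  have e : ∑ k, (M x k + M y k + M z k) ^ 2 = 0 := by
    have hs : ∀ a b, ∑ k, M a k * M b k = 12 * M a b := fun a b => by
      rw [← h.sq a b]; exact sum_congr rfl fun k _ => by rw [h.symm b k]
    calc ∑ k, (M x k + M y k + M z k) ^ 2 = ∑ k, (M x k * M x k + M y k * M y k + M z k * M z k +
          2 * (M x k * M y k) + 2 * (M x k * M z k) + 2 * (M y k * M z k)) :=
            sum_congr rfl fun k _ => by ring
      _ = 0 := by
        simp only [sum_add_distrib, ← mul_sum, hs, h.diag, hxy, hxz, hyz]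
        norm_num
  exact pow_eq_zero_iff (n := 2) (by norm_num) |>.1
    ((sum_eq_zero_iff_of_nonneg fun k _ => sq_nonneg _).1 e k (mem_univ k))

theorem third_unique {x y z z' : Q} (hxy : M x y = -2) (hz : z ∈ cell h x y (-2) (-2))
    (hz' : z' ∈ cell h x y (-2) (-2)) : z = z' := by
  have hne : x ≠ y := fun e => by rw [e, h.diag] at hxy; omega
  have hc := (cell_cards h hne).2.2 hxy
  exact card_le_one.1 (by omega) z hz z' hz'

/-- Entries one between the points negative against both of a positive pair. -/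
theorem neg_pair {b d z z' : Q} (hbd : M b d = 1) (hz : z ∈ cell h b d (-2) (-2))
    (hz' : z' ∈ cell h b d (-2) (-2)) (hne : z ≠ z') : M z z' = 1 := by
  rcases h.off z z' hne with e | e
  · exact e
  exfalso
  rw [mem_cell] at hz hz'
  have := third_unique h e (z := b) (z' := d) ((mem_cell h).2 ⟨h.symm z b ▸ hz.1, h.symm z' b ▸ hz'.1⟩)
    ((mem_cell h).2 ⟨h.symm z d ▸ hz.2, h.symm z' d ▸ hz'.2⟩)
  rw [this, h.diag] at hbd
  omega

theorem mixed_sum {b d t : Q} (hbd : M b d = 1) (h1 : M b t = 1) (h2 : M d t = -2) :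
    ∑ z ∈ cell h b d (-2) (-2), M z t = 0 := by
  have hdt : d ≠ t := fun e => by rw [e, h.diag] at h2; omega
  have hne : b ≠ d := fun e => by rw [e, h.diag] at hbd; omega
  obtain ⟨u, hu⟩ := card_eq_one.1 (show (cell h d t (-2) (-2)).card = 1 by
    have := (cell_cards h hdt).2.2 h2; omega)
  have hu' : u ∈ cell h d t (-2) (-2) := hu ▸ mem_singleton_self u
  rw [mem_cell] at hu'
  have huZ : u ∈ cell h b d (-2) (-2) := by
    rw [mem_cell]
    refine ⟨?_, hu'.1⟩
    have := triangle_zero h h2 hu'.1 hu'.2 b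
    rw [h.symm d b, hbd, h.symm t b, h1, h.symm u b] at this
    omega
  rw [← add_sum_erase _ _ huZ, h.symm u t, hu'.2, sum_congr rfl (g := fun _ => (1 : ℤ)) fun z hz => ?_,
    sum_const, card_erase_of_mem huZ, nsmul_one]
  · have := ((cell_cards h hne).2.1 hbd).2.2
    omega
  · obtain ⟨hzu, hzZ⟩ := mem_erase.1 hz
    have hzt : z ≠ t := fun e => by rw [mem_cell] at hzZ; rw [e, h1] at hzZ; omega
    rcases h.off z t hzt with e | e
    · exact e
    · exfalso
      rw [mem_cell] at hzZ
      exact hzu (third_unique h h2 ((mem_cell h).2 ⟨hzZ.2, h.symm z t ▸ e⟩) ((mem_cell h).2 hu'))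

/-- The four common ones of a positive pair split into three mutual ones and one apart. -/
theorem exists_apart {b d : Q} (hbd : M b d = 1) :
    ∃ a ∈ cell h b d 1 1, (∀ c ∈ cell h b d 1 1, c ≠ a → M a c = -2) ∧
      ∀ c ∈ cell h b d 1 1, ∀ c' ∈ cell h b d 1 1, c ≠ a → c' ≠ a → c ≠ c' → M c c' = 1 := by
  have hne : b ≠ d := fun e => by rw [e, h.diag] at hbd; omega
  obtain ⟨hC, hm, -⟩ := cell_cards h hne
  obtain ⟨hA, hA', hZc⟩ := hm hbd
  set C := cell h b d 1 1
  set Z := cell h b d (-2) (-2) with hZdef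
  set S : Q → ℤ := fun k => ∑ z ∈ Z, M z k with hS
  set w : Q → ℤ := fun k => M b k + M d k + S k with hw
  have hs : ∀ a c, ∑ k, M a k * M c k = 12 * M a c := fun a c => by
    rw [← h.sq a c]; exact sum_congr rfl fun k _ => by rw [h.symm c k]
  have hwM : ∀ a, ∑ k, w k * M a k = 12 * w a := by
    intro a
    simp only [hw, hS, add_mul, sum_add_distrib, sum_mul, hs]
    rw [sum_comm, sum_congr rfl fun z _ => hs z a, ← mul_sum]
    ring
  have Sb : S b = -6 := by
    rw [hS]; simp only
    rw [sum_congr rfl (g := fun _ => (-2 : ℤ)) fun z hz => by rw [h.symm z b]; exact ((mem_cell h).1 hz).1,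
      sum_const, nsmul_eq_mul]
    omega
  have Sd : S d = -6 := by
    rw [hS]; simp only
    rw [sum_congr rfl (g := fun _ => (-2 : ℤ)) fun z hz => by rw [h.symm z d]; exact ((mem_cell h).1 hz).2,
      sum_const, nsmul_eq_mul]
    omega
  have wb : w b = -1 := by simp only [hw, h.diag, h.symm d b, hbd, Sb]; norm_num
  have wd : w d = -1 := by simp only [hw, h.diag, hbd, Sd]; norm_num
  have wz : ∀ z ∈ Z, w z = 2 := by
    intro z hz
    have hzc := (mem_cell h).1 hz
    simp only [hw, hS, hzc.1, hzc.2]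
    rw [← add_sum_erase _ _ hz, h.diag, sum_congr rfl (g := fun _ => (1 : ℤ)) fun z' hz' =>
      neg_pair h hbd (mem_erase.1 hz').2 hz (mem_erase.1 hz').1, sum_const, card_erase_of_mem hz, nsmul_one]
    have : Z.card = 3 := by omega
    rw [this]; norm_num
  have wA : ∀ t ∈ cell h b d 1 (-2), w t = -1 := by
    intro t ht
    rw [mem_cell] at ht
    simp only [hw, hS, ht.1, ht.2, mixed_sum h hbd ht.1 ht.2, hZdef]
    norm_num
  have wA' : ∀ t ∈ cell h b d (-2) 1, w t = -1 := by
    intro t ht
    rw [mem_cell] at ht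
    have hsw : cell h d b (-2) (-2) = Z := by ext k; simp only [hZdef, mem_cell]; tauto
    have := mixed_sum h (h.symm d b ▸ hbd) ht.2 ht.1
    rw [hsw] at this
    simp only [hw, hS, ht.1, ht.2, this]
    norm_num
  have const : ∀ {s : Finset Q} {F : Q → ℤ} {v : ℤ}, (∀ k ∈ s, F k = v) → ∑ k ∈ s, F k = v * s.card :=
    fun hF => by rw [sum_congr rfl hF, sum_const, nsmul_eq_mul, mul_comm]
  -- first and second moment of `w` on the common ones
  have m1 : ∑ c ∈ C, w c = 2 := by
    have e := sum_split h b d hne fun k => w k * M b k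
    have e' := sum_split h b d hne fun k => w k * M d k
    rw [hwM] at e e'
    rw [const (s := cell h b d 1 (-2)) (F := fun k => w k * M b k) (v := -1) (fun k hk => by rw [wA k hk, ((mem_cell h).1 hk).1]; norm_num),
      const (s := cell h b d (-2) 1) (F := fun k => w k * M b k) (v := 2) (fun k hk => by rw [wA' k hk, ((mem_cell h).1 hk).1]; norm_num),
      const (s := Z) (F := fun k => w k * M b k) (v := -4) (fun k hk => by rw [wz k hk, ((mem_cell h).1 hk).1]; norm_num),
      sum_congr (rfl : C = C) (g := w) (fun k hk => by rw [((mem_cell h).1 hk).1, mul_one]), wb, wd, h.diag, hbd] at e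
    linarith
  have m2 : ∑ c ∈ C, w c ^ 2 = 28 := by
    have e := sum_split h b d hne fun k => w k * w k
    have hl : ∑ k, w k * w k = 12 * (w b + w d + ∑ z ∈ Z, w z) := by
      calc ∑ k, w k * w k = ∑ k, (w k * M b k + w k * M d k + ∑ z ∈ Z, w k * M z k) :=
            sum_congr rfl fun k _ => by simp only [hw, hS, ← mul_sum]; ring
        _ = _ := by
            rw [sum_add_distrib, sum_add_distrib, sum_comm, hwM, hwM, sum_congr rfl fun z _ => hwM z,
              ← mul_sum]
            ring
    rw [hl, const wz, wb, wd,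
      const (s := cell h b d 1 (-2)) (F := fun k => w k * w k) (v := 1) (fun k hk => by rw [wA k hk]; norm_num),
      const (s := cell h b d (-2) 1) (F := fun k => w k * w k) (v := 1) (fun k hk => by rw [wA' k hk]; norm_num),
      const (s := Z) (F := fun k => w k * w k) (v := 4) (fun k hk => by rw [wz k hk]; norm_num)] at e
    simp only [sq]
    linarith
  -- inside the common ones the degrees match `w`
  have hdeg : ∀ c ∈ C, ∑ k ∈ C, M c k = w c + 2 := by
    intro c hc
    obtain ⟨cb, cd⟩ := (mem_cell h).1 hc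
    have e0 := sum_split h b d hne fun k => M c k
    have e1 := sum_split h b d hne fun k => M b k * M c k
    have e2 := sum_split h b d hne fun k => M d k * M c k
    rw [h.row] at e0
    rw [hs] at e1 e2
    have f : ∀ (i j : ℤ), ∑ k ∈ cell h b d i j, M b k * M c k = i * ∑ k ∈ cell h b d i j, M c k ∧
        ∑ k ∈ cell h b d i j, M d k * M c k = j * ∑ k ∈ cell h b d i j, M c k := fun i j => by
      rw [mul_sum, mul_sum]
      exact ⟨sum_congr rfl fun k hk => by rw [((mem_cell h).1 hk).1],
        sum_congr rfl fun k hk => by rw [((mem_cell h).1 hk).2]⟩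
    simp only [fun i j => (f i j).1] at e1
    simp only [fun i j => (f i j).2] at e2
    simp only [h.diag, h.symm d b, hbd, h.symm c b, h.symm c d, cb, cd] at e0 e1 e2
    have : ∑ k ∈ Z, M c k = S c := sum_congr rfl fun k _ => h.symm c k
    rw [← hZdef, this] at e0 e1 e2
    simp only [hw, cb, cd]
    linarith
  obtain ⟨x₁, x₂, x₃, x₄, n12, n13, n14, n23, n24, n34, hCeq⟩ := card_eq_four.1 (show C.card = 4 by omega)
  have d1 := hdeg x₁ (by simp [hCeq]); have d2 := hdeg x₂ (by simp [hCeq])
  have d3 := hdeg x₃ (by simp [hCeq]); have d4 := hdeg x₄ (by simp [hCeq])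
  rw [hCeq] at m1 m2 d1 d2 d3 d4
  simp only [sum_insert, mem_insert, mem_singleton, n12, n13, n14, n23, n24, n34, or_self,
    not_false_eq_true, sum_singleton, h.diag, h.symm x₂ x₁, h.symm x₃ x₁, h.symm x₄ x₁,
    h.symm x₃ x₂, h.symm x₄ x₂, h.symm x₄ x₃] at m1 m2 d1 d2 d3 d4
  have e1 : w x₁ = 2 + M x₁ x₂ + M x₁ x₃ + M x₁ x₄ := by linarith
  have e2 : w x₂ = 2 + M x₁ x₂ + M x₂ x₃ + M x₂ x₄ := by linarith
  have e3 : w x₃ = 2 + M x₁ x₃ + M x₂ x₃ + M x₃ x₄ := by linarith
  have e4 : w x₄ = 2 + M x₁ x₄ + M x₂ x₄ + M x₃ x₄ := by linarith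
  rw [e1, e2, e3, e4] at m1 m2
  -- three mutual minus twos among points with entry one against `b` are impossible
  have htri : ∀ x y z, x ∈ C → y ∈ C → z ∈ C → M x y = -2 → M x z = -2 → M y z = -2 → False := by
    intro x y z hx hy hz hxy hxz hyz
    have := triangle_zero h hxy hxz hyz b
    rw [h.symm x b, h.symm y b, h.symm z b, ((mem_cell h).1 hx).1, ((mem_cell h).1 hy).1,
      ((mem_cell h).1 hz).1] at this
    omega
  have hx : x₁ ∈ C ∧ x₂ ∈ C ∧ x₃ ∈ C ∧ x₄ ∈ C := by simp [hCeq]
  obtain ⟨hx1, hx2, hx3, hx4⟩ := hx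
  have hfin : ∀ a p q r : Q, C = {a, p, q, r} → M a p = -2 → M a q = -2 → M a r = -2 → M p q = 1 →
      M p r = 1 → M q r = 1 → ∃ a ∈ C, (∀ c ∈ C, c ≠ a → M a c = -2) ∧
        ∀ c ∈ C, ∀ c' ∈ C, c ≠ a → c' ≠ a → c ≠ c' → M c c' = 1 := by
    intro a p q r e hap haq har hpq hpr hqr
    refine ⟨a, by simp [e], fun c hc hca => ?_, fun c hc c' hc' hca hc'a hcc => ?_⟩
    · simp only [e, mem_insert, mem_singleton] at hc
      rcases hc with rfl | rfl | rfl | rfl
      exacts [absurd rfl hca, hap, haq, har]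
    · simp only [e, mem_insert, mem_singleton] at hc hc'
      rcases hc with rfl | rfl | rfl | rfl <;> rcases hc' with rfl | rfl | rfl | rfl <;>
        simp_all [h.symm]
  rcases h.off _ _ n12 with a | a <;> rcases h.off _ _ n13 with b' | b' <;> rcases h.off _ _ n14 with c | c <;>
    rcases h.off _ _ n23 with e | e <;> rcases h.off _ _ n24 with f | f <;>
    rcases h.off _ _ n34 with g | g <;> simp only [a, b', c, e, f, g] at m1 m2 <;>
    first
      | (exfalso; revert m1 m2; norm_num; done)
      | exact absurd (htri _ _ _ hx2 hx3 hx4 e f g) id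
      | exact absurd (htri _ _ _ hx1 hx3 hx4 b' c g) id
      | exact absurd (htri _ _ _ hx1 hx2 hx4 a c f) id
      | exact absurd (htri _ _ _ hx1 hx2 hx3 a b' e) id
      | exact hfin x₁ x₂ x₃ x₄ hCeq a b' c e f g
      | exact hfin x₂ x₁ x₃ x₄ (by rw [hCeq]; exact Finset.insert_comm _ _ _) (h.symm x₂ x₁ ▸ a) e f b' c g
      | exact hfin x₃ x₁ x₂ x₄ (by rw [hCeq]; ext k; simp only [mem_insert, mem_singleton]; tauto)
          (h.symm x₃ x₁ ▸ b') (h.symm x₃ x₂ ▸ e) g a c f
      | exact hfin x₄ x₁ x₂ x₃ (by rw [hCeq]; ext k; simp only [mem_insert, mem_singleton]; tauto)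
          (h.symm x₄ x₁ ▸ c) (h.symm x₄ x₂ ▸ f) (h.symm x₄ x₃ ▸ g) a b' e

/-- A positive pair lies in exactly one five-set. -/
theorem existsUnique_five {b d : Q} (hbd : M b d = 1) : ∃! F, IsFive M F ∧ b ∈ F ∧ d ∈ F := by
  have hne : b ≠ d := fun e => by rw [e, h.diag] at hbd; omega
  obtain ⟨a, ha, ha1, ha2⟩ := exists_apart h hbd
  set C := cell h b d 1 1
  have hC : C.card = 4 := by
    have := (cell_cards h hne).1
    change ((cell h b d 1 1).card : ℤ) = 4 at this
    show (cell h b d 1 1).card = 4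
    omega
  have hmem : ∀ c ∈ C, M b c = 1 ∧ M d c = 1 := fun c hc => (mem_cell h).1 hc
  have hb : b ∉ C := fun e => by have := (hmem b e).1; rw [h.diag] at this; omega
  have hd : d ∉ C := fun e => by have := (hmem d e).2; rw [h.diag] at this; omega
  have hF : IsFive M (insert b (insert d (C.erase a))) := by
    refine ⟨?_, ?_⟩
    · rw [card_insert_of_notMem, card_insert_of_notMem, card_erase_of_mem ha, hC]
      · exact fun e => hd (mem_erase.1 e).2
      · simp only [mem_insert, mem_erase]; rintro (e | e)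
        exacts [hne e, hb e.2]
    · intro x hx y hy hxy
      simp only [mem_insert, mem_erase] at hx hy
      rcases hx with rfl | rfl | ⟨hxa, hx⟩ <;> rcases hy with rfl | rfl | ⟨hya, hy⟩
      · exact absurd rfl hxy
      · exact hbd
      · exact (hmem y hy).1
      · exact h.symm _ _ ▸ hbd
      · exact absurd rfl hxy
      · exact (hmem y hy).2
      · exact h.symm _ _ ▸ (hmem x hx).1
      · exact h.symm _ _ ▸ (hmem x hx).2
      · exact ha2 x hx y hy hxa hya hxy
  refine ⟨_, ⟨hF, mem_insert_self _ _, mem_insert_of_mem (mem_insert_self _ _)⟩, ?_⟩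
  rintro F ⟨⟨h5, hpw⟩, hbF, hdF⟩
  have hsub : ∀ x ∈ F, x ≠ b → x ≠ d → x ∈ C := fun x hx h1 h2 =>
    (mem_cell h).2 ⟨hpw b hbF x hx h1.symm, hpw d hdF x hx h2.symm⟩
  have haF : a ∉ F := by
    intro haF
    obtain ⟨x, hx⟩ := card_pos.1 (show 0 < (((F.erase b).erase d).erase a).card by
      have h1 := pred_card_le_card_erase (s := F) (a := b)
      have h2 := pred_card_le_card_erase (s := F.erase b) (a := d)
      have h3 := pred_card_le_card_erase (s := (F.erase b).erase d) (a := a)
      omega)
    simp only [mem_erase] at hx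
    obtain ⟨hxa, hxd, hxb, hxF⟩ := hx
    have := ha1 x (hsub x hxF hxb hxd) hxa
    rw [hpw a haF x hxF (Ne.symm hxa)] at this
    omega
  refine eq_of_subset_of_card_le (fun x hx => ?_) (by rw [h5, hF.1])
  simp only [mem_insert, mem_erase]
  by_cases h1 : x = b
  · exact Or.inl h1
  by_cases h2 : x = d
  · exact Or.inr (Or.inl h2)
  exact Or.inr (Or.inr ⟨fun e => haF (e ▸ hx), hsub x hx h1 h2⟩)

/-- Each point lies in exactly two five-sets, and there are six in all. -/
theorem card_fives [DecidablePred (IsFive M)] :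
    (∀ b, ((univ.filter (IsFive M)).filter fun F => b ∈ F).card = 2) ∧
      (univ.filter (IsFive M)).card = 6 := by
  set 𝓕 := univ.filter (IsFive M)
  have hm : ∀ {F}, F ∈ 𝓕 ↔ IsFive M F := fun {F} => by simp [𝓕]
  have hb : ∀ b, (𝓕.filter fun F => b ∈ F).card = 2 := by
    intro b
    obtain ⟨d0, hd0⟩ : ∃ d, d ≠ b := Fintype.exists_ne_of_one_lt_card (by rw [h.card]; norm_num) b
    have h8 : (univ.filter fun k => M b k = 1).card = 8 := by
      have hsplit : ∀ k, (M b k : ℤ) = (if M b k = 1 then 3 else 0) + (if k = b then 6 else 0) - 2 := by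
        intro k
        by_cases e : k = b
        · subst e; simp [h.diag]
        · rcases h.off b k (Ne.symm e) with e' | e' <;> simp [e, e']
      have := h.row b
      rw [sum_congr rfl fun k _ => hsplit k, sum_sub_distrib, sum_add_distrib, sum_ite_eq' univ b,
        ← sum_filter, sum_const, sum_const, card_univ, h.card] at this
      simp only [mem_univ, if_true, nsmul_eq_mul] at this
      push_cast at this
      omega
    have hcount := sum_card_bipartiteAbove_eq_sum_card_bipartiteBelow (fun (F : Finset Q) k => k ∈ F)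
      (s := 𝓕.filter fun F => b ∈ F) (t := univ.filter fun k => M b k = 1)
    have hl : ∀ F ∈ 𝓕.filter (fun F => b ∈ F),
        (bipartiteAbove (fun (F : Finset Q) k => k ∈ F) (univ.filter fun k => M b k = 1) F).card = 4 := by
      intro F hF
      obtain ⟨hF, hbF⟩ := mem_filter.1 hF
      obtain ⟨h5, hpw⟩ := hm.1 hF
      have e : bipartiteAbove (fun (F : Finset Q) k => k ∈ F) (univ.filter fun k => M b k = 1) F = F.erase b := by
        ext k
        simp only [bipartiteAbove, mem_filter, mem_univ, true_and, mem_erase]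
        exact ⟨fun hk => ⟨fun e => by rw [e, h.diag] at hk; omega, hk.2⟩,
          fun hk => ⟨hpw b hbF k hk.2 (Ne.symm hk.1), hk.2⟩⟩
      rw [e, card_erase_of_mem hbF, h5]
    have hr : ∀ k ∈ univ.filter (fun k => M b k = 1),
        (bipartiteBelow (fun (F : Finset Q) k => k ∈ F) (𝓕.filter fun F => b ∈ F) k).card = 1 := by
      intro k hk
      obtain ⟨F, hF, huniq⟩ := existsUnique_five h (mem_filter.1 hk).2
      refine card_eq_one.2 ⟨F, eq_singleton_iff_unique_mem.2 ⟨?_, fun F' hF' => ?_⟩⟩
      · simp [bipartiteBelow, hm, hF.1, hF.2.1, hF.2.2]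
      · simp only [bipartiteBelow, mem_filter, hm] at hF'
        exact huniq F' ⟨hF'.1.1, hF'.1.2, hF'.2⟩
    rw [sum_congr rfl hl, sum_congr rfl hr, sum_const, sum_const, h8, smul_eq_mul, smul_eq_mul] at hcount
    omega
  refine ⟨hb, ?_⟩
  have hcount := sum_card_bipartiteAbove_eq_sum_card_bipartiteBelow (fun (F : Finset Q) k => k ∈ F)
    (s := 𝓕) (t := (univ : Finset Q))
  rw [sum_congr rfl (g := fun _ => 5) fun F hF => by rw [bipartiteAbove, filter_univ_mem, (hm.1 hF).1],
    sum_congr (rfl : (univ : Finset Q) = univ) (g := fun _ => 2) (f := fun k => (bipartiteBelow (fun (F : Finset Q) k => k ∈ F) 𝓕 k).card) (fun k _ => hb k), sum_const, sum_const, card_univ, h.card,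
    smul_eq_mul, smul_eq_mul] at hcount
  omega

end CfsgLib.Mathieu.GramFifteen
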