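import Cfsg.Agent.Mathieu.GraphUnique
import Cfsg.Agent.Mathieu.GramFifteen

/-!
Strongly regular graphs with parameters (77, 16, 0, 4) are block graphs of S(3,6,22). The points of
the system are the cocliques of size 21.
-/

set_option autoImplicit false

namespace CfsgLib.Mathieu.GraphSeventySeven

open Cfsg Finset GraphUnique

variable {V : Type*} [Fintype V] [DecidableEq V] {G : SimpleGraph V} [DecidableRel G.Adj]
  (h : G.IsSRGWith 77 16 0 4)
include h

/-- The adjacency as a number. -/
def adj (_h : G.IsSRGWith 77 16 0 4) (u v : V) : ℤ := if G.Adj u v then 1 else 0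

/-- A multiple of the projection on an eigenspace. -/
def proj (u v : V) : ℤ := 2 + 22 * (if u = v then 1 else 0) - 11 * adj h u v

theorem sum_adj (u : V) : ∑ v, adj h u v = 16 := by
  simp only [adj, ← sum_filter, sum_const, nsmul_one]
  rw [show (univ.filter fun v => G.Adj u v) = G.neighborFinset u by ext; simp,
    G.card_neighborFinset_eq_degree, h.regular u]
  norm_num

theorem sum_adj_mul (u w : V) :
    ∑ v, adj h u v * adj h w v = if u = w then 16 else if G.Adj u w then 0 else 4 := by
  simp only [adj, ite_zero_mul_ite_zero, mul_one, ← sum_filter, sum_const, nsmul_one]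
  rw [show (univ.filter fun v => G.Adj u v ∧ G.Adj w v) = G.neighborFinset u ∩ G.neighborFinset w by
    ext; simp, card_common h]
  split_ifs <;> norm_num

theorem sum_proj (u : V) : ∑ v, proj h u v = 0 := by
  simp only [proj, sum_sub_distrib, sum_add_distrib, ← mul_sum, sum_const, card_univ, h.card, sum_adj h,
    sum_ite_eq, mem_univ, if_true]
  norm_num

theorem proj_symm (u v : V) : proj h u v = proj h v u := by
  simp only [proj, adj, G.adj_comm u v, eq_comm (a := u)]

theorem sum_proj_mul (u w : V) : ∑ v, proj h u v * proj h w v = 88 * proj h u w := by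
  have e : ∀ v, proj h u v * proj h w v = 4 + 44 * (if u = v then 1 else 0) + 44 * (if w = v then 1 else 0)
      - 22 * adj h u v - 22 * adj h w v
      + (if u = v then 484 * (if w = v then 1 else 0) - 242 * adj h w v else 0)
      - (if w = v then 242 * adj h u v else 0) + 121 * (adj h u v * adj h w v) := fun v => by
    simp only [proj]; split_ifs <;> ring
  rw [sum_congr rfl fun v _ => e v]
  simp only [sum_sub_distrib, sum_add_distrib, ← mul_sum, sum_const, card_univ, h.card, sum_adj h,
    sum_adj_mul h, sum_ite_eq, mem_univ, if_true]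
  simp only [proj, adj, G.adj_comm w u, eq_comm (a := w)]
  split_ifs with a b <;> norm_num
  exact absurd b (a ▸ G.irrefl)

/-- A combination of vertices that projects away from the neighbours of `o`. -/
def comb (_h : G.IsSRGWith 77 16 0 4) (o b u : V) : ℤ :=
  6 * (if u = b then 1 else 0) + 3 * (if u ∈ trace G o b then 1 else 0) + 4 * (if u = o then 1 else 0)

/-- Its projection. -/
def val (o b v : V) : ℤ := ∑ u, comb h o b u * proj h u v

theorem val_eq (o b v : V) :
    val h o b v = 6 * proj h b v + 3 * ∑ p ∈ trace G o b, proj h p v + 4 * proj h o v := by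
  simp only [val, comb, add_mul, sum_add_distrib, mul_assoc, ← mul_sum, ite_mul, one_mul, zero_mul,
    sum_ite_eq', mem_univ, if_true]
  congr 2
  rw [← sum_filter, filter_univ_mem]

theorem sum_trace_proj {o b v : V} (hv : v ∉ trace G o b) :
    ∑ p ∈ trace G o b, proj h p v = 2 * (trace G o b).card - 11 * ((trace G o b).filter fun p => G.Adj p v).card := by
  rw [sum_congr rfl (g := fun p => 2 - 11 * (if G.Adj p v then (1 : ℤ) else 0)) fun p hp => by
    simp only [proj, adj, if_neg (fun e : p = v => hv (e ▸ hp))]; ring]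
  rw [sum_sub_distrib, sum_const, ← mul_sum, ← sum_filter, sum_const, nsmul_one, nsmul_eq_mul]
  ring

theorem val_eq_zero {o b v : V} (hb : b ∈ far G o) (hv : v ∉ far G o) : val h o b v = 0 := by
  have hb' := mem_far.1 hb
  have hT : ((trace G o b).card : ℤ) = 4 := by exact_mod_cast card_trace h hb
  have hTo : ∀ p ∈ trace G o b, G.Adj o p := fun p hp => (G.mem_neighborFinset _ _).1 (mem_inter.1 hp).1
  rw [val_eq]
  by_cases hvo : v = o
  · subst hvo
    rw [sum_trace_proj h (fun e => G.irrefl (hTo _ e)), filter_true_of_mem fun p hp => (hTo p hp).symm, hT]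
    have hnb : ¬ G.Adj b v := fun e => hb'.2 e.symm
    simp only [proj, adj, if_neg hb'.1, if_neg hnb, if_true, if_neg (G.irrefl (v := v))]
    norm_num
  have hov : G.Adj o v := by
    by_contra e
    exact hv (mem_far.2 ⟨hvo, e⟩)
  have hbv : b ≠ v := fun e => hb'.2 (e ▸ hov)
  have hnone : ∀ p ∈ trace G o b, ¬ G.Adj p v := fun p hp => not_adj_of_common h (hTo p hp) hov
  by_cases hvT : v ∈ trace G o b
  · have hbav : G.Adj b v := (G.mem_neighborFinset _ _).1 (mem_inter.1 hvT).2
    rw [← add_sum_erase _ _ hvT, sum_congr rfl (g := fun _ => (2 : ℤ)) fun p hp => by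
      simp only [proj, adj, if_neg (mem_erase.1 hp).1, if_neg (hnone p (mem_erase.1 hp).2)]; norm_num,
      sum_const, card_erase_of_mem hvT, nsmul_eq_mul, card_trace h hb]
    simp only [proj, adj, if_neg hbv, if_pos hbav, if_pos hov, if_neg (Ne.symm hvo), if_true,
      if_neg (G.irrefl (v := v))]
    norm_num
  · have hbav : ¬ G.Adj b v := fun e => hvT (mem_inter.2 ⟨(G.mem_neighborFinset _ _).2 hov,
      (G.mem_neighborFinset _ _).2 e⟩)
    rw [sum_trace_proj h hvT, filter_false_of_mem hnone, hT]
    simp only [proj, adj, if_neg hbv, if_neg hbav, if_pos hov, if_neg (Ne.symm hvo), card_empty]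
    norm_num

/-- The overlap of two traces. -/
def meet (_h : G.IsSRGWith 77 16 0 4) (o b c : V) : ℤ := (trace G o b ∩ trace G o c).card

/-- The inner products on the far vertices. -/
def ip (o b c : V) : ℤ :=
  4 - 3 * meet h o b c - 6 * adj h b c + 12 * (if b = c then 1 else 0)

theorem meet_adj {o b c : V} (hbc : G.Adj b c) : meet h o b c = 0 := by
  simp only [meet, Nat.cast_eq_zero, card_eq_zero]
  refine eq_empty_of_forall_notMem fun p hp => ?_
  simp only [trace, mem_inter, SimpleGraph.mem_neighborFinset] at hp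
  exact not_adj_of_common h hp.1.2.symm hp.2.2.symm hbc

theorem ip_of_adj {o b c : V} (hbc : G.Adj b c) : ip h o b c = -2 := by
  simp [ip, meet_adj h hbc, adj, hbc, hbc.ne]

theorem ip_of_nonadj {o b c : V} (hne : b ≠ c) (hbc : ¬ G.Adj b c) : ip h o b c = 4 - 3 * meet h o b c := by
  simp [ip, adj, hbc, hne]

theorem ip_self {o b : V} (hb : b ∈ far G o) : ip h o b b = 4 := by
  simp [ip, meet, adj, card_trace h hb]

theorem ip_symm (o b c : V) : ip h o b c = ip h o c b := by
  simp only [ip, meet, adj, inter_comm (trace G o b), G.adj_comm b c, eq_comm (a := b)]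

theorem val_far {o b c : V} (hb : b ∈ far G o) (hc : c ∈ far G o) : val h o b c = 11 * ip h o b c := by
  have hT : ((trace G o b).card : ℤ) = 4 := by exact_mod_cast card_trace h hb
  have hc' := mem_far.1 hc
  have hcT : c ∉ trace G o b := fun e => hc'.2 ((G.mem_neighborFinset _ _).1 (mem_inter.1 e).1)
  have hf : ((trace G o b).filter fun p => G.Adj p c) = trace G o b ∩ trace G o c := by
    ext p
    simp only [mem_filter, mem_inter, trace, SimpleGraph.mem_neighborFinset]
    exact ⟨fun hp => ⟨hp.1, hp.1.1, hp.2.symm⟩, fun hp => ⟨hp.1, hp.2.2.symm⟩⟩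
  rw [val_eq, sum_trace_proj h hcT, hf, hT]
  simp only [proj, ip, meet, adj, if_neg (Ne.symm hc'.1), if_neg hc'.2]
  ring

theorem sum_val_far {o b : V} (hb : b ∈ far G o) (F : V → ℤ) :
    ∑ v, val h o b v * F v = ∑ v ∈ far G o, 11 * ip h o b v * F v := by
  rw [← sum_subset (subset_univ (far G o)) fun v _ hv => by rw [val_eq_zero h hb hv, zero_mul]]
  exact sum_congr rfl fun v hv => by rw [val_far h hb hv]

theorem ip_sq {o b d : V} (hb : b ∈ far G o) (hd : d ∈ far G o) :
    ∑ c ∈ far G o, ip h o b c * ip h o d c = 48 * ip h o b d := by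
  have h1 : ∑ v, val h o b v * val h o d v = 88 * ∑ u, comb h o b u * val h o d u := by
    calc ∑ v, val h o b v * val h o d v
        = ∑ v, ∑ u, ∑ w, comb h o b u * comb h o d w * (proj h u v * proj h w v) :=
          sum_congr rfl fun v _ => by
            rw [val, val, sum_mul_sum]
            exact sum_congr rfl fun u _ => sum_congr rfl fun w _ => by ring
      _ = ∑ u, ∑ w, comb h o b u * comb h o d w * (88 * proj h u w) := by
          rw [sum_comm]
          refine sum_congr rfl fun u _ => ?_
          rw [sum_comm]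
          exact sum_congr rfl fun w _ => by rw [← mul_sum, sum_proj_mul h]
      _ = 88 * ∑ u, comb h o b u * val h o d u := by
          rw [mul_sum]
          refine sum_congr rfl fun u _ => ?_
          rw [val, mul_sum, mul_sum]
          exact sum_congr rfl fun w _ => by rw [proj_symm h u w]; ring
  have h2 : ∑ u, comb h o b u * val h o d u = 6 * val h o d b := by
    rw [sum_eq_single b (fun u _ hu => ?_) (fun e => absurd (mem_univ b) e)]
    · have hbo := (mem_far.1 hb).1
      have : b ∉ trace G o b := fun e => (mem_far.1 hb).2 ((G.mem_neighborFinset _ _).1 (mem_inter.1 e).1)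
      simp [comb, hbo, this]
    · by_cases hu' : u ∈ far G o
      · have : u ∉ trace G o b := fun e => (mem_far.1 hu').2 ((G.mem_neighborFinset _ _).1 (mem_inter.1 e).1)
        simp [comb, hu, this, (mem_far.1 hu').1]
      · rw [val_eq_zero h hd hu', mul_zero]
  rw [h2, val_far h hd hb, ip_symm h o d b, sum_val_far h hb,
    sum_congr rfl (g := fun c => 121 * (ip h o b c * ip h o d c)) fun c hc => by
      rw [val_far h hd hc]; ring, ← mul_sum] at h1
  linarith

theorem ip_row {o b : V} (hb : b ∈ far G o) : ∑ c ∈ far G o, ip h o b c = 0 := by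
  have h1 : ∑ v, val h o b v = 0 := by
    simp only [val]
    rw [sum_comm]
    simp [← mul_sum, sum_proj h]
  have h2 := sum_val_far h hb (o := o) fun _ => 1
  simp only [mul_one] at h2
  rw [h1, ← mul_sum] at h2
  omega

theorem ip_cases {o b d : V} (hb : b ∈ far G o) (hd : d ∈ far G o) :
    ip h o b d = 4 ∨ ip h o b d = 1 ∨ ip h o b d = -2 := by
  have hs : ∀ s : ℤ, 0 ≤ 48 * (4 + 2 * s * ip h o b d + s * s * 4) := by
    intro s
    have e : ∑ c ∈ far G o, (ip h o b c + s * ip h o d c) ^ 2 =
        48 * (4 + 2 * s * ip h o b d + s * s * 4) := by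
      calc _ = ∑ c ∈ far G o, (ip h o b c * ip h o b c + 2 * s * (ip h o b c * ip h o d c) +
            s * s * (ip h o d c * ip h o d c)) := sum_congr rfl fun c _ => by ring
        _ = _ := by
          rw [sum_add_distrib, sum_add_distrib, ← mul_sum, ← mul_sum, ip_sq h hb hb, ip_sq h hb hd,
            ip_sq h hd hd, ip_self h hb, ip_self h hd]
          ring
    rw [← e]
    exact sum_nonneg fun c _ => sq_nonneg _
  have h1 := hs 1; have h2 := hs (-1)
  by_cases e : b = d
  · exact Or.inl (by rw [← e]; exact ip_self h hb)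
  by_cases a : G.Adj b d
  · exact Or.inr (Or.inr (ip_of_adj h a))
  · have := ip_of_nonadj h (o := o) e a
    have hm : 0 ≤ meet h o b d := Int.natCast_nonneg _
    omega

theorem ip_congr {o b d c : V} (hb : b ∈ far G o) (hd : d ∈ far G o) (he : ip h o b d = 4)
    (hc : c ∈ far G o) : ip h o b c = ip h o d c := by
  have e : ∑ c ∈ far G o, (ip h o b c - ip h o d c) ^ 2 = 0 := by
    calc _ = ∑ c ∈ far G o, (ip h o b c * ip h o b c - 2 * (ip h o b c * ip h o d c) +
          ip h o d c * ip h o d c) := sum_congr rfl fun c _ => by ring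
      _ = _ := by
        rw [sum_add_distrib, sum_sub_distrib, ← mul_sum, ip_sq h hb hb, ip_sq h hb hd, ip_sq h hd hd,
          ip_self h hb, ip_self h hd, he]
        norm_num
  have := pow_eq_zero_iff (n := 2) (by norm_num) |>.1 ((sum_eq_zero_iff_of_nonneg fun k _ => sq_nonneg _).1 e c hc)
  omega

/-- The far vertices with the same projection. -/
def cls (o b : V) : Finset V := (far G o).filter fun c => ip h o b c = 4

theorem mem_cls {o b c : V} : c ∈ cls h o b ↔ c ∈ far G o ∧ ip h o b c = 4 := mem_filter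

theorem cls_eq_iff {o b d : V} (hb : b ∈ far G o) (hd : d ∈ far G o) :
    cls h o b = cls h o d ↔ ip h o b d = 4 := by
  refine ⟨fun e => ((mem_cls h).1 (e ▸ (mem_cls h).2 ⟨hd, ip_self h hd⟩)).2, fun e => ?_⟩
  exact filter_congr fun c hc => by rw [ip_congr h hb hd e hc]

theorem card_cls {o b : V} (hb : b ∈ far G o) : (cls h o b).card = 4 := by
  have h60 := card_far h o
  have e1 := ip_row h hb
  have e2 := ip_sq h hb hb
  rw [ip_self h hb] at e2
  have p : ∀ c ∈ far G o, ip h o b c * ip h o b c + ip h o b c * 1 - 2 = if ip h o b c = 4 then 18 else 0 :=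
    fun c hc => by rcases ip_cases h hb hc with e | e | e <;> simp [e]
  have := sum_congr rfl p
  rw [sum_sub_distrib, sum_add_distrib, e2, ← sum_mul, e1, sum_const, ← sum_filter, sum_const,
    nsmul_eq_mul, nsmul_eq_mul] at this
  change _ = ((cls h o b).card : ℤ) * 18 at this
  push_cast at this
  omega

/-- The classes at `o`. -/
abbrev Cls (o : V) := {C : Finset V // C ∈ (far G o).image (cls h o)}

/-- The class of a far vertex. -/
def toCls {o b : V} (hb : b ∈ far G o) : Cls h o := ⟨cls h o b, mem_image_of_mem _ hb⟩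

theorem exists_gram (o : V) : ∃ M : Cls h o → Cls h o → ℤ, GramFifteen.IsGram15 M ∧
    ∀ b d (hb : b ∈ far G o) (hd : d ∈ far G o), M (toCls h hb) (toCls h hd) = ip h o b d := by
  have hrep : ∀ C : Cls h o, ∃ b ∈ far G o, cls h o b = C.1 := fun C => mem_image.1 C.2
  choose r hr hrc using hrep
  have hsame : ∀ b (hb : b ∈ far G o) c, c ∈ far G o → ip h o (r (toCls h hb)) c = ip h o b c :=
    fun b hb c hc => ip_congr h (hr _) hb ((cls_eq_iff h (hr _) hb).1 (hrc _)) hc
  have hsum : ∀ F : V → ℤ, (∀ b ∈ far G o, ∀ d ∈ far G o, ip h o b d = 4 → F b = F d) →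
      ∑ c ∈ far G o, F c = 4 * ∑ C : Cls h o, F (r C) := by
    intro F hF
    rw [← sum_fiberwise_of_maps_to (g := fun c => cls h o c) (t := (far G o).image (cls h o))
      (fun c hc => mem_image_of_mem _ hc), mul_sum, ← sum_attach]
    refine sum_congr rfl fun C _ => ?_
    have e : (far G o).filter (fun c => cls h o c = C.1) = C.1 := by
      conv_rhs => rw [← hrc C]
      ext c
      rw [mem_filter, mem_cls, ← hrc C]
      constructor
      · rintro ⟨hc, e⟩; exact ⟨hc, (cls_eq_iff h (hr C) hc).1 e.symm⟩
      · rintro ⟨hc, e⟩; exact ⟨hc, ((cls_eq_iff h (hr C) hc).2 e).symm⟩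
    rw [e, sum_congr rfl (g := fun _ => F (r C)) fun c hc => ?_, sum_const,
      show C.1.card = 4 by rw [← hrc C, card_cls h (hr C)], nsmul_eq_mul]
    · norm_num
    · rw [← hrc C, mem_cls] at hc
      exact (hF _ (hr C) _ hc.1 hc.2).symm
  refine ⟨fun C D => ip h o (r C) (r D), ⟨?_, fun C D => ip_symm h o _ _, fun C => ip_self h (hr C), ?_, ?_, ?_⟩,
    fun b d hb hd => by
      show ip h o (r (toCls h hb)) (r (toCls h hd)) = _
      rw [hsame b hb _ (hr _), ip_symm h o b, hsame d hd b hb, ip_symm h o d]⟩
  · have := hsum (fun _ => 1) fun _ _ _ _ _ => rfl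
    simp only [sum_const, nsmul_one, card_univ] at this
    have h60 := card_far h o
    omega
  · intro C D hne
    rcases ip_cases h (hr C) (hr D) with e | e | e
    · exact absurd (Subtype.ext (by rw [← hrc C, ← hrc D]; exact (cls_eq_iff h (hr C) (hr D)).2 e)) hne
    · exact Or.inl e
    · exact Or.inr e
  · intro C D
    have := hsum (fun c => ip h o (r C) c * ip h o (r D) c) fun b hb d hd e => by
      rw [ip_symm h o (r C) b, ip_symm h o (r C) d, ip_symm h o (r D) b, ip_symm h o (r D) d,
        ip_congr h hb hd e (hr C), ip_congr h hb hd e (hr D)]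
    rw [ip_sq h (hr C) (hr D)] at this
    rw [sum_congr rfl (g := fun K => ip h o (r C) (r K) * ip h o (r D) (r K)) fun K _ => by
      rw [ip_symm h o (r K) (r D)]]
    linarith
  · intro C
    have := hsum (fun c => ip h o (r C) c) fun b hb d hd e => by
      rw [ip_symm h o (r C) b, ip_symm h o (r C) d, ip_congr h hb hd e (hr C)]
    rw [ip_row h (hr C)] at this
    linarith

/-- Cocliques of size 21. -/
def coc (_h : G.IsSRGWith 77 16 0 4) : Finset (Finset V) :=
  (univ.powersetCard 21).filter fun I => ∀ u ∈ I, ∀ v ∈ I, ¬ G.Adj u v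

theorem mem_coc {I : Finset V} : I ∈ coc h ↔ I.card = 21 ∧ ∀ u ∈ I, ∀ v ∈ I, ¬ G.Adj u v := by
  simp [coc, mem_powersetCard]

/-- Outside a coclique of size 21 every vertex has six neighbours in it. -/
theorem coc_six {I : Finset V} (hI : I ∈ coc h) {v : V} (hv : v ∉ I) :
    (I.filter fun u => G.Adj u v).card = 6 := by
  obtain ⟨h21, hind⟩ := (mem_coc h).1 hI
  set g : V → ℤ := fun v => ∑ u ∈ I, adj h u v with hg
  have hin : ∀ v ∈ I, g v = 0 := fun v hv => sum_eq_zero fun u hu => by simp [adj, hind u hu v hv]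
  have s1 : ∑ v ∈ univ \ I, g v = 336 := by
    rw [sum_subset (subset_univ (univ \ I)) fun v _ hv => hin v (by simpa using hv)]
    simp only [hg]
    rw [sum_comm, sum_congr rfl fun u _ => sum_adj h u, sum_const, h21]
    norm_num
  have s2 : ∑ v ∈ univ \ I, g v * g v = 2016 := by
    rw [sum_subset (subset_univ (univ \ I)) fun v _ hv => by rw [hin v (by simpa using hv)]; rfl]
    simp only [hg, sum_mul_sum]
    rw [sum_comm, sum_congr rfl (g := fun _ => (96 : ℤ)) fun u hu => ?_, sum_const, h21]
    · norm_num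
    rw [sum_comm, sum_congr rfl fun w _ => sum_adj_mul h u w, ← add_sum_erase _ _ hu, if_pos rfl,
      sum_congr rfl (g := fun _ => (4 : ℤ)) fun w hw => by
        rw [if_neg (mem_erase.1 hw).1.symm, if_neg (hind u hu w (mem_erase.1 hw).2)],
      sum_const, card_erase_of_mem hu, h21]
    norm_num
  have e : ∑ v ∈ univ \ I, (g v - 6) ^ 2 = 0 := by
    rw [sum_congr rfl (g := fun v => g v * g v - 12 * g v + 36) fun v _ => by ring, sum_add_distrib,
      sum_sub_distrib, ← mul_sum, s1, s2, sum_const, card_univ_diff, h.card, h21]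
    norm_num
  have hgv := pow_eq_zero_iff (n := 2) (by norm_num) |>.1
    ((sum_eq_zero_iff_of_nonneg fun k _ => sq_nonneg _).1 e v (by simpa using hv))
  simp only [hg, adj, ← sum_filter, sum_const, nsmul_one] at hgv
  omega

theorem coc_classes {I : Finset V} (hI : I ∈ coc h) {o b d : V} (hoI : o ∈ I) (hbI : b ∈ I) (hbo : b ≠ o)
    (hd : d ∈ far G o) :
    (ip h o b d = 4 → d ∈ I) ∧ (ip h o b d = -2 → d ∉ I) := by
  obtain ⟨h21, hind⟩ := (mem_coc h).1 hI
  have hb : b ∈ far G o := mem_far.2 ⟨hbo, hind o hoI b hbI⟩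
  set K := I.erase o
  have hK : ∀ k ∈ K, k ∈ far G o := fun k hk =>
    mem_far.2 ⟨(mem_erase.1 hk).1, hind o hoI k (mem_erase.1 hk).2⟩
  -- the total inner product against the coclique
  have hW : ∀ c ∈ far G o, ∑ k ∈ K, ip h o k c = if c ∈ I then 32 else -16 := by
    intro c hc
    have hm : ∑ k ∈ K, meet h o k c = 20 := by
      have e : ∀ k ∈ K, meet h o k c = ∑ p ∈ trace G o c, adj h p k := fun k hk => by
        simp only [meet, adj, ← sum_filter, sum_const, nsmul_one]
        congr 2
        ext p
        simp only [mem_inter, mem_filter, trace, SimpleGraph.mem_neighborFinset]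
        exact ⟨fun hp => ⟨hp.2, hp.1.2.symm⟩, fun hp => ⟨⟨hp.1.1, hp.2.symm⟩, hp.1⟩⟩
      rw [sum_congr rfl e, sum_comm, sum_congr rfl (g := fun _ => (5 : ℤ)) fun p hp => ?_, sum_const,
        card_trace h hc]
      · norm_num
      have hop : G.Adj o p := (G.mem_neighborFinset _ _).1 (mem_inter.1 hp).1
      have hpI : p ∉ I := fun e => hind o hoI p e hop
      simp only [adj, ← sum_filter, sum_const, nsmul_one]
      rw [show K.filter (fun k => G.Adj p k) = (I.filter fun u => G.Adj u p).erase o by
        ext k; simp [K, G.adj_comm p k, and_assoc],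
        card_erase_of_mem (mem_filter.2 ⟨hoI, hop⟩), coc_six h hI hpI]
      norm_num
    have ha : ∑ k ∈ K, adj h k c = if c ∈ I then 0 else 6 := by
      split_ifs with hcI
      · exact sum_eq_zero fun k hk => by simp [adj, hind k (mem_erase.1 hk).2 c hcI]
      · simp only [adj, ← sum_filter, sum_const, nsmul_one]
        rw [show K.filter (fun k => G.Adj k c) = I.filter fun u => G.Adj u c by
          ext k
          simp only [K, mem_filter, mem_erase]
          exact ⟨fun hk => ⟨hk.1.2, hk.2⟩, fun hk => ⟨⟨fun e => (mem_far.1 hc).2 (e ▸ hk.2), hk.1⟩, hk.2⟩⟩,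
          coc_six h hI hcI]
        norm_num
    simp only [ip, sum_add_distrib, sum_sub_distrib, ← mul_sum, hm, ha, sum_const, sum_ite_eq']
    rw [show K.card = 20 by rw [card_erase_of_mem hoI, h21]]
    have hco := (mem_far.1 hc).1
    simp only [K, mem_erase, ne_eq, hco, not_false_eq_true, true_and]
    split_ifs <;> norm_num
  have hclosed : ∀ c ∈ far G o, ip h o b c = 4 → c ∈ I := fun c hc e => by
    by_contra hcI
    have e1 := hW c hc
    have e2 := hW b hb
    rw [if_neg hcI] at e1
    rw [if_pos hbI, sum_congr rfl fun k hk => by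
      rw [ip_symm h o k b, ip_congr h hb hc e (hK k hk), ip_symm h o c k], e1] at e2
    omega
  refine ⟨hclosed d hd, fun e hdI => ?_⟩
  -- the class of `b` has too many overlaps with `d`
  have hsub : (cls h o b).biUnion (fun c => trace G o c ∩ trace G o d) ⊆ trace G o d := fun p hp => by
    obtain ⟨c, -, hp⟩ := mem_biUnion.1 hp
    exact (mem_inter.1 hp).2
  have hle := card_le_card hsub
  rw [card_biUnion, card_trace h hd] at hle
  · have h2 : ∀ c ∈ cls h o b, (trace G o c ∩ trace G o d).card = 2 := fun c hc => by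
      obtain ⟨hc, he⟩ := (mem_cls h).1 hc
      have hcI := hclosed c hc he
      have e' : ip h o c d = -2 := by rw [← ip_congr h hb hc he hd]; exact e
      have hne : c ≠ d := fun e'' => by rw [e'', ip_self h hd] at e'; omega
      rw [ip_of_nonadj h hne (hind c hcI d hdI)] at e'
      simp only [meet] at e'
      omega
    rw [sum_congr rfl h2, sum_const, card_cls h hb] at hle
    simp at hle
  · intro c hc c' hc' hne
    obtain ⟨hc, he⟩ := (mem_cls h).1 hc
    obtain ⟨hc', he'⟩ := (mem_cls h).1 hc'
    have e4 : ip h o c c' = 4 := by rw [← ip_congr h hb hc he hc']; exact he'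
    have hna : ¬ G.Adj c c' := fun a => by rw [ip_of_adj h a] at e4; omega
    rw [ip_of_nonadj h hne hna] at e4
    simp only [meet] at e4
    have h0 : (trace G o c ∩ trace G o c').card = 0 := by omega
    exact (disjoint_iff_inter_eq_empty.2 (card_eq_zero.1 h0)).mono inter_subset_left inter_subset_left

theorem coc_counts (o : V) :
    ((coc h).filter fun I => o ∈ I).card = 6 ∧
      ∀ b ∈ far G o, ((coc h).filter fun I => o ∈ I ∧ b ∈ I).card = 2 := by
  classical
  obtain ⟨M, hM, hMip⟩ := exists_gram h o
  obtain ⟨htwo, hsix⟩ := GramFifteen.card_fives hM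
  set 𝓕 := univ.filter (GramFifteen.IsFive M)
  let fill : Finset (Cls h o) → Finset V := fun F => insert o (F.biUnion fun C => C.1)
  have hcl : ∀ C : Cls h o, ∀ c ∈ C.1, ∃ hc : c ∈ far G o, toCls h hc = C := by
    intro C c hc
    obtain ⟨b, hb, e⟩ := mem_image.1 C.2
    rw [← e, mem_cls] at hc
    exact ⟨hc.1, Subtype.ext (((cls_eq_iff h hb hc.1).2 hc.2).symm.trans e)⟩
  have hfillmem : ∀ F b, ∀ hb : b ∈ far G o, b ∈ fill F ↔ toCls h hb ∈ F := by
    intro F b hb
    simp only [fill, mem_insert, (mem_far.1 hb).1, false_or, mem_biUnion]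
    refine ⟨fun ⟨C, hC, hbC⟩ => ?_, fun hF => ⟨_, hF, (mem_cls h).2 ⟨hb, ip_self h hb⟩⟩⟩
    obtain ⟨_, e⟩ := hcl C b hbC
    exact e ▸ hC
  have hfill : ∀ F ∈ 𝓕, fill F ∈ (coc h).filter fun I => o ∈ I := by
    intro F hF
    obtain ⟨h5, hpw⟩ := (mem_filter.1 hF).2
    have hfar : ∀ c ∈ F.biUnion (fun C => C.1), c ∈ far G o := fun c hc => by
      obtain ⟨C, -, hcC⟩ := mem_biUnion.1 hc
      exact (hcl C c hcC).1
    refine mem_filter.2 ⟨(mem_coc h).2 ⟨?_, fun u hu v hv huv => ?_⟩, mem_insert_self _ _⟩
    · rw [card_insert_of_notMem (fun e => (mem_far.1 (hfar o e)).1 rfl), card_biUnion,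
        sum_congr rfl (g := fun _ => 4) fun C _ => ?_, sum_const, h5]
      · rfl
      · obtain ⟨b, hb, e⟩ := mem_image.1 C.2
        rw [← e, card_cls h hb]
      · intro C _ D _ hne
        refine disjoint_left.2 fun c hc hc' => hne ?_
        obtain ⟨_, e⟩ := hcl C c hc
        obtain ⟨_, e'⟩ := hcl D c hc'
        exact e.symm.trans e'
    · simp only [fill, mem_insert] at hu hv
      rcases hu with rfl | hu
      · rcases hv with rfl | hv
        exacts [G.irrefl huv, (mem_far.1 (hfar v hv)).2 huv]
      · rcases hv with rfl | hv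
        · exact (mem_far.1 (hfar u hu)).2 huv.symm
        have e := hMip u v (hfar u hu) (hfar v hv)
        rw [ip_of_adj h huv] at e
        have m1 : toCls h (hfar u hu) ∈ F := (hfillmem F u _).1 (mem_insert_of_mem hu)
        have m2 : toCls h (hfar v hv) ∈ F := (hfillmem F v _).1 (mem_insert_of_mem hv)
        by_cases heq : toCls h (hfar u hu) = toCls h (hfar v hv)
        · rw [heq, hM.diag] at e; omega
        · rw [hpw _ m1 _ m2 heq] at e; omega
  have hinj : Set.InjOn fill 𝓕 := fun F _ F' _ e => by
    ext C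
    obtain ⟨b, hb, hbC⟩ := mem_image.1 C.2
    have hC : C = toCls h hb := Subtype.ext hbC.symm
    rw [hC, ← hfillmem, ← hfillmem, e]
  have hsurj : ∀ I ∈ (coc h).filter (fun I => o ∈ I), ∃ F ∈ 𝓕, fill F = I := by
    intro I hI
    obtain ⟨hI, hoI⟩ := mem_filter.1 hI
    obtain ⟨h21, hind⟩ := (mem_coc h).1 hI
    set F := univ.filter fun C : Cls h o => C.1 ⊆ I
    have hIF : ∀ b (hb : b ∈ far G o), toCls h hb ∈ F ↔ b ∈ I := by
      intro b hb
      simp only [F, mem_filter, mem_univ, true_and, toCls]
      refine ⟨fun e => e ((mem_cls h).2 ⟨hb, ip_self h hb⟩), fun hbI c hc => ?_⟩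
      obtain ⟨hc, he⟩ := (mem_cls h).1 hc
      exact (coc_classes h hI hoI hbI (mem_far.1 hb).1 hc).1 he
    have hfillI : fill F = I := by
      ext c
      by_cases hco : c = o
      · subst hco; simp [fill, hoI]
      by_cases hcf : c ∈ far G o
      · rw [hfillmem F c hcf, hIF c hcf]
      · refine iff_of_false (fun hc => hcf ?_) fun hc => hcf (mem_far.2 ⟨hco, hind o hoI c hc⟩)
        simp only [fill, mem_insert, hco, false_or, mem_biUnion] at hc
        obtain ⟨C, -, hc⟩ := hc
        exact (hcl C c hc).1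
    refine ⟨F, mem_filter.2 ⟨mem_univ _, ?_, fun C hC D hD hne => ?_⟩, hfillI⟩
    · have e := congrArg card hfillI
      simp only [fill] at e
      rw [card_insert_of_notMem, card_biUnion, sum_congr rfl (g := fun _ => 4) fun C _ => ?_, sum_const,
        smul_eq_mul, h21] at e
      · omega
      · obtain ⟨b, hb, e'⟩ := mem_image.1 C.2
        rw [← e', card_cls h hb]
      · intro C _ D _ hne
        refine disjoint_left.2 fun c hc hc' => hne ?_
        obtain ⟨_, e'⟩ := hcl C c hc
        obtain ⟨_, e''⟩ := hcl D c hc'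
        exact e'.symm.trans e''
      · simp only [mem_biUnion, not_exists, not_and]
        exact fun C _ hc => (mem_far.1 (hcl C o hc).1).1 rfl
    · obtain ⟨b, hb, hbC⟩ := mem_image.1 C.2
      obtain ⟨d, hd, hdD⟩ := mem_image.1 D.2
      have eC : C = toCls h hb := Subtype.ext hbC.symm
      have eD : D = toCls h hd := Subtype.ext hdD.symm
      subst eC eD
      have hbI := (hIF b hb).1 hC
      have hdI := (hIF d hd).1 hD
      rw [hMip]
      rcases ip_cases h hb hd with e | e | e
      · exact absurd (Subtype.ext ((cls_eq_iff h hb hd).2 e)) hne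
      · exact e
      · exact absurd hdI ((coc_classes h hI hoI hbI (mem_far.1 hb).1 hd).2 e)
  have himg : (coc h).filter (fun I => o ∈ I) = 𝓕.image fill := by
    ext I
    simp only [mem_image]
    exact ⟨hsurj I, fun ⟨F, hF, e⟩ => e ▸ hfill F hF⟩
  refine ⟨by rw [himg, card_image_of_injOn hinj, hsix], fun b hb => ?_⟩
  rw [← filter_filter, himg, filter_image, card_image_of_injOn (hinj.mono (coe_subset.2 (filter_subset _ _))),
    filter_congr (q := fun F => toCls h hb ∈ F) (fun F _ => hfillmem F b hb), htwo]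

/-- The graph is the block graph of an S(3,6,22). -/
theorem exists_block :
    ∃ B : Set (Finset {I // I ∈ coc h}), Fintype.card {I // I ∈ coc h} = 22 ∧ IsSteinerSystem 3 6 B ∧
      Nonempty (G ≃g blockGraph B) := by
  have hcase : ∀ x y : V, x = y ∨ G.Adj x y ∨ y ∈ far G x := fun x y => by
    rw [mem_far]; tauto
  set α := {I // I ∈ coc h}
  let bl : V → Finset α := fun x => univ.filter fun I => x ∈ I.1
  have hcnt : ∀ (P : Finset V → Prop) [DecidablePred P],
      (univ.filter fun I : α => P I.1).card = ((coc h).filter P).card := by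
    intro P _
    rw [← card_map (Function.Embedding.subtype _)]
    congr 1
    ext I
    simp [α, and_comm]
  have h6 : ∀ x, (bl x).card = 6 := fun x => (hcnt fun I => x ∈ I).trans (coc_counts h x).1
  have hint : ∀ x y, y ∈ far G x → (bl x ∩ bl y).card = 2 := fun x y hy => by
    rw [← (coc_counts h x).2 y hy, ← hcnt fun I => x ∈ I ∧ y ∈ I]
    congr 1; ext I; simp [bl]
  have hdis : ∀ x y, G.Adj x y → Disjoint (bl x) (bl y) := fun x y hxy =>
    disjoint_left.2 fun I hx hy => by
      simp only [bl, mem_filter, mem_univ, true_and] at hx hy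
      exact ((mem_coc h).1 I.2).2 x hx y hy hxy
  have hle : ∀ x y, x ≠ y → (bl x ∩ bl y).card < 3 := fun x y hne => by
    rcases hcase x y with e | e | e
    · exact absurd e hne
    · rw [disjoint_iff_inter_eq_empty.1 (hdis x y e), card_empty]; norm_num
    · rw [hint x y e]; norm_num
  have hinj : Function.Injective bl := fun x y e => by
    by_contra hne
    have := hle x y hne
    rw [e, inter_self, h6] at this
    omega
  have hα : Fintype.card α = 22 := by
    have hc := sum_card_bipartiteAbove_eq_sum_card_bipartiteBelow (fun (x : V) (I : α) => x ∈ I.1)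
      (s := univ) (t := (univ : Finset α))
    rw [sum_congr rfl (f := fun x => (bipartiteAbove (fun (x : V) (I : α) => x ∈ I.1) univ x).card)
      (g := fun _ => 6) (fun x _ => h6 x), sum_congr rfl (f := fun I => (bipartiteBelow (fun (x : V) (I : α) => x ∈ I.1) univ I).card)
      (g := fun _ => 21) (fun I _ => by
      rw [bipartiteBelow, filter_univ_mem]; exact ((mem_coc h).1 I.2).1),
      sum_const, sum_const, card_univ, card_univ, h.card, smul_eq_mul, smul_eq_mul] at hc
    omega
  refine ⟨((univ.image bl : Finset (Finset α)) : Set (Finset α)), hα, ?_, ?_⟩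
  · refine isSteinerSystem_of_count _ (fun b hb => ?_) (fun b hb c hc hne => ?_) ?_
    · obtain ⟨x, -, rfl⟩ := mem_image.1 hb; exact h6 x
    · obtain ⟨x, -, rfl⟩ := mem_image.1 hb
      obtain ⟨y, -, rfl⟩ := mem_image.1 hc
      exact hle x y fun e => hne (e ▸ rfl)
    · rw [card_image_of_injective _ hinj, card_univ, h.card, hα]; decide
  · have hbij : Function.Bijective (fun x => (⟨bl x, mem_coe.2 (mem_image_of_mem _ (mem_univ x))⟩ :
        ((univ.image bl : Finset (Finset α)) : Set (Finset α)))) := by
      refine ⟨fun x y e => hinj (congrArg Subtype.val e), fun b => ?_⟩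
      obtain ⟨x, -, e⟩ := mem_image.1 (mem_coe.1 b.2)
      exact ⟨x, Subtype.ext e⟩
    refine ⟨⟨Equiv.ofBijective _ hbij, fun {x y} => ?_⟩⟩
    simp only [blockGraph, SimpleGraph.fromRel_adj, Equiv.ofBijective_apply, ne_eq, hbij.1.eq_iff]
    refine ⟨fun ⟨hne, hd⟩ => ?_, fun hxy => ⟨hxy.ne, Or.inl (hdis x y hxy)⟩⟩
    rcases hcase x y with e | e | e
    · exact absurd e hne
    · exact e
    · have := hint x y e
      rcases hd with hd | hd
      · rw [disjoint_iff_inter_eq_empty.1 hd, card_empty] at this; omega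
      · rw [disjoint_iff_inter_eq_empty.1 hd.symm, card_empty] at this; omega

omit h in
/-- Uniqueness of the graph on 77 vertices. -/
theorem unique77 {V W : Type*} [Fintype V] [Fintype W] {G : SimpleGraph V} {H : SimpleGraph W}
    [DecidableRel G.Adj] [DecidableRel H.Adj] (hG : G.IsSRGWith 77 16 0 4) (hH : H.IsSRGWith 77 16 0 4) :
    Nonempty (G ≃g H) := by
  classical
  obtain ⟨B, hα, hB, ⟨f⟩⟩ := exists_block hG
  obtain ⟨B', hβ, hB', ⟨f'⟩⟩ := exists_block hH
  obtain ⟨e⟩ := blockGraph_congr (S22.unique22 hα hβ hB hB')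
  exact ⟨(f.trans e).trans f'.symm⟩

end CfsgLib.Mathieu.GraphSeventySeven
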