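import Cfsg.Agent.Mathieu.CodeUnique

/-!
Uniqueness of the Golay code, for submodules.
-/

set_option autoImplicit false

namespace CfsgLib.Mathieu

open Cfsg Finset
open scoped symmDiff

theorem support₂_injective {α : Type*} [Fintype α] :
    Function.Injective (support₂ : (α → ZMod 2) → Finset α) := fun v w h => funext fun a => by
  have := Finset.ext_iff.1 h a
  simp only [support₂, mem_filter, mem_univ, true_and] at this
  revert this
  generalize v a = x
  generalize w a = y
  revert x y
  decide

theorem support₂_add {α : Type*} [Fintype α] [DecidableEq α] (v w : α → ZMod 2) :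
    support₂ (v + w) = support₂ v ∆ support₂ w := by
  ext a
  simp only [support₂, mem_filter, mem_univ, true_and, Finset.mem_symmDiff, Pi.add_apply]
  generalize v a = x
  generalize w a = y
  revert x y
  decide

theorem submodule_exists_equiv (C : Submodule (ZMod 2) (Fin 24 → ZMod 2))
    (hdim : Module.finrank (ZMod 2) C = 12) (h4 : ∀ w ∈ C, 4 ∣ hammingNorm w)
    (hno4 : ∀ w ∈ C, hammingNorm w ≠ 4) :
    ∃ e : Fin 24 ≃ GolayPt,
      ∀ w : GolayPt → ZMod 2, w ∈ golayCode ↔ (fun i => w (e i)) ∈ C := by
  classical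
  let F : Finset (Finset (Fin 24)) := (univ.filter fun w => w ∈ C).image support₂
  have hmem : ∀ s, s ∈ F ↔ ∃ w ∈ C, support₂ w = s := by simp [F]
  have hF : IsGolayFamily F := by
    refine ⟨Fintype.card_fin 24, ?_, (hmem _).2 ⟨0, zero_mem C, by ext; simp [support₂]⟩, ?_, ?_, ?_⟩
    · rw [card_image_of_injective _ support₂_injective, ← Fintype.card_subtype]
      have h := Module.card_eq_pow_finrank (K := ZMod 2) (V := C)
      rw [hdim, ZMod.card] at h
      exact h
    · intro a ha b hb
      obtain ⟨v, hv, rfl⟩ := (hmem a).1 ha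
      obtain ⟨w, hw, rfl⟩ := (hmem b).1 hb
      exact (hmem _).2 ⟨v + w, add_mem hv hw, support₂_add v w⟩
    · intro a ha
      obtain ⟨v, hv, rfl⟩ := (hmem a).1 ha
      exact h4 v hv
    · intro a ha
      obtain ⟨v, hv, rfl⟩ := (hmem a).1 ha
      exact hno4 v hv
  obtain ⟨e, he⟩ := hF.exists_equiv
  refine ⟨e, fun w => ?_⟩
  have himg : (support₂ fun i => w (e i)).image e = support₂ w := by
    ext p
    obtain ⟨i, rfl⟩ := e.surjective p
    rw [e.injective.mem_finset_image]
    simp [support₂]
  have h := he (support₂ fun i => w (e i))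
  rw [himg, hmem] at h
  constructor
  · intro hw
    obtain ⟨v, hv, hvs⟩ := h.2 ⟨w, hw, rfl⟩
    rwa [← support₂_injective hvs]
  · intro hw
    obtain ⟨v, hv, hvs⟩ := h.1 ⟨_, hw, rfl⟩
    rwa [← support₂_injective hvs]

end CfsgLib.Mathieu
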