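import Cfsg.Agent.Mathieu.Steiner22Aut
import Cfsg.Agent.Mathieu.Steiner11

/-!
Strongly regular graphs with parameters (100, 22, 0, 6) are point-block graphs of S(3,6,22).
-/

set_option autoImplicit false

namespace CfsgLib.Mathieu.GraphUnique

open Cfsg Finset

/-- Isomorphic set systems have isomorphic point-block graphs. -/
theorem pointBlockGraph_congr {α β : Type*} [DecidableEq β] {B : Set (Finset α)} {B' : Set (Finset β)}
    (h : SetSystemIso B B') : Nonempty (pointBlockGraph B ≃g pointBlockGraph B') := by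
  obtain ⟨e, he⟩ := h
  have hg : ∀ b : B, b.1.image e ∈ B' := fun b => he ▸ Set.mem_image_of_mem _ b.2
  have hbij : Function.Bijective (fun b : B => (⟨b.1.image e, hg b⟩ : B')) := by
    refine ⟨fun b c h => Subtype.ext (image_injective e.injective (congrArg Subtype.val h)), fun c => ?_⟩
    obtain ⟨b, hb, hbc⟩ : c.1 ∈ (fun b : Finset α => b.image e) '' B := he.symm ▸ c.2
    exact ⟨⟨b, hb⟩, Subtype.ext hbc⟩
  let f := (e.sumCongr (Equiv.ofBijective _ hbij)).optionCongr
  have hd : ∀ b c : B, Disjoint (b.1.image e) (c.1.image e) ↔ Disjoint b.1 c.1 :=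
    fun b c => disjoint_image e.injective
  have hm : ∀ a (b : B), e a ∈ b.1.image e ↔ a ∈ b.1 := fun a b => e.injective.mem_finset_image
  have hrel : ∀ v w, pointBlockRel B' (f v) (f w) ↔ pointBlockRel B v w := by
    intro v w
    rcases v with _ | a | b <;> rcases w with _ | a' | c <;> simp [f, pointBlockRel, hd, hm]
  exact ⟨⟨f, fun {v w} => by
    simp only [pointBlockGraph, SimpleGraph.fromRel_adj, hrel, ne_eq, EmbeddingLike.apply_eq_iff_eq]⟩⟩

/-- Isomorphic set systems have isomorphic block graphs. -/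
theorem blockGraph_congr {α β : Type*} [DecidableEq β] {B : Set (Finset α)} {B' : Set (Finset β)}
    (h : SetSystemIso B B') : Nonempty (blockGraph B ≃g blockGraph B') := by
  obtain ⟨e, he⟩ := h
  have hg : ∀ b : B, b.1.image e ∈ B' := fun b => he ▸ Set.mem_image_of_mem _ b.2
  have hbij : Function.Bijective (fun b : B => (⟨b.1.image e, hg b⟩ : B')) := by
    refine ⟨fun b c h => Subtype.ext (image_injective e.injective (congrArg Subtype.val h)), fun c => ?_⟩
    obtain ⟨b, hb, hbc⟩ : c.1 ∈ (fun b : Finset α => b.image e) '' B := he.symm ▸ c.2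
    exact ⟨⟨b, hb⟩, Subtype.ext hbc⟩
  refine ⟨⟨Equiv.ofBijective _ hbij, fun {v w} => ?_⟩⟩
  have hd : ∀ b c : B, Disjoint (b.1.image e) (c.1.image e) ↔ Disjoint b.1 c.1 :=
    fun b c => disjoint_image e.injective
  simp only [blockGraph, SimpleGraph.fromRel_adj, Equiv.ofBijective_apply, hd, ne_eq,
    hbij.1.eq_iff]

section
variable {V : Type*} [Fintype V] [DecidableEq V] {G : SimpleGraph V} [DecidableRel G.Adj]
  {n k μ : ℕ}

theorem card_common (h : G.IsSRGWith n k 0 μ) (v w : V) :
    (G.neighborFinset v ∩ G.neighborFinset w).card =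
      if v = w then k else if G.Adj v w then 0 else μ := by
  split_ifs with h1 h2
  · subst h1; rw [inter_self, G.card_neighborFinset_eq_degree]; exact h.regular v
  all_goals
    have hc : Fintype.card (G.commonNeighbors v w) = (G.neighborFinset v ∩ G.neighborFinset w).card := by
      rw [← Set.toFinset_card]
      congr 1
      ext z
      simp [SimpleGraph.mem_commonNeighbors]
  · rw [← hc]; exact h.of_adj v w h2
  · rw [← hc]; exact h.of_not_adj h1 h2

theorem not_adj_of_common (h : G.IsSRGWith n k 0 μ) {u v w : V} (huv : G.Adj u v) (huw : G.Adj u w) :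
    ¬ G.Adj v w := fun hvw => by
  have := card_common h v w
  rw [if_neg hvw.ne, if_pos hvw, card_eq_zero] at this
  exact notMem_empty u (this ▸ mem_inter.2 ⟨(G.mem_neighborFinset _ _).2 huv.symm,
    (G.mem_neighborFinset _ _).2 huw.symm⟩)

/-- The vertices neither equal nor adjacent to `o`. -/
def far (G : SimpleGraph V) [DecidableRel G.Adj] (o : V) : Finset V :=
  univ.filter fun w => w ≠ o ∧ ¬ G.Adj o w

theorem mem_far {o w : V} : w ∈ far G o ↔ w ≠ o ∧ ¬ G.Adj o w := by simp [far]

theorem card_far (h : G.IsSRGWith n k 0 μ) (o : V) : (far G o).card + (k + 1) = n := by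
  have hd : Disjoint (far G o) (insert o (G.neighborFinset o)) := disjoint_left.2 fun w h1 h2 => by
    rw [mem_far] at h1
    rcases mem_insert.1 h2 with e | e
    exacts [h1.1 e, h1.2 ((G.mem_neighborFinset _ _).1 e)]
  have hu : far G o ∪ insert o (G.neighborFinset o) = univ := eq_univ_of_forall fun w => by
    simp only [mem_union, mem_far, mem_insert, SimpleGraph.mem_neighborFinset]
    tauto
  rw [← h.card, ← card_univ, ← hu, card_union_of_disjoint hd,
    card_insert_of_notMem (by simp), G.card_neighborFinset_eq_degree, h.regular o]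

/-- The neighbours shared with `o`. -/
def trace (G : SimpleGraph V) [DecidableRel G.Adj] (o w : V) : Finset V :=
  G.neighborFinset o ∩ G.neighborFinset w

theorem card_trace (h : G.IsSRGWith n k 0 μ) {o w : V} (hw : w ∈ far G o) : (trace G o w).card = μ := by
  rw [mem_far] at hw
  rw [trace, card_common h, if_neg (Ne.symm hw.1), if_neg hw.2]

theorem sum_inter_far (h : G.IsSRGWith n k 0 μ) {o b : V} (hb : b ∈ far G o) :
    (∑ w ∈ far G o, (trace G o b ∩ trace G o w).card = μ * (k - 1)) ∧
    ∑ w ∈ far G o, (trace G o b ∩ trace G o w).card ^ 2 = μ * (k - 1) + (μ * μ - μ) * (μ - 1) := by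
  set T := trace G o b with hT
  have hTo : ∀ p ∈ T, G.Adj o p := fun p hp => (G.mem_neighborFinset _ _).1 (mem_inter.1 hp).1
  have hinter : ∀ w, T ∩ trace G o w = T.filter fun p => G.Adj p w := fun w => by
    ext p
    simp only [mem_inter, mem_filter, trace, SimpleGraph.mem_neighborFinset]
    exact ⟨fun hp => ⟨hp.1, hp.2.2.symm⟩, fun hp => ⟨hp.1, hTo p hp.1, hp.2.symm⟩⟩
  have hfar : ∀ p ∈ T, ∀ w, G.Adj p w → (w ∈ far G o ↔ w ≠ o) := fun p hp w hpw => by
    rw [mem_far]
    exact ⟨fun hw => hw.1, fun hw => ⟨hw, not_adj_of_common h (hTo p hp).symm hpw⟩⟩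
  have h1 : ∀ p ∈ T, ((far G o).filter fun w => G.Adj p w).card = k - 1 := fun p hp => by
    have : (far G o).filter (fun w => G.Adj p w) = (G.neighborFinset p).erase o := by
      ext w
      simp only [mem_filter, mem_erase, SimpleGraph.mem_neighborFinset]
      exact ⟨fun hw => ⟨(hfar p hp w hw.2).1 hw.1, hw.2⟩, fun hw => ⟨(hfar p hp w hw.2).2 hw.1, hw.2⟩⟩
    rw [this, card_erase_of_mem ((G.mem_neighborFinset _ _).2 (hTo p hp).symm),
      G.card_neighborFinset_eq_degree, h.regular p]
  have h2 : ∀ p ∈ T, ∀ q ∈ T, p ≠ q → ((far G o).filter fun w => G.Adj p w ∧ G.Adj q w).card = μ - 1 :=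
    fun p hp q hq hpq => by
    have : (far G o).filter (fun w => G.Adj p w ∧ G.Adj q w) =
        (G.neighborFinset p ∩ G.neighborFinset q).erase o := by
      ext w
      simp only [mem_filter, mem_erase, mem_inter, SimpleGraph.mem_neighborFinset]
      exact ⟨fun hw => ⟨(hfar p hp w hw.2.1).1 hw.1, hw.2⟩, fun hw => ⟨(hfar p hp w hw.2.1).2 hw.1, hw.2⟩⟩
    rw [this, card_erase_of_mem (mem_inter.2 ⟨(G.mem_neighborFinset _ _).2 (hTo p hp).symm,
      (G.mem_neighborFinset _ _).2 (hTo q hq).symm⟩), card_common h, if_neg hpq,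
      if_neg (not_adj_of_common h (hTo p hp) (hTo q hq))]
  constructor
  · rw [sum_congr rfl fun w _ => congrArg card (hinter w)]
    refine (sum_card_bipartiteAbove_eq_sum_card_bipartiteBelow (fun w p => G.Adj p w)).trans ?_
    refine Eq.trans (sum_congr rfl (g := fun _ => k - 1) fun p hp => h1 p hp) ?_
    rw [sum_const, smul_eq_mul, show T.card = μ from card_trace h hb]
  · have hsq : ∀ w ∈ far G o, (T ∩ trace G o w).card ^ 2 =
        (bipartiteAbove (fun w (pq : V × V) => G.Adj pq.1 w ∧ G.Adj pq.2 w) (T ×ˢ T) w).card := by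
      intro w _
      rw [hinter, sq, ← card_product, ← filter_product, bipartiteAbove]
    rw [sum_congr rfl hsq, sum_card_bipartiteAbove_eq_sum_card_bipartiteBelow]
    have hval : ∀ pq ∈ T ×ˢ T,
        (bipartiteBelow (fun w (pq : V × V) => G.Adj pq.1 w ∧ G.Adj pq.2 w) (far G o) pq).card =
          if pq.1 = pq.2 then k - 1 else μ - 1 := by
      rintro ⟨p, q⟩ hpq
      obtain ⟨hp, hq⟩ := mem_product.1 hpq
      split_ifs with e
      · dsimp only at e
        subst e
        simpa [bipartiteBelow] using h1 p hp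
      · exact h2 p hp q hq e
    have hdiag : (T ×ˢ T).filter (fun pq => pq.1 = pq.2) = T.diag := by
      ext ⟨p, q⟩; simp only [mem_filter, mem_product, mem_diag]
      exact ⟨fun h => ⟨h.1.1, h.2⟩, fun h => ⟨⟨h.1, h.2 ▸ h.1⟩, h.2⟩⟩
    have hoff : (T ×ˢ T).filter (fun pq => ¬ pq.1 = pq.2) = T.offDiag := by
      ext ⟨p, q⟩; simp only [mem_filter, mem_product, mem_offDiag, and_assoc, ne_eq]
    rw [sum_congr rfl hval, sum_ite, sum_const, sum_const, hdiag, hoff, diag_card, offDiag_card,
      show T.card = μ from card_trace h hb, smul_eq_mul, smul_eq_mul]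

theorem card_far_adj (h : G.IsSRGWith n k 0 μ) {o b : V} (hb : b ∈ far G o) :
    ((far G o).filter fun w => G.Adj b w).card + μ = k := by
  have hb' := mem_far.1 hb
  have hu : (far G o).filter (fun w => G.Adj b w) ∪ trace G o b = G.neighborFinset b := by
    ext w
    simp only [mem_union, mem_filter, mem_far, trace, mem_inter, SimpleGraph.mem_neighborFinset]
    constructor
    · rintro (h1 | h1) <;> exact h1.2
    · intro hw
      have hwo : w ≠ o := fun e => hb'.2 (e ▸ hw).symm
      tauto
  have hd : Disjoint ((far G o).filter fun w => G.Adj b w) (trace G o b) :=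
    disjoint_left.2 fun w h1 h2 => (mem_far.1 (mem_filter.1 h1).1).2
      ((G.mem_neighborFinset _ _).1 (mem_inter.1 h2).1)
  have := card_union_of_disjoint hd
  rw [hu, G.card_neighborFinset_eq_degree, h.regular b, card_trace h hb] at this
  exact this.symm

/-- In a (100,22,0,6) graph the traces of two far vertices meet in 0 or 2 points, by adjacency. -/
theorem inter_trace (h : G.IsSRGWith 100 22 0 6) {o b c : V} (hb : b ∈ far G o) (hc : c ∈ far G o)
    (hne : b ≠ c) : (trace G o b ∩ trace G o c).card = if G.Adj b c then 0 else 2 := by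
  obtain ⟨s1, s2⟩ := sum_inter_far h hb
  set f := fun w => (trace G o b ∩ trace G o w).card
  have hadj : ∀ w, G.Adj b w → f w = 0 := fun w hw => by
    refine card_eq_zero.2 (eq_empty_of_forall_notMem fun p hp => ?_)
    simp only [trace, mem_inter, SimpleGraph.mem_neighborFinset] at hp
    exact not_adj_of_common h hp.1.2.symm hp.2.2.symm hw
  split_ifs with hbc
  · exact hadj c hbc
  set R := ((far G o).erase b).filter fun w => ¬ G.Adj b w with hR
  have hRcard : R.card = 60 := by
    have h1 := card_far h o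
    have h2 := card_far_adj h hb
    have h3 := card_filter_add_card_filter_not (s := (far G o).erase b) fun w => G.Adj b w
    have h4 : ((far G o).erase b).filter (fun w => G.Adj b w) = (far G o).filter fun w => G.Adj b w := by
      rw [filter_erase, erase_eq_of_notMem (by simp)]
    rw [h4, card_erase_of_mem hb, ← hR] at h3
    omega
  have hsplit : ∀ F : ℕ → ℕ, F 0 = 0 → ∑ w ∈ far G o, F (f w) = F 6 + ∑ w ∈ R, F (f w) := by
    intro F hF
    rw [← add_sum_erase _ _ hb, show f b = 6 by
      show (trace G o b ∩ trace G o b).card = 6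
      rw [inter_self, card_trace h hb], hR, sum_filter_of_ne]
    exact fun w _ hw hbw => hw (by rw [hadj w hbw, hF])
  have t1 := hsplit id rfl
  have t2 := hsplit (fun x => x ^ 2) rfl
  simp only [id_eq] at t1
  rw [show ∑ w ∈ far G o, f w = 126 from s1] at t1
  rw [show ∑ w ∈ far G o, f w ^ 2 = 276 from s2] at t2
  have hz : ∑ w ∈ R, ((f w : ℤ) - 2) ^ 2 = 0 := by
    have e : ∀ w ∈ R, ((f w : ℤ) - 2) ^ 2 = (f w : ℤ) ^ 2 - 4 * (f w : ℤ) + 4 := fun w _ => by ring
    rw [sum_congr rfl e, sum_add_distrib, sum_sub_distrib, ← mul_sum, sum_const, hRcard]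
    have t1' : ((∑ w ∈ R, f w : ℕ) : ℤ) = 120 := by exact_mod_cast (show ∑ w ∈ R, f w = 120 by omega)
    have t2' : ((∑ w ∈ R, f w ^ 2 : ℕ) : ℤ) = 240 := by
      exact_mod_cast (show ∑ w ∈ R, f w ^ 2 = 240 by norm_num at t2 ⊢; omega)
    push_cast at t1' t2'
    rw [t1', t2']
    norm_num
  have := (sum_eq_zero_iff_of_nonneg fun w _ => sq_nonneg _).1 hz c
    (mem_filter.2 ⟨mem_erase.2 ⟨hne.symm, hc⟩, hbc⟩)
  have h2 : (f c : ℤ) = 2 := by
    have := pow_eq_zero_iff (n := 2) (by norm_num) |>.1 this
    omega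
  exact_mod_cast h2

/-- The graph is the point-block graph of an S(3,6,22). -/
theorem exists_pointBlock (h : G.IsSRGWith 100 22 0 6) :
    ∃ (o : V) (B : Set (Finset {p // p ∈ G.neighborFinset o})),
      Fintype.card {p // p ∈ G.neighborFinset o} = 22 ∧ IsSteinerSystem 3 6 B ∧
        Nonempty (G ≃g pointBlockGraph B) := by
  obtain ⟨o⟩ : Nonempty V := Fintype.card_pos_iff.1 (by rw [h.card]; norm_num)
  set α := {p // p ∈ G.neighborFinset o}
  let bl : V → Finset α := fun w => univ.filter fun p => G.Adj p.1 w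
  have hbl : ∀ w c, (bl w ∩ bl c).card = (trace G o w ∩ trace G o c).card := fun w c => by
    rw [← card_map (Function.Embedding.subtype _)]
    congr 1
    ext p
    simp only [bl, trace, mem_map, mem_inter, mem_filter, mem_univ, true_and,
      Function.Embedding.subtype_apply, SimpleGraph.mem_neighborFinset]
    constructor
    · rintro ⟨q, ⟨h1, h2⟩, rfl⟩
      exact ⟨⟨(G.mem_neighborFinset _ _).1 q.2, h1.symm⟩, (G.mem_neighborFinset _ _).1 q.2, h2.symm⟩
    · rintro ⟨⟨h1, h2⟩, -, h3⟩
      exact ⟨⟨p, (G.mem_neighborFinset _ _).2 h1⟩, ⟨h2.symm, h3.symm⟩, rfl⟩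
  have hcard : ∀ w ∈ far G o, (bl w).card = 6 := fun w hw => by
    rw [← inter_self (bl w), hbl, inter_self, card_trace h hw]
  have hint : ∀ w ∈ far G o, ∀ c ∈ far G o, w ≠ c → (bl w ∩ bl c).card = if G.Adj w c then 0 else 2 :=
    fun w hw c hc hne => (hbl w c).trans (inter_trace h hw hc hne)
  have hinj : Set.InjOn bl (far G o) := fun w hw c hc e => by
    by_contra hne
    have := hint w hw c hc hne
    rw [e, inter_self, hcard c hc] at this
    split_ifs at this <;> omega
  have hα : Fintype.card α = 22 := by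
    rw [Fintype.card_coe, G.card_neighborFinset_eq_degree, h.regular o]
  set B : Set (Finset α) := (((far G o).image bl : Finset (Finset α)) : Set (Finset α)) with hBdef
  have hB : IsSteinerSystem 3 6 B := by
    refine isSteinerSystem_of_count _ (fun b hb => ?_) (fun b hb c hc hne => ?_) ?_
    · obtain ⟨w, hw, rfl⟩ := mem_image.1 hb; exact hcard w hw
    · obtain ⟨w, hw, rfl⟩ := mem_image.1 hb
      obtain ⟨v, hv, rfl⟩ := mem_image.1 hc
      rw [hint w hw v hv (fun e => hne (e ▸ rfl))]
      split_ifs <;> norm_num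
    · have := card_far h o
      rw [card_image_of_injOn hinj, hα, show (far G o).card = 77 by omega]
      decide
  refine ⟨o, B, hα, hB, ?_⟩
  have hmem : ∀ b : B, ∃ w ∈ far G o, bl w = b.1 := fun b => mem_image.1 (mem_coe.1 b.2)
  choose g hg hgb using hmem
  let F : Option (α ⊕ B) → V
    | none => o
    | some (.inl p) => p.1
    | some (.inr b) => g b
  have hP : ∀ p : α, G.Adj o p.1 := fun p => (G.mem_neighborFinset _ _).1 p.2
  have hgdis : ∀ b c : B, b ≠ c → (G.Adj (g b) (g c) ↔ Disjoint b.1 c.1) := fun b c hne => by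
    have hgne : g b ≠ g c := fun e => hne (Subtype.ext (by rw [← hgb b, e, hgb c]))
    have := hint _ (hg b) _ (hg c) hgne
    rw [hgb, hgb] at this
    rw [disjoint_iff_inter_eq_empty, ← card_eq_zero, this]
    split_ifs with hh <;> simp [hh]
  have hpg : ∀ (p : α) (b : B), G.Adj p.1 (g b) ↔ p ∈ b.1 := fun p b => by
    rw [← hgb b]; simp [bl]
  have hFinj : Function.Injective F := by
    intro x y e
    rcases x with _ | p | b <;> rcases y with _ | q | c
    · rfl
    · exact absurd e (hP q).ne
    · exact absurd e.symm (mem_far.1 (hg c)).1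
    · exact absurd e.symm (hP p).ne
    · exact congrArg (some ∘ Sum.inl) (Subtype.ext e)
    · exact absurd ((show p.1 = g c from e) ▸ hP p) (mem_far.1 (hg c)).2
    · exact absurd e (mem_far.1 (hg b)).1
    · exact absurd ((show g b = q.1 from e).symm ▸ hP q) (mem_far.1 (hg b)).2
    · exact congrArg (some ∘ Sum.inr) (Subtype.ext (by rw [← hgb b, show g b = g c from e, hgb c]))
  have hB77 : Fintype.card B = 77 := by
    rw [Fintype.card_congr (Equiv.subtypeEquivRight (q := fun b => b ∈ (far G o).image bl) fun b => mem_coe),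
      Fintype.card_coe, card_image_of_injOn hinj]
    have := card_far h o
    omega
  have hFbij : Function.Bijective F := (Fintype.bijective_iff_injective_and_card F).2 ⟨hFinj, by
    rw [Fintype.card_option, Fintype.card_sum, hα, hB77, h.card]⟩
  refine ⟨RelIso.symm ⟨Equiv.ofBijective F hFbij, fun {x y} => ?_⟩⟩
  simp only [Equiv.ofBijective_apply, pointBlockGraph, SimpleGraph.fromRel_adj]
  have hb0 : ∀ b : B, ¬ G.Adj o (g b) := fun b => (mem_far.1 (hg b)).2
  rcases x with _ | p | b <;> rcases y with _ | q | c <;> simp only [F, pointBlockRel]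
  · simp
  · simp [hP q]
  · simp [hb0 c]
  · simp [(hP p).symm]
  · simp [not_adj_of_common h (hP p) (hP q)]
  · simp [hpg]
  · simp [G.adj_comm (g b) o, hb0 b]
  · simp [G.adj_comm (g b), hpg]
  · by_cases e : b = c
    · subst e; simp
    · simp only [ne_eq, Option.some.injEq, Sum.inr.injEq, e, not_false_eq_true, true_and, hgdis b c e]
      exact ⟨Or.inl, fun h' => h'.elim id fun x => x.symm⟩

end

/-- Uniqueness of the graph of Higman and Sims. -/
theorem unique100 {V W : Type*} [Fintype V] [Fintype W] {G : SimpleGraph V} {H : SimpleGraph W}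
    [DecidableRel G.Adj] [DecidableRel H.Adj] (hG : G.IsSRGWith 100 22 0 6)
    (hH : H.IsSRGWith 100 22 0 6) : Nonempty (G ≃g H) := by
  classical
  obtain ⟨o, B, hα, hB, ⟨f⟩⟩ := exists_pointBlock hG
  obtain ⟨o', B', hβ, hB', ⟨f'⟩⟩ := exists_pointBlock hH
  obtain ⟨e⟩ := pointBlockGraph_congr (S22.unique22 hα hβ hB hB')
  exact ⟨(f.trans e).trans f'.symm⟩

end CfsgLib.Mathieu.GraphUnique
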