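import Cfsg.Agent.MEleven.CommutingGraph

/-!
Involution centralisers and Sylow 3-normalisers in `Cfsg.Spor.M11`, carried to isomorphic groups.
-/

set_option autoImplicit false

namespace CfsgLib.MElevenLocal

open Cfsg CfsgLib.MEleven CfsgLib.CommutingGraph

/-- The codes of a Sylow 3-subgroup. -/
def threeList : List ℕ := [2724775286800, 3455478883600, 5107394114320, 6062924534800, 6971858659600,
  7942814467600, 9219536669200, 10197150607120, 11649936536080]

/-- Whether a code normalises the list. -/
def normalises (g : ℕ) : Bool :=
  threeList.all fun p => threeList.any fun q => mulC g p == mulC q g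

set_option maxRecDepth 100000 in
theorem threeList_closed : threeList.all (fun p => threeList.all fun q =>
    threeList.contains (mulC p q) && els.contains p) = true := by decide +kernel

set_option maxRecDepth 100000 in
theorem normalises_count : (els.filter normalises).length = 144 := by decide +kernel

set_option maxRecDepth 100000 in
theorem involution_marked :
    els.all (fun a => !(mulC a a == one) || a == one || marked a) = true := by decide +kernel

/-- A Sylow 3-subgroup. -/
def threeSubgroup : Subgroup Spor.M11 where
  carrier := {g | enc g ∈ threeList}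
  one_mem' := by show enc 1 ∈ threeList; rw [enc_one]; decide
  mul_mem' := fun {a b} ha hb => by
    have := List.all_eq_true.1 (List.all_eq_true.1 threeList_closed _ ha) _ hb
    simp only [Bool.and_eq_true, List.contains_iff_mem] at this
    show enc (a * b) ∈ threeList
    rw [enc_mul]; exact this.1
  inv_mem' := fun {a} ha => by
    have hpow : ∀ k : ℕ, enc (a ^ k) ∈ threeList := by
      intro k
      induction k with
      | zero => rw [pow_zero, enc_one]; decide
      | succ k ih =>
        have := List.all_eq_true.1 (List.all_eq_true.1 threeList_closed _ ih) _ ha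
        simp only [Bool.and_eq_true, List.contains_iff_mem] at this
        rw [pow_succ, enc_mul]; exact this.1
    show enc a⁻¹ ∈ threeList
    rw [inv_eq_of_mul_eq_one_right (show a * a ^ (orderOf a - 1) = 1 by
      rw [← pow_succ', Nat.sub_add_cancel (orderOf_pos a), pow_orderOf_eq_one])]
    exact hpow _

theorem mem_threeSubgroup {g : Spor.M11} : g ∈ threeSubgroup ↔ enc g ∈ threeList := Iff.rfl

theorem card_threeSubgroup : Nat.card threeSubgroup = 9 := by
  rw [card_eq_length (fun g : threeSubgroup => enc g.1) (fun a b h => Subtype.ext (enc_injective h))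
    (els := threeList) (by decide) fun a => ?_]
  · rfl
  refine ⟨fun ha => ?_, fun ⟨g, hg⟩ => hg ▸ g.2⟩
  have hels : a ∈ els := by
    have := List.all_eq_true.1 (List.all_eq_true.1 threeList_closed _ ha) _ ha
    simp only [Bool.and_eq_true, List.contains_iff_mem] at this
    exact this.2
  exact ⟨⟨decode a hels, by rw [mem_threeSubgroup, enc_decode]; exact ha⟩, enc_decode hels⟩

theorem mem_normalizer_iff {g : Spor.M11} :
    g ∈ Subgroup.normalizer (threeSubgroup : Set Spor.M11) ↔ normalises (enc g) = true := by
  simp only [normalises, List.all_eq_true, List.any_eq_true, beq_iff_eq]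
  constructor
  · intro hg p hp
    have hels : p ∈ els := by
      have := List.all_eq_true.1 (List.all_eq_true.1 threeList_closed _ hp) _ hp
      simp only [Bool.and_eq_true, List.contains_iff_mem] at this
      exact this.2
    have hm : decode p hels ∈ threeSubgroup := by rw [mem_threeSubgroup, enc_decode]; exact hp
    refine ⟨enc (g * decode p hels * g⁻¹), (Subgroup.mem_normalizer_iff.1 hg _).1 hm, ?_⟩
    conv_lhs => rw [← enc_decode hels, ← enc_mul]
    rw [← enc_mul]
    congr 1
    group
  · intro hg
    have hc : ∀ x ∈ threeSubgroup, g * x * g⁻¹ ∈ threeSubgroup := by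
      intro x hx
      obtain ⟨q, hq, e⟩ := hg (enc x) hx
      have hels : q ∈ els := by
        have := List.all_eq_true.1 (List.all_eq_true.1 threeList_closed _ hq) _ hq
        simp only [Bool.and_eq_true, List.contains_iff_mem] at this
        exact this.2
      have e' : g * x = decode q hels * g := enc_injective (by rw [enc_mul, enc_mul, enc_decode, e])
      rw [e', mul_inv_cancel_right, mem_threeSubgroup, enc_decode]
      exact hq
    rw [Subgroup.mem_normalizer_iff]
    refine fun x => ⟨hc x, fun hx => ?_⟩
    have himg : threeSubgroup.map (MulAut.conj g).toMonoidHom = threeSubgroup :=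
      Subgroup.eq_of_le_of_card_ge (fun _ ⟨y, hy, e⟩ => e ▸ hc y hy)
        (by rw [Subgroup.card_map_of_injective (MulAut.conj g).injective])
    rw [← himg] at hx
    obtain ⟨y, hy, e⟩ := hx
    rwa [← (MulAut.conj g).injective (e : MulAut.conj g y = MulAut.conj g x)]

theorem card_M11 : Nat.card Spor.M11 = 7920 := by
  rw [card_eq_length enc enc_injective els_nodup mem_els, els_length]

theorem card_normalizer_three (P : Sylow 3 Spor.M11) :
    Nat.card (Subgroup.normalizer ((P : Subgroup Spor.M11) : Set Spor.M11)) = 144 := by
  haveI := Fact.mk (show Nat.Prime 3 by norm_num)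
  have hN : Nat.card (Subgroup.normalizer (threeSubgroup : Set Spor.M11)) = 144 := by
    rw [card_eq_length (fun g : Subgroup.normalizer (threeSubgroup : Set Spor.M11) => enc g.1)
      (fun a b h => Subtype.ext (enc_injective h)) (els := els.filter normalises) (els_nodup.filter _)
      fun a => ?_, normalises_count]
    rw [List.mem_filter]
    constructor
    · rintro ⟨ha, hn⟩
      exact ⟨⟨decode a ha, mem_normalizer_iff.2 (by rw [enc_decode]; exact hn)⟩, enc_decode ha⟩
    · rintro ⟨g, rfl⟩
      exact ⟨(mem_els _).2 ⟨g.1, rfl⟩, mem_normalizer_iff.1 g.2⟩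
  let Q : Sylow 3 Spor.M11 := Sylow.ofCard threeSubgroup (by
    rw [card_threeSubgroup, card_M11, show (7920 : ℕ) = 3 ^ 2 * 880 by norm_num,
      Nat.factorization_mul (by norm_num) (by norm_num), Nat.factorization_pow]
    simp [Nat.Prime.factorization_self (show Nat.Prime 3 by norm_num),
      Nat.factorization_eq_zero_of_not_dvd (show ¬ 3 ∣ 880 by norm_num)])
  have h1 := (Subgroup.index_mul_card (Subgroup.normalizer ((P : Subgroup Spor.M11) : Set Spor.M11))).trans
    (Subgroup.index_mul_card (Subgroup.normalizer ((Q : Subgroup Spor.M11) : Set Spor.M11))).symm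
  have e : (Subgroup.normalizer ((P : Subgroup Spor.M11) : Set Spor.M11)).index =
      (Subgroup.normalizer ((Q : Subgroup Spor.M11) : Set Spor.M11)).index :=
    (Sylow.card_eq_index_normalizer P).symm.trans (Sylow.card_eq_index_normalizer Q)
  rw [e] at h1
  exact (Nat.eq_of_mul_eq_mul_left (Nat.pos_of_ne_zero Subgroup.index_ne_zero_of_finite) h1).trans hN

theorem card_centralizer_involution (x : Spor.M11) (hx : orderOf x = 2) :
    Nat.card (Subgroup.centralizer ({x} : Set Spor.M11)) = 48 := by
  have hone : enc (1 : Spor.M11) = one := enc_one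
  have hne : x ≠ 1 := fun e => by rw [e, orderOf_one] at hx; omega
  have h := List.all_eq_true.1 involution_marked (enc x) ((mem_els _).2 ⟨x, rfl⟩)
  have hsq : mulC (enc x) (enc x) = one := by
    rw [← enc_mul, ← pow_two, ← hx, pow_orderOf_eq_one, hone]
  simp only [hsq, beq_self_eq_true, Bool.not_true, Bool.false_or, Bool.or_eq_true, beq_iff_eq] at h
  have hm : marked (enc x) = true := h.resolve_left fun e => hne (enc_injective (e.trans hone.symm))
  refine (classify enc mulC commC enc_injective enc_mul commC_enc els_nodup mem_els ?_
    (hone.symm ▸ classify_ok) x hne).2 hm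
  intro s hs
  have h := List.all_eq_true.1 conjGens_ok s hs
  simp only [Bool.and_eq_true, List.contains_iff_mem, beq_iff_eq] at h
  obtain ⟨⟨ha, hb⟩, hab⟩ := h
  refine ⟨decode _ ha, enc_decode ha, ?_⟩
  have : decode _ ha * decode _ hb = 1 := enc_injective (by
    rw [enc_mul, enc_decode, enc_decode, hab, hone])
  rw [inv_eq_of_mul_eq_one_right this, enc_decode]

/-- Transport of the Sylow 3-normaliser order. -/
theorem card_normalizer_three_of_iso {G : Type*} [Group G] [Finite G] (e : G ≃* Spor.M11) (P : Sylow 3 G) :
    Nat.card (Subgroup.normalizer ((P : Subgroup G) : Set G)) = 144 := by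
  haveI := Fact.mk (show Nat.Prime 3 by norm_num)
  have hcard : Nat.card G = Nat.card Spor.M11 := Nat.card_congr e.toEquiv
  let Q : Sylow 3 Spor.M11 := Sylow.ofCard ((P : Subgroup G).map e.toMonoidHom) (by
    rw [Subgroup.card_map_of_injective e.injective, P.card_eq_multiplicity, hcard])
  rw [← card_normalizer_three Q,
    ← Subgroup.card_map_of_injective (K := Subgroup.normalizer ((P : Subgroup G) : Set G))
      (f := e.toMonoidHom) (show Function.Injective e.toMonoidHom from e.injective),
    Subgroup.map_equiv_normalizer_eq]
  rfl

/-- Transport of the involution centraliser order. -/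
theorem card_centralizer_of_iso {G : Type*} [Group G] [Finite G] (e : G ≃* Spor.M11) (x : G)
    (hx : orderOf x = 2) : Nat.card (Subgroup.centralizer ({x} : Set G)) = 48 := by
  rw [← card_centralizer_involution (e x) (by rw [MulEquiv.orderOf_eq, hx])]
  refine Nat.card_congr (e.toEquiv.subtypeEquiv fun g => ?_)
  simp only [Subgroup.mem_centralizer_singleton_iff]
  show g * x = x * g ↔ e g * e x = e x * e g
  rw [← map_mul, ← map_mul, e.injective.eq_iff]

end CfsgLib.MElevenLocal
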