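import Cfsg.Prelude.Def_Sporadic_a

/-!
Encoding of subsets of the 24 points `Cfsg.GolayPt` by 24-bit natural numbers, for kernel computations.
The residue `x` is the bit `x.val`, the extra point `none` is the bit 23.
-/

set_option autoImplicit false

namespace CfsgLib.Mathieu

open Cfsg

/-- Bit position of a point. -/
def idx : GolayPt → ℕ
  | none => 23
  | some x => x.val

/-- The point at a bit position. -/
def pt (i : ℕ) : GolayPt := if i < 23 then some (i : ZMod 23) else none

theorem idx_lt : ∀ p, idx p < 24 := by decide +kernel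

theorem pt_idx : ∀ p, pt (idx p) = p := by decide +kernel

theorem idx_pt {i : ℕ} (h : i < 24) : idx (pt i) = i :=
  (by decide +kernel : ∀ j < 24, idx (pt j) = j) i h

theorem idx_injective : Function.Injective idx :=
  fun a b h => by rw [← pt_idx a, ← pt_idx b, h]

/-- The points as `Fin 24`. -/
def enc : GolayPt ≃ Fin 24 where
  toFun p := ⟨idx p, idx_lt p⟩
  invFun i := pt i
  left_inv p := pt_idx p
  right_inv i := Fin.ext (idx_pt i.isLt)

/-- The set of points whose bits are on in `M`. -/
def setOf24 (M : ℕ) : Finset GolayPt := Finset.univ.filter fun p => M.testBit (idx p)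

/-- The word over `ZMod 2` with bit pattern `M`. -/
def wordOf (M : ℕ) : GolayPt → ZMod 2 := fun p => if M.testBit (idx p) then 1 else 0

@[simp] theorem mem_setOf24 {M : ℕ} {p : GolayPt} : p ∈ setOf24 M ↔ M.testBit (idx p) = true := by
  simp [setOf24]

theorem support₂_wordOf (M : ℕ) : support₂ (wordOf M) = setOf24 M := by
  ext p; cases h : M.testBit (idx p) <;> simp [support₂, wordOf, h]

theorem wordOf_xor (M N : ℕ) : wordOf (M ^^^ N) = wordOf M + wordOf N := by
  ext p
  simp only [wordOf, Nat.testBit_xor, Pi.add_apply]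
  cases M.testBit (idx p) <;> cases N.testBit (idx p) <;> rfl

theorem wordOf_zero : wordOf 0 = 0 := by ext p; simp [wordOf]

/-- Population count of the 24 low bits. -/
def pop (n M : ℕ) : ℕ :=
  match n with
  | 0 => 0
  | k + 1 => M % 2 + pop k (M / 2)

theorem pop_eq (n : ℕ) : ∀ M : ℕ, pop n M = ((Finset.range n).filter fun i => M.testBit i).card := by
  induction n with
  | zero => intro M; rfl
  | succ k ih =>
    intro M
    rw [Finset.range_add_one', Finset.filter_insert, Finset.filter_map]
    show M % 2 + pop k (M / 2) = _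
    rw [ih]
    have hf : ((Finset.range k).filter fun i => (M / 2).testBit i) =
        (Finset.range k).filter fun i => M.testBit (i + 1) := by
      refine Finset.filter_congr fun i _ => ?_
      rw [Nat.testBit_succ]
    by_cases h : M.testBit 0 = true
    · rw [if_pos h, Finset.card_insert_of_notMem (by simp), Finset.card_map, hf]
      have : M % 2 = 1 := by simpa [Nat.testBit_zero] using h
      rw [this, Nat.add_comm]; rfl
    · rw [if_neg h, Finset.card_map, hf]
      have : M % 2 = 0 := by
        simp only [Nat.testBit_zero, decide_eq_true_eq] at h; omega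
      rw [this, Nat.zero_add]; rfl

/-- Weight of a 24-bit mask. -/
def wt (M : ℕ) : ℕ := pop 24 M

theorem card_setOf24 (M : ℕ) : (setOf24 M).card = wt M := by
  rw [wt, pop_eq]
  refine Finset.card_bij (fun p _ => idx p) ?_ ?_ ?_
  · intro p hp; simp [idx_lt p, mem_setOf24.1 hp]
  · intro a _ b _ h; exact idx_injective h
  · intro i hi
    simp only [Finset.mem_filter, Finset.mem_range] at hi
    exact ⟨pt i, by simp [idx_pt hi.1, hi.2], idx_pt hi.1⟩

theorem setOf24_inj {M N : ℕ} (hM : M < 2 ^ 24) (hN : N < 2 ^ 24) (h : setOf24 M = setOf24 N) :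
    M = N := by
  apply Nat.eq_of_testBit_eq
  intro i
  by_cases hi : i < 24
  · have := congrArg (fun s => pt i ∈ s) h
    simp only [mem_setOf24, idx_pt hi, eq_iff_iff] at this
    exact Bool.eq_iff_iff.2 this
  · rw [Nat.testBit_lt_two_pow (lt_of_lt_of_le hM (Nat.pow_le_pow_right (by norm_num) (by omega))),
      Nat.testBit_lt_two_pow (lt_of_lt_of_le hN (Nat.pow_le_pow_right (by norm_num) (by omega)))]

theorem setOf24_and (M N : ℕ) : setOf24 (M &&& N) = setOf24 M ∩ setOf24 N := by
  ext p; simp

theorem setOf24_or (M N : ℕ) : setOf24 (M ||| N) = setOf24 M ∪ setOf24 N := by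
  ext p; simp

theorem setOf24_xor (M N : ℕ) : setOf24 (M ^^^ N) = symmDiff (setOf24 M) (setOf24 N) := by
  ext p
  simp only [mem_setOf24, Nat.testBit_xor, Finset.mem_symmDiff]
  cases M.testBit (idx p) <;> cases N.testBit (idx p) <;> simp

theorem setOf24_zero : setOf24 0 = ∅ := by ext p; simp

theorem setOf24_full : setOf24 16777215 = Finset.univ := by decide +kernel

/-- The mask of a set of points. -/
def maskOf (s : Finset GolayPt) : ℕ := ∑ p ∈ s, 2 ^ idx p

theorem maskOf_eq (s : Finset GolayPt) : maskOf s = ∑ i ∈ s.image idx, 2 ^ i := by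
  rw [Finset.sum_image fun a _ b _ h => idx_injective h]; rfl

theorem setOf24_maskOf (s : Finset GolayPt) : setOf24 (maskOf s) = s := by
  ext p
  have := congrArg (fun l => idx p ∈ l) (Finset.toFinset_bitIndices_sum_two_pow (s.image idx))
  simp only [List.mem_toFinset, Nat.mem_bitIndices, Finset.mem_image, eq_iff_iff] at this
  rw [mem_setOf24, maskOf_eq]
  refine this.trans ⟨?_, fun h => ⟨p, h, rfl⟩⟩
  rintro ⟨q, hq, e⟩
  rwa [← idx_injective e]

theorem maskOf_lt (s : Finset GolayPt) : maskOf s < 2 ^ 24 := by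
  rw [maskOf_eq]
  have : ∑ i ∈ s.image idx, 2 ^ i < 2 ^ 24 := by
    apply Nat.geomSum_lt (le_refl 2)
    intro k hk
    obtain ⟨q, _, rfl⟩ := Finset.mem_image.1 hk
    exact idx_lt q
  exact this

theorem setOf24_mod (M : ℕ) : setOf24 (M % 2 ^ 24) = setOf24 M := by
  ext p; simp only [mem_setOf24, Nat.testBit_mod_two_pow, idx_lt p, decide_true, Bool.true_and]

theorem wordOf_mod (M : ℕ) : wordOf (M % 2 ^ 24) = wordOf M := by
  ext p; simp only [wordOf, Nat.testBit_mod_two_pow, idx_lt p, decide_true, Bool.true_and]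

/-- A word is determined by its support. -/
theorem eq_wordOf_maskOf (w : GolayPt → ZMod 2) : w = wordOf (maskOf (support₂ w)) := by
  ext p
  have h := Finset.ext_iff.1 (setOf24_maskOf (support₂ w)) p
  rw [mem_setOf24] at h
  have hs : p ∈ support₂ w ↔ w p ≠ 0 := by simp [support₂]
  unfold wordOf
  rcases (by decide : ∀ x : ZMod 2, x = 0 ∨ x = 1) (w p) with e | e
  · rw [if_neg (fun hh => hs.1 (h.1 hh) e), e]
  · rw [if_pos (h.2 (hs.2 (by rw [e]; decide))), e]

end CfsgLib.Mathieu
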