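import Cfsg.Agent.Mathieu.Tables

/-!
The projective plane over the field of four elements inside the Golay points.
-/

set_option autoImplicit false

namespace CfsgLib.Mathieu.Plane

/-- Coordinates of the 21 points of the plane, as codes of field elements. -/
def coords : List (List (Fin 4)) :=
  [[0, 0, 1], [0, 1, 0], [0, 1, 1], [0, 1, 2], [0, 1, 3], [1, 0, 0], [1, 0, 1], [1, 0, 2], [1, 0, 3], [1, 1, 0], [1, 1, 1], [1, 1, 2], [1, 1, 3], [1, 2, 0], [1, 2, 1], [1, 2, 2], [1, 2, 3], [1, 3, 0], [1, 3, 1], [1, 3, 2], [1, 3, 3]]

/-- Their positions among the Golay points. -/
def place : List ℕ := [2, 3, 5, 14, 17, 4, 13, 16, 22, 11, 8, 18, 12, 19, 6, 7, 21, 20, 10, 9, 15]

/-- The tables of the transvections, indexed by row, column and field element. -/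
def transTables : List ℕ := [

  566073426779046459040877649791461066728553822781039575296,
  566073426779046459040877649791461066728553822781039575296,
  566073426779046459040877649791461066728553822781039575296,
  566073426779046459040877649791461066728553822781039575296,
  566073426779046459040877649791461066728553822781039575296,
  566069309734553450105344073856554101626685307943018168576,
  566072279454655433439491231874282148004891350572831211776,
  566070794523074409545538788092127539980306733251195699456,
  566073426779046459040877649791461066728553822781039575296,
  565497618518030226617041816760771705562213742182004490496,
  564155188341851158432779417818661909225834893642342727936,
  565207282448608768083115059827792806479821483948905595136,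
  566073426779046459040877649791461066728553822781039575296,
  565113370743653090875585183308503099927125018657809367296,
  565978006712811190384577552928446206662672319317842985216,
  565399569250201788234129054762078219177298903141007360256,
  566073426779046459040877649791461066728553822781039575296,
  566073426779046459040877649791461066728553822781039575296,
  566073426779046459040877649791461066728553822781039575296,
  566073426779046459040877649791461066728553822781039575296,
  566073426779046459040877649791461066728553822781039575296,
  565399592679944251168156530661838962492261935552009666816,
  565113372199243720982000436453157931387290726259259146496,
  565978019952115851537063752559017572109945606388283474176,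
  566073426779046459040877649791461066728553822781039575296,
  565493488239986500995722799542798324125175233247107481856,
  565205769725840036694602927742369884446872112412668068096,
  564348613710420807073877270882327503557437081886306468096,
  566073426779046459040877649791461066728553822781039575296,
  566067807236608966667883820656831891661715710068211712256,
  566072663886452603279348647476606651406176598718140252416,
  566068172606219147393495572125024197805395392082265374976,
  566073426779046459040877649791461066728553822781039575296,
  566073426779046459040877649791461066728553822781039575296,
  566073426779046459040877649791461066728553822781039575296,
  566073426779046459040877649791461066728553822781039575296]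

end CfsgLib.Mathieu.Plane
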