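import Cfsg.Agent.Mathieu.Chain

/-!
Verified stabiliser chains: from strong generators and transversals, checked by sifting every
product of a generator and a representative, follow the order and the stabilisers of the group
they generate. No bound from outside is needed.
-/

set_option autoImplicit false

namespace CfsgLib.Mathieu.Schreier

open Equiv (Perm)

variable {n : ℕ}

/-- One level: base point, generators, and representatives (table, inverse table, parent, generator). -/
structure Level where
  base : ℕ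
  gens : List ℕ
  trans : List (ℕ × ℕ × ℕ × ℕ)

/-- Applying a word of tables, the last one first. -/
def evalWord (w : List ℕ) (i : ℕ) : ℕ := w.foldr app i

/-- Whether a word sifts to the identity. -/
def sift (n : ℕ) : List Level → List ℕ → Bool
  | [], w => allBelow n fun i => evalWord w i == i
  | L :: rest, w =>
    match L.trans.find? (fun t => app t.1 L.base == evalWord w L.base) with
    | some t => sift n rest (t.2.1 :: w)
    | none => false

/-- The check of a representative against the earlier ones. -/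
def transOK (n : ℕ) (L : Level) (i : ℕ) : Bool :=
  match L.trans[i]? with
  | none => false
  | some t =>
    allBelow n (fun x => app t.2.1 (app t.1 x) == x) &&
      if i == 0 then allBelow n (fun x => app t.1 x == x)
      else
        match L.trans[t.2.2.1]?, L.gens[t.2.2.2]? with
        | some p, some g => decide (t.2.2.1 < i) && allBelow n (fun x => app t.1 x == app g (app p.1 x))
        | _, _ => false

/-- The check of a chain. -/
def chainOK (n : ℕ) : List Level → Bool
  | [] => true
  | L :: rest =>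
    decide (L.base < n) &&
    allBelow L.trans.length (transOK n L) && decide (0 < L.trans.length) &&
    decide ((L.trans.map fun t => app t.1 L.base).Nodup) &&
    (rest.head?.map Level.gens |>.getD []).all (fun g => L.gens.contains g && app g L.base == L.base) &&
    L.trans.all (fun t => L.gens.all fun g => sift n (L :: rest) [g, t.1]) &&
    chainOK n rest

/-- The tables generating the group of a chain. -/
def topGens : List Level → List ℕ
  | [] => []
  | L :: _ => L.gens

/-- The group of a chain. -/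
def group (n : ℕ) (C : List Level) : Subgroup (Perm (Fin n)) :=
  Subgroup.closure {σ | ∃ t ∈ topGens C, Rep (Equiv.refl (Fin n)) σ t}

theorem Rep.app_eq {σ : Perm (Fin n)} {t : ℕ} (h : Rep (Equiv.refl (Fin n)) σ t) (x : Fin n) :
    app t x.1 = (σ x).1 := h x

theorem evalWord_eq : ∀ {w : List ℕ} {l : List (Perm (Fin n))},
    List.Forall₂ (fun t σ => Rep (Equiv.refl (Fin n)) σ t) w l → ∀ x : Fin n, evalWord w x.1 = (l.prod x).1
  | _, _, .nil, x => by simp [evalWord]
  | _, _, .cons (l₂ := l) h hl, x => by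
    rw [List.prod_cons, Equiv.Perm.mul_apply, ← Rep.app_eq h, ← evalWord_eq hl x]
    rfl

/-- The tables of the representatives are those of members of the group. -/
theorem trans_spec {C : List Level} {L : Level} (hok : allBelow L.trans.length (transOK n L) = true)
    (hgen : ∀ g ∈ L.gens, InGroup (Equiv.refl (Fin n)) (group n (L :: C)) g) :
    ∀ t ∈ L.trans, ∃ σ ∈ group n (L :: C),
      Rep (Equiv.refl (Fin n)) σ t.1 ∧ Rep (Equiv.refl (Fin n)) σ⁻¹ t.2.1 := by
  rw [allBelow_iff] at hok
  suffices h : ∀ i (hi : i < L.trans.length), ∃ σ ∈ group n (L :: C),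
      Rep (Equiv.refl (Fin n)) σ L.trans[i].1 ∧ Rep (Equiv.refl (Fin n)) σ⁻¹ L.trans[i].2.1 by
    intro t ht
    obtain ⟨i, hi, rfl⟩ := List.mem_iff_getElem.1 ht
    exact h i hi
  intro i
  induction i using Nat.strong_induction_on with
  | _ i ih =>
    intro hi
    have := hok i hi
    rw [transOK, List.getElem?_eq_getElem hi] at this
    simp only [Bool.and_eq_true, allBelow_iff, beq_iff_eq] at this
    obtain ⟨hinv, hrest⟩ := this
    obtain ⟨σ, hσ, r⟩ : ∃ σ ∈ group n (L :: C), Rep (Equiv.refl (Fin n)) σ L.trans[i].1 := by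
      by_cases h0 : i = 0
      · rw [if_pos h0, allBelow_iff] at hrest
        exact ⟨1, one_mem _, fun x => by simpa using hrest x.1 x.2⟩
      · rw [if_neg h0] at hrest
        split at hrest
        · rename_i p g hp hg
          simp only [Bool.and_eq_true, decide_eq_true_eq, allBelow_iff, beq_iff_eq] at hrest
          obtain ⟨hlt, heq⟩ := hrest
          obtain ⟨hp', rfl⟩ := List.getElem?_eq_some_iff.1 hp
          obtain ⟨τ, hτ, rτ, -⟩ := ih _ hlt hp'
          obtain ⟨γ, hγ, rγ⟩ := hgen g (List.mem_of_getElem? hg)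
          refine ⟨γ * τ, mul_mem hγ hτ, fun x => ?_⟩
          show app _ x.1 = (γ (τ x)).1
          rw [heq x.1 x.2, Rep.app_eq rτ, Rep.app_eq rγ]
        · exact absurd hrest (by simp)
    refine ⟨σ, hσ, r, fun x => ?_⟩
    have := hinv (σ⁻¹ x).1 (σ⁻¹ x).2
    rw [Rep.app_eq r, perm_apply_inv] at this
    exact this

/-- The group after the first level. -/
theorem group_tail_le {L : Level} {rest : List Level}
    (h : (topGens rest).all (fun g => L.gens.contains g && app g L.base == L.base) = true) :
    group n rest ≤ group n (L :: rest) := by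
  refine Subgroup.closure_mono ?_
  rintro σ ⟨t, ht, r⟩
  have := List.all_eq_true.1 h t ht
  simp only [Bool.and_eq_true, List.contains_iff_mem] at this
  exact ⟨t, this.1, r⟩

theorem topGens_eq (rest : List Level) :
    (rest.head?.map Level.gens |>.getD []) = topGens rest := by
  cases rest <;> rfl

/-- The tables of a chain are those of permutations. -/
def gensOK (n : ℕ) (gens : List (ℕ × ℕ)) : Bool :=
  gens.all fun g => allBelow n fun x =>
    Nat.blt (app g.1 x) n && app g.2 (app g.1 x) == x

theorem exists_rep_of_gensOK {gens : List (ℕ × ℕ)} (h : gensOK n gens = true) :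
    ∀ t ∈ gens.map Prod.fst, ∃ σ : Perm (Fin n), Rep (Equiv.refl (Fin n)) σ t := by
  intro t ht
  obtain ⟨g, hg, rfl⟩ := List.mem_map.1 ht
  have := List.all_eq_true.1 h g hg
  simp only [allBelow_iff, Bool.and_eq_true, Nat.blt_eq, beq_iff_eq] at this
  have hinj : Function.Injective fun x : Fin n => (⟨app g.1 x.1, (this x.1 x.2).1⟩ : Fin n) := fun a b e => by
    apply Fin.ext
    rw [← (this a.1 a.2).2, ← (this b.1 b.2).2, show app g.1 a.1 = app g.1 b.1 from congrArg Fin.val e]
  exact ⟨Equiv.ofBijective _ (Finite.injective_iff_bijective.1 hinj), fun _ => rfl⟩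

/-- All tables of the chain are those of permutations. -/
def HasPerms (n : ℕ) : List Level → Prop
  | [] => True
  | L :: rest => (∀ g ∈ L.gens, ∃ σ : Perm (Fin n), Rep (Equiv.refl (Fin n)) σ g) ∧ HasPerms n rest

/-- The checked facts about one level. -/
structure LevelSpec (n : ℕ) (L : Level) (rest : List Level) : Prop where
  base_lt : L.base < n
  reps : ∀ t ∈ L.trans, ∃ σ ∈ group n (L :: rest),
      Rep (Equiv.refl (Fin n)) σ t.1 ∧ Rep (Equiv.refl (Fin n)) σ⁻¹ t.2.1
  le : group n rest ≤ group n (L :: rest)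
  fix : ∀ g ∈ group n rest, (g ⟨L.base, base_lt⟩ : Fin n) = ⟨L.base, base_lt⟩

/-- Sifting proves membership. -/
theorem sift_sound : ∀ (C : List Level), (∀ (L : Level) (pre rest : List Level), C = pre ++ L :: rest →
      LevelSpec n L rest) →
    ∀ (w : List ℕ) (l : List (Perm (Fin n))), List.Forall₂ (fun t σ => Rep (Equiv.refl (Fin n)) σ t) w l →
      sift n C w = true → l.prod ∈ group n C ∧
        ∀ (L : Level) (rest : List Level), C = L :: rest → ∃ t ∈ L.trans, ∃ σ : Perm (Fin n),
          Rep (Equiv.refl (Fin n)) σ t.1 ∧ σ⁻¹ * l.prod ∈ group n rest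
  | [], _, w, l, hw, h => by
    simp only [sift, allBelow_iff, beq_iff_eq] at h
    have : l.prod = 1 := Equiv.ext fun x => Fin.ext (by rw [← evalWord_eq hw x, h x.1 x.2]; rfl)
    exact ⟨this ▸ one_mem _, fun _ _ e => by simp at e⟩
  | L :: rest, hC, w, l, hw, h => by
    simp only [sift] at h
    split at h
    · rename_i t ht
      have htm := List.mem_of_find?_eq_some ht
      have hL := hC L [] rest rfl
      obtain ⟨σ, hσ, r, rinv⟩ := hL.reps t htm
      obtain ⟨hmem, -⟩ := sift_sound rest (fun L' pre rest' e => hC L' (L :: pre) rest' (by rw [e]; rfl))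
        (t.2.1 :: w) (σ⁻¹ :: l) (.cons rinv hw) h
      rw [List.prod_cons] at hmem
      refine ⟨?_, fun L' rest' e => ?_⟩
      · have := mul_mem hσ (hL.le hmem)
        rwa [mul_inv_cancel_left] at this
      · obtain ⟨rfl, rfl⟩ := List.cons.inj e
        exact ⟨t, htm, σ, r, hmem⟩
    · simp at h

theorem levelSpec_of_ok : ∀ (C : List Level), chainOK n C = true → HasPerms n C →
    ∀ (L : Level) (pre rest : List Level), C = pre ++ L :: rest → LevelSpec n L rest
  | [], _, _, _, pre, _, e => by cases pre <;> simp at e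
  | L :: rest, h, ⟨hp, hps⟩, L', pre, rest', e => by
    simp only [chainOK, Bool.and_eq_true, decide_eq_true_eq, topGens_eq] at h
    obtain ⟨⟨⟨⟨⟨⟨hb, htr⟩, -⟩, -⟩, hhead⟩, -⟩, hok⟩ := h
    cases pre with
    | nil =>
      obtain ⟨rfl, rfl⟩ := List.cons.inj e
      have hgen : ∀ g ∈ L.gens, InGroup (Equiv.refl (Fin n)) (group n (L :: rest)) g := fun g hg => by
        obtain ⟨σ, r⟩ := hp g hg
        exact ⟨σ, Subgroup.subset_closure ⟨g, hg, r⟩, r⟩
      refine ⟨hb, trans_spec htr hgen, group_tail_le hhead, fun g hg => ?_⟩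
      have : group n rest ≤ MulAction.stabilizer (Perm (Fin n)) (⟨L.base, hb⟩ : Fin n) := by
        refine (Subgroup.closure_le _).2 ?_
        rintro σ ⟨t, ht, r⟩
        have := List.all_eq_true.1 hhead t ht
        simp only [Bool.and_eq_true, beq_iff_eq] at this
        exact Fin.ext ((Rep.app_eq r _).symm.trans this.2)
      exact this hg
    | cons P pre =>
      obtain ⟨-, e⟩ := List.cons.inj e
      exact levelSpec_of_ok rest hok hps L' pre rest' e

/-- A member of the group of a chain is a representative times a member of the next group. -/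
theorem exists_decomp {L : Level} {rest : List Level} (h : chainOK n (L :: rest) = true)
    (hp : HasPerms n (L :: rest)) :
    ∀ g ∈ group n (L :: rest), ∃ t ∈ L.trans, ∃ σ : Perm (Fin n),
      Rep (Equiv.refl (Fin n)) σ t.1 ∧ σ⁻¹ * g ∈ group n rest := by
  have hs := levelSpec_of_ok _ h hp
  have hL := hs L [] rest rfl
  simp only [chainOK, Bool.and_eq_true, decide_eq_true_eq, topGens_eq, List.all_eq_true,
    allBelow_iff] at h
  obtain ⟨⟨⟨⟨⟨⟨hb, htr⟩, hpos⟩, -⟩, -⟩, hsift⟩, -⟩ := h
  set X : Set (Perm (Fin n)) := {g | ∃ t ∈ L.trans, ∃ σ : Perm (Fin n),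
      Rep (Equiv.refl (Fin n)) σ t.1 ∧ σ⁻¹ * g ∈ group n rest}
  have hone : (1 : Perm (Fin n)) ∈ X := by
    have h0 := htr 0 hpos
    rw [transOK, List.getElem?_eq_getElem hpos] at h0
    simp only [Bool.and_eq_true, beq_self_eq_true, if_true, allBelow_iff, beq_iff_eq] at h0
    exact ⟨_, List.getElem_mem hpos, 1, fun x => h0.2 x.1 x.2, by simp⟩
  have hgen : ∀ s : Perm (Fin n), (∃ g ∈ L.gens, Rep (Equiv.refl (Fin n)) s g) → ∀ x ∈ X, s * x ∈ X := by
    rintro s ⟨g, hg, rs⟩ x ⟨t, ht, σ, r, hk⟩
    obtain ⟨-, hdec⟩ := sift_sound _ hs [g, t.1] [s, σ] (.cons rs (.cons r .nil)) (hsift t ht g hg)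
    obtain ⟨t', ht', σ', r', hk'⟩ := hdec L rest rfl
    refine ⟨t', ht', σ', r', ?_⟩
    have := mul_mem hk' hk
    simpa [mul_assoc] using this
  intro g hg
  have hmon : ∀ y ∈ Submonoid.closure {σ | ∃ t ∈ topGens (L :: rest), Rep (Equiv.refl (Fin n)) σ t},
      ∀ x ∈ X, y * x ∈ X := by
    intro y hy
    induction hy using Submonoid.closure_induction with
    | mem s hs' => exact hgen s hs'
    | one => intro x hx; rwa [one_mul]
    | mul a b _ _ ha hb => intro x hx; rw [mul_assoc]; exact ha _ (hb x hx)
  have hg' : g ∈ Submonoid.closure {σ | ∃ t ∈ topGens (L :: rest), Rep (Equiv.refl (Fin n)) σ t} := by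
    rw [group] at hg
    rwa [← Subgroup.mem_toSubmonoid, Subgroup.closure_toSubmonoid_of_finite] at hg
  have := hmon g hg' 1 hone
  rwa [mul_one] at this

/-- The order of the group of a chain. -/
theorem card_group : ∀ (C : List Level), chainOK n C = true → HasPerms n C →
    Nat.card (group n C) = (C.map fun L => L.trans.length).prod
  | [], _, _ => by
    have : group n [] = ⊥ := by simp [group, topGens]
    rw [this]
    simp
  | L :: rest, h, hp => by
    have hs := levelSpec_of_ok _ h hp
    have hL := hs L [] rest rfl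
    have hdec := exists_decomp h hp
    have h' := h
    simp only [chainOK, Bool.and_eq_true, decide_eq_true_eq] at h'
    obtain ⟨⟨⟨⟨⟨⟨hb, -⟩, -⟩, hnd⟩, -⟩, -⟩, hok⟩ := h'
    choose σ hσ r rinv using hL.reps
    let f : Fin L.trans.length × group n rest → group n (L :: rest) := fun p =>
      ⟨σ _ (List.getElem_mem p.1.2) * p.2.1, mul_mem (hσ _ _) (hL.le p.2.2)⟩
    have hf : Function.Bijective f := by
      constructor
      · rintro ⟨i, k⟩ ⟨j, k'⟩ e
        have e' : σ _ (List.getElem_mem i.2) * k.1 = σ _ (List.getElem_mem j.2) * k'.1 :=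
          congrArg Subtype.val e
        have h1 := congrArg (fun π : Perm (Fin n) => (π ⟨L.base, hb⟩).1) e'
        simp only [Perm.mul_apply, hL.fix _ k.2, hL.fix _ k'.2, ← Rep.app_eq (r _ _)] at h1
        have hij : i = j := Fin.ext <| (hnd.getElem_inj_iff (i := i.1) (j := j.1)
          (hi := by simp) (hj := by simp)).1 (by simpa using h1)
        subst hij
        exact Prod.ext rfl (Subtype.ext (mul_left_cancel e'))
      · intro g
        obtain ⟨t, ht, τ, rτ, hk⟩ := hdec g.1 g.2
        obtain ⟨i, hi, rfl⟩ := List.mem_iff_getElem.1 ht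
        have hτ : τ = σ _ (List.getElem_mem hi) :=
          Equiv.ext fun x => rτ.apply_eq _ (r _ _ x)
        subst hτ
        exact ⟨⟨⟨i, hi⟩, ⟨_, hk⟩⟩, Subtype.ext (mul_inv_cancel_left _ _)⟩
    rw [← Nat.card_congr (Equiv.ofBijective f hf), Nat.card_prod, Nat.card_fin,
      card_group rest hok hp.2, List.map_cons, List.prod_cons]

/-- The stabiliser of the first base point is the group of the remaining levels. -/
theorem mem_tail_iff {L : Level} {rest : List Level} (h : chainOK n (L :: rest) = true)
    (hp : HasPerms n (L :: rest)) {g : Perm (Fin n)} (hb : L.base < n) :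
    g ∈ group n rest ↔ g ∈ group n (L :: rest) ∧ g ⟨L.base, hb⟩ = ⟨L.base, hb⟩ := by
  have hL := levelSpec_of_ok _ h hp L [] rest rfl
  refine ⟨fun hg => ⟨hL.le hg, hL.fix g hg⟩, fun ⟨hg, hgb⟩ => ?_⟩
  obtain ⟨t, ht, σ, r, hk⟩ := exists_decomp h hp g hg
  have hσb : σ ⟨L.base, hb⟩ = ⟨L.base, hb⟩ := by
    have := hL.fix _ hk
    rw [Perm.mul_apply, hgb] at this
    exact ((Equiv.symm_apply_eq σ).1 this).symm
  have h' := h
  simp only [chainOK, Bool.and_eq_true, decide_eq_true_eq, allBelow_iff] at h'
  obtain ⟨⟨⟨⟨⟨⟨-, htr⟩, hpos⟩, hnd⟩, -⟩, -⟩, -⟩ := h'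
  obtain ⟨i, hi, rfl⟩ := List.mem_iff_getElem.1 ht
  have h0 := htr 0 hpos
  rw [transOK, List.getElem?_eq_getElem hpos] at h0
  simp only [Bool.and_eq_true, beq_self_eq_true, if_true, allBelow_iff, beq_iff_eq] at h0
  have hbase : app L.trans[i].1 L.base = app (L.trans[0]'hpos).1 L.base := by
    rw [h0.2 L.base hb]
    exact (Rep.app_eq r ⟨L.base, hb⟩).trans (congrArg Fin.val hσb)
  have hi0 : i = 0 := (hnd.getElem_inj_iff (i := i) (j := 0) (hi := by simpa using hi)
    (hj := by simpa using hpos)).1 (by simpa using hbase)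
  subst hi0
  have : σ = 1 := Equiv.ext fun x => r.apply_eq _ (h0.2 x.1 x.2)
  simpa [this] using hk

/-- A certificate that a normalised subgroup containing `x` contains all given tables. -/
def closureOK (n x : ℕ) (known : List ℕ) (conjs : List (ℕ × ℕ)) (steps : List Step) (gens : List ℕ) : Bool :=
  conjs.all (fun gc => known.contains gc.1 &&
    allBelow n (fun i => app gc.2 (app gc.1 i) == app gc.1 (app x i))) &&
  gens.all fun t => (slp n (x :: conjs.map Prod.snd) steps).contains t

theorem inGroup_of_closureOK {K N : Subgroup (Perm (Fin n))} {known : List ℕ}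
    (hK : ∀ t ∈ known, InGroup (Equiv.refl (Fin n)) K t)
    (hnorm : ∀ g ∈ K, ∀ m ∈ N, g * m * g⁻¹ ∈ N) {x : ℕ} (hx : InGroup (Equiv.refl (Fin n)) N x)
    {conjs : List (ℕ × ℕ)} {steps : List Step} {gens : List ℕ}
    (h : closureOK n x known conjs steps gens = true) :
    ∀ t ∈ gens, InGroup (Equiv.refl (Fin n)) N t := by
  simp only [closureOK, Bool.and_eq_true, List.all_eq_true, List.contains_iff_mem] at h
  obtain ⟨hc, hg⟩ := h
  intro t ht
  refine inGroup_slp _ steps (x :: conjs.map Prod.snd) ?_ t (hg t ht)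
  intro s hs
  rcases List.mem_cons.1 hs with rfl | hs
  · exact hx
  obtain ⟨gc, hgc, rfl⟩ := List.mem_map.1 hs
  obtain ⟨h1, h2⟩ := hc gc hgc
  obtain ⟨γ, hγ, rγ⟩ := hK _ h1
  obtain ⟨ξ, hξ, rξ⟩ := hx
  refine ⟨_, hnorm γ hγ ξ hξ, fun p => ?_⟩
  have := allBelow_iff.1 h2 _ (γ⁻¹ p).isLt
  rw [beq_iff_eq, Rep.app_eq rγ, perm_apply_inv, Rep.app_eq rξ, Rep.app_eq rγ] at this
  exact this

end CfsgLib.Mathieu.Schreier
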