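import Cfsg.Agent.Mathieu.Steiner12Data
import Cfsg.Agent.Mathieu.Steiner

/-!
Uniqueness of S(5,6,12): three points leave an affine plane of order three, whose quadrangles are
coloured by the three pairs of special points; that colouring is unique.
-/

set_option autoImplicit false

namespace CfsgLib.Mathieu.S12

open Cfsg Finset

@[local simp] theorem castAddEmb_eq (x : Fin 9) : (Fin.castAddEmb 3 x : Fin 12) = x.castAdd 3 := rfl

theorem castAdd_inj' {x y : Fin 9} : (x.castAdd 3 : Fin 12) = y.castAdd 3 ↔ x = y :=
  (Fin.castAdd_injective 9 3).eq_iff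

theorem zip_self_map {β : Type*} : ∀ l : List β, l.zip l = l.map fun a => (a, a)
  | [] => rfl
  | _ :: l => by simp [zip_self_map l]

/-- Labels in a mask. -/
def set12 (M : ℕ) : Finset (Fin 12) := univ.filter fun i => M.testBit i.val

theorem set12_injOn {M N : ℕ} (hM : M < 4096) (hN : N < 4096) (h : set12 M = set12 N) : M = N := by
  apply Nat.eq_of_testBit_eq
  intro i
  by_cases hi : i < 12
  · have := congrArg (fun s => (⟨i, hi⟩ : Fin 12) ∈ s) h
    simp only [set12, mem_filter, mem_univ, true_and, eq_iff_iff] at this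
    exact Bool.eq_iff_iff.2 this
  · rw [Nat.testBit_lt_two_pow (lt_of_lt_of_le hM (by
      rw [show (4096 : ℕ) = 2 ^ 12 from rfl]; exact Nat.pow_le_pow_right (by norm_num) (by omega))),
      Nat.testBit_lt_two_pow (lt_of_lt_of_le hN (by
      rw [show (4096 : ℕ) = 2 ^ 12 from rfl]; exact Nat.pow_le_pow_right (by norm_num) (by omega)))]

theorem hexMasks_lt : ∀ h ∈ hexMasks, h < 4096 := by decide +kernel

/-- The standard system on twelve labels. -/
def std12 : Finset (Finset (Fin 12)) := (hexMasks.map set12).toFinset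

theorem card_std12 : std12.card = 132 := by
  rw [std12, List.toFinset_card_of_nodup]
  · rw [List.length_map]; decide +kernel
  · refine List.Nodup.map_on (fun a ha b hb h => set12_injOn (hexMasks_lt a ha) (hexMasks_lt b hb) h) ?_
    decide +kernel

/-- Pairs of the nine plane labels as masks. -/
def pairMasks : List (ℕ × ℕ) :=
  (List.range 9).flatMap fun a => ((List.range 9).filter fun b => a < b).map fun b => (a, b)

/-- All ways to complete a partial plane, each uncovered pair in turn getting a third point. -/
def completeLines : ℕ → List ℕ → List (List ℕ)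
  | 0, ls => [ls]
  | fuel + 1, ls =>
    match pairMasks.find? (fun p => !ls.any fun l => l.testBit p.1 && l.testBit p.2) with
    | none => [ls]
    | some p => (List.range 9).flatMap fun c =>
        if c == p.1 || c == p.2 || ls.any (fun l => l.testBit c && (l.testBit p.1 || l.testBit p.2)) then []
        else completeLines fuel (ls ++ [2 ^ p.1 + 2 ^ p.2 + 2 ^ c])

/-- The five lines fixed by labelling. -/
def startLines : List ℕ := [7, 73, 273, 161, 266]

/-- The two relabellings. -/
def planeRelabel : List (Fin 9 → Fin 9) := [id, ![0, 1, 2, 3, 4, 7, 6, 5, 8]]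

theorem completeLines_ok : ∀ ls ∈ completeLines 9 startLines, ∃ π ∈ planeRelabel,
    Function.Injective π ∧ ∀ m ∈ lineMasks, ∃ l ∈ ls,
      ((List.range 9).filter fun i => m.testBit i).all (fun i => l.testBit (π (Fin.ofNat 9 i)).val) = true := by
  decide +kernel

variable {α : Type*} [DecidableEq α]

/-- The nine-point part: a family of triples of `R` covering each pair once. -/
structure IsPlane (R : Finset α) (L : Finset (Finset α)) : Prop where
  card_points : R.card = 9
  sub : ∀ l ∈ L, l ⊆ R ∧ l.card = 3
  exists_line : ∀ a ∈ R, ∀ b ∈ R, a ≠ b → ∃ l ∈ L, a ∈ l ∧ b ∈ l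
  unique : ∀ l ∈ L, ∀ m ∈ L, ∀ a b : α, a ≠ b → a ∈ l → b ∈ l → a ∈ m → b ∈ m → l = m

variable {R : Finset α} {L : Finset (Finset α)} (hP : IsPlane R L)
include hP

theorem IsPlane.third {a b : α} (ha : a ∈ R) (hb : b ∈ R) (h : a ≠ b) :
    ∃ c ∈ R, c ≠ a ∧ c ≠ b ∧ ({a, b, c} : Finset α) ∈ L := by
  obtain ⟨l, hl, hal, hbl⟩ := hP.exists_line a ha b hb h
  obtain ⟨hlR, hl3⟩ := hP.sub l hl
  obtain ⟨c, hc⟩ := (card_pos.1 (show 0 < (l \ {a, b}).card by
    rw [card_sdiff_of_subset (by simp [insert_subset_iff, hal, hbl]), hl3, card_pair h]; norm_num))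
  simp only [mem_sdiff, mem_insert, mem_singleton, not_or] at hc
  refine ⟨c, hlR hc.1, hc.2.1, hc.2.2, ?_⟩
  rwa [eq_of_subset_of_card_le (s := {a, b, c}) (t := l)
    (by simp [insert_subset_iff, hal, hbl, hc.1]) (by
      rw [hl3, card_insert_of_notMem (by simp [h, Ne.symm hc.2.1]), card_pair (Ne.symm hc.2.2)])]

theorem IsPlane.completeLines_sound (ℓ : Fin 9 → α) (hℓ : Function.Injective ℓ) (hR : ∀ i, ℓ i ∈ R) :
    ∀ fuel ls, (∀ l ∈ ls, (univ.filter fun i : Fin 9 => l.testBit i.val).image ℓ ∈ L) →
      ∃ r ∈ completeLines fuel ls, ∀ l ∈ r, (univ.filter fun i : Fin 9 => l.testBit i.val).image ℓ ∈ L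
  | 0, ls, hls => ⟨ls, by simp [completeLines], hls⟩
  | fuel + 1, ls, hls => by
    simp only [completeLines]
    split
    · exact ⟨ls, by simp, hls⟩
    · rename_i p hp
      have hcov := List.find?_some hp
      have hpm := List.mem_of_find?_eq_some hp
      obtain ⟨pa, pb⟩ := p
      obtain ⟨hpa, hpb, hlt⟩ : pa < 9 ∧ pb < 9 ∧ pa < pb := by
        simp only [pairMasks, List.mem_flatMap, List.mem_range, List.mem_map, List.mem_filter,
          Prod.mk.injEq, decide_eq_true_eq] at hpm
        obtain ⟨a, ha, b, ⟨hb, hab⟩, rfl, rfl⟩ := hpm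
        exact ⟨ha, hb, hab⟩
      let a : Fin 9 := ⟨pa, hpa⟩
      let b : Fin 9 := ⟨pb, hpb⟩
      have hab : a ≠ b := fun e => (show pa ≠ pb by omega) (congrArg Fin.val e)
      obtain ⟨y, hyR, hya, hyb, hyL⟩ := hP.third (hR a) (hR b) (hℓ.ne hab)
      obtain ⟨c, rfl⟩ : ∃ c, ℓ c = y := by
        have : univ.image ℓ = R := eq_of_subset_of_card_le
          (fun z hz => by obtain ⟨i, -, rfl⟩ := mem_image.1 hz; exact hR i)
          (by rw [hP.card_points, card_image_of_injective _ hℓ, card_univ, Fintype.card_fin])
        rw [← this, mem_image] at hyR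
        obtain ⟨i, -, hi⟩ := hyR
        exact ⟨i, hi⟩
      have hca : c ≠ a := fun e => hya (by rw [e])
      have hcb : c ≠ b := fun e => hyb (by rw [e])
      set m := 2 ^ pa + 2 ^ pb + 2 ^ c.val with hm
      have hbit : ∀ i : Fin 9, m.testBit i.val = true ↔ i = a ∨ i = b ∨ i = c := by
        intro i
        have key : ∀ a b c i : Fin 9, a < b → c ≠ a → c ≠ b →
            ((2 ^ a.val + 2 ^ b.val + 2 ^ c.val).testBit i.val = true ↔ i = a ∨ i = b ∨ i = c) := by
          decide +kernel
        exact key a b c i hlt hca hcb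
      have hmimg : (univ.filter fun i : Fin 9 => m.testBit i.val).image ℓ = {ℓ a, ℓ b, ℓ c} := by
        rw [show (univ.filter fun i : Fin 9 => m.testBit i.val) = {a, b, c} by ext i; simp [hbit]]
        simp [image_insert]
      simp only [Bool.not_eq_true', List.any_eq_false, Bool.and_eq_true, not_and,
        Bool.not_eq_true] at hcov
      obtain ⟨r, hr, hrL⟩ := IsPlane.completeLines_sound ℓ hℓ hR fuel (ls ++ [m])
        (fun l hl => by
          rcases List.mem_append.1 hl with hl | hl
          · exact hls l hl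
          · rw [List.mem_singleton.1 hl, hmimg]; exact hyL)
      refine ⟨r, List.mem_flatMap.2 ⟨c.val, List.mem_range.2 c.isLt, ?_⟩, hrL⟩
      rw [if_neg]
      · exact hr
      · simp only [Bool.or_eq_true, beq_iff_eq, List.any_eq_true, Bool.and_eq_true, not_or, not_exists,
          not_and]
        refine ⟨⟨fun e => hca (Fin.ext e), fun e => hcb (Fin.ext e)⟩, fun l hl hlc => ?_⟩
        have hno : ∀ d : Fin 9, (d = a ∨ d = b) → l.testBit d.val ≠ true := by
          intro d hd hld
          have hdc : d ≠ c := by rcases hd with rfl | rfl <;> [exact hca.symm; exact hcb.symm]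
          have he := hP.unique _ (hls l hl) _ hyL (ℓ d) (ℓ c) (hℓ.ne hdc)
            (mem_image_of_mem _ (by simpa using hld)) (mem_image_of_mem _ (by simpa using hlc))
            (by rcases hd with rfl | rfl <;> simp) (by simp)
          have h1 : ℓ a ∈ (univ.filter fun i : Fin 9 => l.testBit i.val).image ℓ := by rw [he]; simp
          have h2 : ℓ b ∈ (univ.filter fun i : Fin 9 => l.testBit i.val).image ℓ := by rw [he]; simp
          rw [hℓ.mem_finset_image, mem_filter] at h1 h2
          have := hcov l hl h1.2
          simp [b, h2.2] at this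
        exact ⟨hno a (Or.inl rfl), hno b (Or.inr rfl)⟩

theorem IsPlane.ne_third {a b c x y z : α} (h1 : ({a, b, c} : Finset α) ∈ L)
    (h2 : ({x, y, z} : Finset α) ∈ L) {p q r : α} (hpq : p ≠ q) (hp : p ∈ ({a, b, c} : Finset α))
    (hq : q ∈ ({a, b, c} : Finset α)) (hp' : p ∈ ({x, y, z} : Finset α))
    (hq' : q ∈ ({x, y, z} : Finset α)) (hr : r ∈ ({x, y, z} : Finset α)) :
    r = a ∨ r = b ∨ r = c := by
  rw [← hP.unique _ h1 _ h2 p q hpq hp hq hp' hq'] at hr
  simpa using hr

theorem IsPlane.start : ∃ ℓ : Fin 9 → α, Function.Injective ℓ ∧ (∀ i, ℓ i ∈ R) ∧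
    ∀ m ∈ startLines, (univ.filter fun i : Fin 9 => m.testBit i.val).image ℓ ∈ L := by
  obtain ⟨p0, h0⟩ := card_pos.1 (show 0 < R.card by rw [hP.card_points]; norm_num)
  obtain ⟨p1, h1, n10⟩ := exists_mem_ne (show 1 < R.card by rw [hP.card_points]; norm_num) p0
  obtain ⟨p2, h2, n20, n21, l012⟩ := hP.third h0 h1 (Ne.symm n10)
  obtain ⟨p3, h3, hn3⟩ := exists_mem_notMem_of_card_lt_card (s := ({p0, p1, p2} : Finset α)) (t := R)
    (by rw [hP.card_points]; exact card_le_three.trans_lt (by norm_num))
  simp only [mem_insert, mem_singleton, not_or] at hn3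
  obtain ⟨n30, n31, n32⟩ := hn3
  obtain ⟨p6, h6, n60, n63, l036⟩ := hP.third h0 h3 (Ne.symm n30)
  have n61 : p6 ≠ p1 := fun e => by
    subst e
    rcases hP.ne_third l012 l036 (p := p0) (q := p6) (r := p3) (Ne.symm n60) (by simp) (by simp)
      (by simp) (by simp) (by simp) with e | e | e
    exacts [n30 e, n31 e, n32 e]
  have n62 : p6 ≠ p2 := fun e => by
    subst e
    rcases hP.ne_third l012 l036 (p := p0) (q := p6) (r := p3) (Ne.symm n60) (by simp) (by simp)
      (by simp) (by simp) (by simp) with e | e | e
    exacts [n30 e, n31 e, n32 e]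
  obtain ⟨p8, h8, n81, n83, l138⟩ := hP.third h1 h3 (Ne.symm n31)
  have n80 : p8 ≠ p0 := fun e => by
    subst e
    rcases hP.ne_third l012 l138 (p := p8) (q := p1) (r := p3) n81 (by simp) (by simp)
      (by simp) (by simp) (by simp) with e | e | e
    exacts [n30 e, n31 e, n32 e]
  have n82 : p8 ≠ p2 := fun e => by
    subst e
    rcases hP.ne_third l012 l138 (p := p8) (q := p1) (r := p3) n81 (by simp) (by simp)
      (by simp) (by simp) (by simp) with e | e | e
    exacts [n30 e, n31 e, n32 e]
  have n86 : p8 ≠ p6 := fun e => by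
    subst e
    rcases hP.ne_third l036 l138 (p := p8) (q := p3) (r := p1) n83 (by simp) (by simp)
      (by simp) (by simp) (by simp) with e | e | e
    exacts [n10 e, n31 e.symm, n81 e.symm]
  obtain ⟨p4, h4, n40, n48, l084⟩ := hP.third h0 h8 (Ne.symm n80)
  have l048 : ({p0, p4, p8} : Finset α) ∈ L := by rwa [pair_comm p8 p4] at l084
  have n41 : p4 ≠ p1 := fun e => by
    subst e
    rcases hP.ne_third l012 l048 (p := p0) (q := p4) (r := p8) (Ne.symm n40) (by simp) (by simp)
      (by simp) (by simp) (by simp) with e | e | e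
    exacts [n80 e, n81 e, n82 e]
  have n42 : p4 ≠ p2 := fun e => by
    subst e
    rcases hP.ne_third l012 l048 (p := p0) (q := p4) (r := p8) (Ne.symm n40) (by simp) (by simp)
      (by simp) (by simp) (by simp) with e | e | e
    exacts [n80 e, n81 e, n82 e]
  have n43 : p4 ≠ p3 := fun e => by
    subst e
    rcases hP.ne_third l036 l048 (p := p0) (q := p4) (r := p8) (Ne.symm n40) (by simp) (by simp)
      (by simp) (by simp) (by simp) with e | e | e
    exacts [n80 e, n83 e, n86 e]
  have n46 : p4 ≠ p6 := fun e => by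
    subst e
    rcases hP.ne_third l036 l048 (p := p0) (q := p4) (r := p8) (Ne.symm n40) (by simp) (by simp)
      (by simp) (by simp) (by simp) with e | e | e
    exacts [n80 e, n83 e, n86 e]
  obtain ⟨p5, h5, hn5⟩ := exists_mem_notMem_of_card_lt_card
    (s := ([p0, p1, p2, p3, p4, p6, p8] : List α).toFinset) (t := R)
    (by rw [hP.card_points]; exact (List.toFinset_card_le _).trans_lt (by simp))
  simp only [List.mem_toFinset, List.mem_cons, List.not_mem_nil, or_false, not_or] at hn5
  obtain ⟨n50, n51, n52, n53, n54, n56, n58⟩ := hn5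
  obtain ⟨p7, h7, n70, n75, l057⟩ := hP.third h0 h5 (Ne.symm n50)
  have other : ∀ {a b c : α}, ({a, b, c} : Finset α) ∈ L → p0 ∈ ({a, b, c} : Finset α) →
      p5 ≠ a → p5 ≠ b → p5 ≠ c → p7 ≠ a ∧ p7 ≠ b ∧ p7 ≠ c := by
    intro a b c hl h0' na nb nc
    have key : p7 ∈ ({a, b, c} : Finset α) → False := fun h => by
      rcases hP.ne_third hl l057 (p := p0) (q := p7) (r := p5) (Ne.symm n70) h0' h
        (by simp) (by simp) (by simp) with e | e | e
      exacts [na e, nb e, nc e]
    exact ⟨fun e => key (by simp [e]), fun e => key (by simp [e]), fun e => key (by simp [e])⟩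
  obtain ⟨-, n71, n72⟩ := other l012 (by simp) n50 n51 n52
  obtain ⟨-, n73, n76⟩ := other l036 (by simp) n50 n53 n56
  obtain ⟨-, n74, n78⟩ := other l048 (by simp) n50 n54 n58
  refine ⟨![p0, p1, p2, p3, p4, p5, p6, p7, p8], ?_, ?_, ?_⟩
  · intro i j h
    fin_cases i <;> fin_cases j <;> (first | rfl | (simp only [Fin.isValue, Matrix.cons_val] at h; exact absurd h (by
      first | assumption | exact Ne.symm ‹_› | (intro e; simp_all))))
  · intro i
    fin_cases i <;> assumption
  · intro m hm
    simp only [startLines, List.mem_cons, List.not_mem_nil, or_false] at hm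
    rcases hm with rfl | rfl | rfl | rfl | rfl
    · rw [show (univ.filter fun i : Fin 9 => (7 : ℕ).testBit i.val) = {0, 1, 2} by decide]
      simpa [image_insert] using l012
    · rw [show (univ.filter fun i : Fin 9 => (73 : ℕ).testBit i.val) = {0, 3, 6} by decide]
      simpa [image_insert] using l036
    · rw [show (univ.filter fun i : Fin 9 => (273 : ℕ).testBit i.val) = {0, 4, 8} by decide]
      simpa [image_insert] using l048
    · rw [show (univ.filter fun i : Fin 9 => (161 : ℕ).testBit i.val) = {0, 5, 7} by decide]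
      simpa [image_insert] using l057
    · rw [show (univ.filter fun i : Fin 9 => (266 : ℕ).testBit i.val) = {1, 3, 8} by decide]
      simpa [image_insert] using l138

/-- The plane is the standard one. -/
theorem IsPlane.labelling : ∃ ℓ : Fin 9 → α, Function.Injective ℓ ∧ (∀ i, ℓ i ∈ R) ∧
    ∀ m ∈ lineMasks, (univ.filter fun i : Fin 9 => m.testBit i.val).image ℓ ∈ L := by
  obtain ⟨ℓ, hℓ, hR, hstart⟩ := hP.start
  obtain ⟨r, hr, hrL⟩ := hP.completeLines_sound ℓ hℓ hR 9 startLines hstart
  obtain ⟨π, -, hπ, hπr⟩ := completeLines_ok r hr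
  refine ⟨ℓ ∘ π, hℓ.comp hπ, fun i => hR _, fun m hm => ?_⟩
  obtain ⟨l, hl, hml⟩ := hπr m hm
  rw [← image_image]
  have h3 : (univ.filter fun i : Fin 9 => m.testBit i.val).card = 3 :=
    (by decide +kernel : ∀ m ∈ lineMasks, (univ.filter fun i : Fin 9 => m.testBit i.val).card = 3) m hm
  have hl3 := (hP.sub _ (hrL l hl)).2
  rw [card_image_of_injective _ hℓ] at hl3
  have e : (univ.filter fun i : Fin 9 => m.testBit i.val).image π =
      univ.filter fun i : Fin 9 => l.testBit i.val := by
    refine eq_of_subset_of_card_le (fun y hy => ?_) (by rw [hl3, card_image_of_injective _ hπ, h3])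
    obtain ⟨i, hi, rfl⟩ := mem_image.1 hy
    simp only [mem_filter, mem_univ, true_and] at hi ⊢
    simp only [List.all_eq_true, List.mem_filter, List.mem_range] at hml
    simpa using hml i.val ⟨i.isLt, hi⟩
  rw [e]
  exact hrL l hl

omit hP

/-- Colourings of the first quadrangles: adjacent ones get different colours. -/
def colourStates : List ℕ → List (List ℕ)
  | [] => [[]]
  | q :: before => (colourStates before).flatMap fun s =>
      ((List.range 3).filter fun c =>
        (before.zip s).all fun x => !(pop12 (x.1 &&& q) == 3 && x.2 == c)).map fun c => c :: s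
where
  /-- Number of bits among the low nine. -/
  pop12 (m : ℕ) : ℕ := ((List.range 9).filter fun i => m.testBit i).length

/-- The labels of a special pair, by colour. -/
def pairMask : ℕ → ℕ
  | 0 => 1536
  | 1 => 2560
  | _ => 3072

/-- The six relabellings of the special points. -/
def specialPerms : List (List ℕ) :=
  [[9, 10, 11], [9, 11, 10], [10, 9, 11], [10, 11, 9], [11, 9, 10], [11, 10, 9]]

/-- A relabelling as a function. -/
def specialFun (p : List ℕ) (i : Fin 12) : Fin 12 :=
  if i.val < 9 then i else Fin.ofNat 12 (p.getD (i.val - 9) 0)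

/-- Image of a mask under a relabelling. -/
def specialMask (p : List ℕ) (m : ℕ) : ℕ :=
  (List.range 12).foldr (fun i acc => if m.testBit i then acc ||| 2 ^ (specialFun p (Fin.ofNat 12 i)).val else acc) 0

/-- What a colouring predicts of the blocks with at least two special points. -/
def predicted (s : List ℕ) : List ℕ :=
  lineMasks.map (fun l => l + 3584) ++
    (quadMasks.reverse.zip s).map (fun x => x.1 + pairMask x.2)

theorem colourStates_ok : ∀ s ∈ colourStates quadMasks.reverse, ∃ p ∈ specialPerms,
    Function.Injective (specialFun p) ∧ ∀ h ∈ hexMasks,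
      (predicted s).contains (specialMask p h) = true ∨
        (predicted s).contains (specialMask p (4095 ^^^ h)) = true := by
  decide +kernel

theorem set12_specialMask : ∀ p ∈ specialPerms, ∀ h ∈ hexMasks ++ hexMasks.map (4095 ^^^ ·),
    set12 (specialMask p h) = (set12 h).image (specialFun p) := by
  decide +kernel

theorem set12_compl : ∀ h ∈ hexMasks, set12 (4095 ^^^ h) = (set12 h)ᶜ := by decide +kernel

theorem quad_facts : ∀ q ∈ quadMasks, q < 512 ∧ (set12 q).card = 4 ∧
    ∃ a b c : Fin 9, a < b ∧ b < c ∧ q.testBit a.val ∧ q.testBit b.val ∧ q.testBit c.val ∧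
      ((univ : Finset (Fin 9)).filter fun x => ¬ (x = a ∨ x = b ∨ x = c) ∧ ∀ l ∈ lineMasks,
        ∃ i : Fin 9, l.testBit i.val ∧ ¬ (i = a ∨ i = b ∨ i = c ∨ i = x)).card = 3 ∧
      ∀ l ∈ lineMasks, ∃ i : Fin 9, l.testBit i.val ∧ ¬ q.testBit i.val := by
  decide +kernel

variable [Fintype α] {B : Set (Finset α)}

theorem exists_labelling (hα : Fintype.card α = 12) (hB : IsSteinerSystem 5 6 B) :
    ∃ ℓ : Fin 12 ≃ α, (∀ h ∈ hexMasks, (set12 h).image ℓ ∈ B) := by
  have : DecidablePred (· ∈ B) := Classical.decPred _
  obtain ⟨T, -, hT⟩ := exists_subset_card_eq (show 3 ≤ (univ : Finset α).card by rw [card_univ, hα]; norm_num)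
  have hR9 : Tᶜ.card = 9 := by rw [card_compl, hα, hT]
  set L := (Tᶜ.powersetCard 3).filter fun l => l ∪ T ∈ B with hLdef
  have huniq : ∀ b ∈ B, ∀ c ∈ B, ∀ s : Finset α, 5 ≤ s.card → s ⊆ b → s ⊆ c → b = c :=
    fun b hb c hc s hs h1 h2 =>
      Steiner.eq_of_t_le hB hb hc (hs.trans (card_le_card (subset_inter h1 h2)))
  have hP : IsPlane Tᶜ L := by
    refine ⟨hR9, fun l hl => ?_, fun a ha b hb hab => ?_, fun l hl m hm a b hab hal hbl ham hbm => ?_⟩
    · simp only [hLdef, mem_filter, mem_powersetCard] at hl; exact hl.1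
    · have hdis : Disjoint ({a, b} : Finset α) T := by
        simp only [mem_compl] at ha hb
        simp [ha, hb]
      obtain ⟨c, ⟨hc, hsub⟩, -⟩ := hB.2 ({a, b} ∪ T) (by rw [card_union_of_disjoint hdis, card_pair hab, hT])
      have hTc : T ⊆ c := subset_union_right.trans hsub
      have hab' : ({a, b} : Finset α) ⊆ c := subset_union_left.trans hsub
      simp only [insert_subset_iff, singleton_subset_iff] at hab'
      refine ⟨c \ T, ?_, mem_sdiff.2 ⟨hab'.1, mem_compl.1 ha⟩, mem_sdiff.2 ⟨hab'.2, mem_compl.1 hb⟩⟩
      simp only [hLdef, mem_filter, mem_powersetCard, sdiff_union_of_subset hTc, hc, and_true]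
      exact ⟨fun x hx => mem_compl.2 (mem_sdiff.1 hx).2,
        by rw [card_sdiff_of_subset hTc, hB.1 c hc, hT]⟩
    · simp only [hLdef, mem_filter, mem_powersetCard] at hl hm
      have hd : ∀ {l : Finset α}, l ⊆ Tᶜ → Disjoint l T := fun h =>
        disjoint_left.2 fun x hx => mem_compl.1 (h hx)
      have hdis : Disjoint ({a, b} : Finset α) T :=
        (hd hl.1.1).mono_left (by simp [insert_subset_iff, hal, hbl])
      have e := huniq _ hl.2 _ hm.2 ({a, b} ∪ T)
        (by rw [card_union_of_disjoint hdis, card_pair hab, hT])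
        (union_subset_union (by simp [insert_subset_iff, hal, hbl]) le_rfl)
        (union_subset_union (by simp [insert_subset_iff, ham, hbm]) le_rfl)
      rw [← union_sdiff_cancel_right (hd hl.1.1), ← union_sdiff_cancel_right (hd hm.1.1), e]
  obtain ⟨ℓ9, hℓ9, hℓ9R, hlines⟩ := hP.labelling
  obtain ⟨i, j, k, hij, hik, hjk, hTe⟩ := card_eq_three.1 hT
  let f : Fin 12 → α := fun x => if h : x.val < 9 then ℓ9 ⟨x.val, h⟩ else
    if x.val = 9 then i else if x.val = 10 then j else k
  have f9 : f 9 = i := rfl
  have f10 : f 10 = j := rfl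
  have f11 : f 11 = k := rfl
  have hlow : ∀ x : Fin 9, f (x.castAdd 3) = ℓ9 x := fun x => by simp [f]
  have hsplit : ∀ x : Fin 12, (∃ y : Fin 9, x = y.castAdd 3) ∨ x = 9 ∨ x = 10 ∨ x = 11 := by decide
  have hfT : ∀ x : Fin 12, f x ∈ T ↔ 9 ≤ x.val := by
    intro x
    rcases hsplit x with ⟨y, rfl⟩ | rfl | rfl | rfl
    · rw [hlow]
      exact iff_of_false (mem_compl.1 (hℓ9R y)) (by simp)
    · rw [f9]; simp [hTe]
    · rw [f10]; simp [hTe]
    · rw [f11]; simp [hTe]
  have hf : Function.Injective f := by
    intro x y h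
    have hiff : 9 ≤ x.val ↔ 9 ≤ y.val := by rw [← hfT, ← hfT, h]
    rcases hsplit x with ⟨u, rfl⟩ | hx <;> rcases hsplit y with ⟨w, rfl⟩ | hy
    · rw [hlow, hlow] at h; rw [hℓ9 h]
    · exact absurd (hiff.2 (by rcases hy with rfl | rfl | rfl <;> decide)) (by simp)
    · exact absurd (hiff.1 (by rcases hx with rfl | rfl | rfl <;> decide)) (by simp)
    · rcases hx with rfl | rfl | rfl <;> rcases hy with rfl | rfl | rfl <;>
        first
          | rfl
          | (simp only [f9, f10, f11] at h; first
              | exact absurd h hij | exact absurd h hik | exact absurd h hjk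
              | exact absurd h.symm hij | exact absurd h.symm hik | exact absurd h.symm hjk)
  let F : Fin 12 ↪ α := ⟨f, hf⟩
  have hset9 : ∀ m < 512, set12 m =
      (univ.filter fun x : Fin 9 => m.testBit x.val).map (Fin.castAddEmb 3) := by
    intro m hm
    ext x
    simp only [set12, mem_filter, mem_univ, true_and, mem_map, castAddEmb_eq]
    refine ⟨fun hx => ?_, fun ⟨y, hy, e⟩ => by rw [← e]; exact hy⟩
    have h9 : x.val < 9 := by
      by_contra h
      rw [Nat.testBit_lt_two_pow (lt_of_lt_of_le hm (by
        rw [show (512 : ℕ) = 2 ^ 9 from rfl]; exact Nat.pow_le_pow_right (by norm_num) (by omega)))] at hx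
      exact absurd hx (by simp)
    exact ⟨⟨x.val, h9⟩, hx, Fin.ext rfl⟩
  -- the blocks on the lines
  have hlineB : ∀ l ∈ lineMasks, (set12 (l + 3584)).map F ∈ B := by
    intro l hl
    have h9 := hlines l hl
    simp only [hLdef, mem_filter] at h9
    obtain ⟨hlt, e⟩ := (by decide +kernel : ∀ l ∈ lineMasks, l < 512 ∧
      set12 (l + 3584) = set12 l ∪ {9, 10, 11}) l hl
    rw [e, map_union, hset9 l hlt, map_map]
    convert h9.2 using 2
    · ext z; simp [F, hlow]
    · simp [F, f9, f10, f11, hTe]
  -- a colour for every quadrangle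
  have hpair : ∀ c < 3, (set12 (pairMask c)).card = 2 ∧ ∀ x ∈ set12 (pairMask c), 9 ≤ x.val := by
    decide +kernel
  have hpair_inj : ∀ c < 3, ∀ c' < 3, c ≠ c' → ∀ z : Fin 12, 9 ≤ z.val →
      z ∈ set12 (pairMask c) ∪ set12 (pairMask c') := by decide +kernel
  have hcol : ∀ q ∈ quadMasks, ∃ c < 3, (set12 (q + pairMask c)).map F ∈ B := by
    intro q hq
    obtain ⟨hlt, h4, a, b, c, hab, hbc, ha, hb, hc, hcand, hnl⟩ := quad_facts q hq
    set t : Finset (Fin 12) := {a.castAdd 3, b.castAdd 3, c.castAdd 3} with ht
    have ht9 : ∀ x ∈ t, x.val < 9 := by simp [ht]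
    have ht3 : t.card = 3 := by
      have h1 : a.castAdd 3 ≠ b.castAdd 3 := fun h => hab.ne (Fin.castAdd_injective _ _ h)
      have h2 : a.castAdd 3 ≠ c.castAdd 3 := fun h => (hab.trans hbc).ne (Fin.castAdd_injective _ _ h)
      have h3 : b.castAdd 3 ≠ c.castAdd 3 := fun h => hbc.ne (Fin.castAdd_injective _ _ h)
      rw [ht, card_insert_of_notMem (by simp [h1, h2]), card_pair h3]
    have hblock : ∀ col < 3, ∃ x : Fin 9, x ∈ ((univ : Finset (Fin 9)).filter fun x =>
          ¬ (x = a ∨ x = b ∨ x = c) ∧ ∀ l ∈ lineMasks,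
            ∃ i : Fin 9, l.testBit i.val ∧ ¬ (i = a ∨ i = b ∨ i = c ∨ i = x)) ∧
        ((set12 (pairMask col) ∪ (t ∪ {x.castAdd 3})).map F ∈ B) := by
      intro col hcol3
      obtain ⟨hp2, hp9⟩ := hpair col hcol3
      have hd : Disjoint (set12 (pairMask col)) t := disjoint_left.2 fun x hx hx' => by
        have := hp9 x hx; have := ht9 x hx'; omega
      obtain ⟨bl, ⟨hbl, hsub⟩, -⟩ := hB.2 ((set12 (pairMask col) ∪ t).map F)
        (by rw [card_map, card_union_of_disjoint hd, hp2, ht3])
      have hsurj : ∀ z, ∃ x, F x = z := fun z => by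
        obtain ⟨x, hx⟩ := ((Fintype.bijective_iff_injective_and_card f).2
          ⟨hf, by rw [Fintype.card_fin, hα]⟩).2 z
        exact ⟨x, hx⟩
      obtain ⟨z, hz⟩ := card_pos.1 (show 0 < (bl \ (set12 (pairMask col) ∪ t).map F).card by
        rw [card_sdiff_of_subset hsub, card_map, card_union_of_disjoint hd, hp2, ht3, hB.1 bl hbl]
        norm_num)
      obtain ⟨x, rfl⟩ := hsurj z
      rw [mem_sdiff, mem_map' F] at hz
      have hbl' : bl = (set12 (pairMask col) ∪ (t ∪ {x})).map F := by
        refine (eq_of_subset_of_card_le ?_ ?_).symm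
        · rw [← union_assoc, map_union, map_singleton]
          exact union_subset hsub (singleton_subset_iff.2 hz.1)
        · rw [hB.1 bl hbl, card_map, ← union_assoc, card_union_of_disjoint (by simpa using hz.2),
            card_union_of_disjoint hd, hp2, ht3, card_singleton]
      -- a line inside the new four-set would put all three special points in the block
      have hno : ∀ l ∈ lineMasks, ¬ set12 l ⊆ t ∪ {x} := by
        intro l hl hls
        obtain ⟨hlt', el, hl3⟩ := (by decide +kernel : ∀ l ∈ lineMasks, l < 512 ∧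
          set12 (l + 3584) = set12 l ∪ {9, 10, 11} ∧ (set12 l).card = 3) l hl
        have hl9 : ∀ y ∈ set12 l, y.val < 9 := fun y hy => by
          rw [hset9 l hlt', mem_map] at hy
          obtain ⟨u, -, rfl⟩ := hy
          simp
        have hdl : Disjoint (set12 (pairMask col)) (set12 l) := disjoint_left.2 fun y hy hy' => by
          have := hp9 y hy; have := hl9 y hy'; omega
        have e := huniq _ hbl _ (hlineB l hl) ((set12 (pairMask col) ∪ set12 l).map F)
          (by rw [card_map, card_union_of_disjoint hdl, hp2, hl3])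
          (by rw [hbl']; exact map_subset_map.2 (union_subset_union le_rfl hls))
          (by
            rw [el]
            refine map_subset_map.2 (union_subset ?_ subset_union_left)
            intro y hy
            have := hp9 y hy
            refine mem_union_right _ ?_
            have h3 : ∀ y : Fin 12, 9 ≤ y.val → y ∈ ({9, 10, 11} : Finset (Fin 12)) := by decide
            exact h3 y this)
        rw [hbl', el] at e
        have := Finset.map_injective F e
        have hsub3 : t ⊆ set12 l := fun y hy => by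
          have h1 : y ∈ set12 l ∪ ({9, 10, 11} : Finset (Fin 12)) :=
            this ▸ mem_union_right _ (mem_union_left _ hy)
          rcases mem_union.1 h1 with h | h
          · exact h
          · exact absurd h ((by decide : ∀ y : Fin 12, y.val < 9 →
              y ∉ ({9, 10, 11} : Finset (Fin 12))) y (ht9 y hy))
        have ht' : t = set12 l := eq_of_subset_of_card_le hsub3 (by rw [hl3, ht3])
        obtain ⟨u, hu, hu'⟩ := hnl l hl
        have hu2 : u.castAdd 3 ∈ t := by rw [ht', hset9 l hlt']; exact mem_map_of_mem _ (by simpa using hu)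
        simp only [ht, mem_insert, mem_singleton, castAdd_inj'] at hu2
        rcases hu2 with rfl | rfl | rfl <;> exact hu' (by assumption)
      have hx9 : x.val < 9 := by
        by_contra h
        have h9 : 9 ≤ x.val := by omega
        have hall : ∀ y : Fin 12, 9 ≤ y.val → y ∈ set12 (pairMask col) ∪ {x} := by
          have key : ∀ col < 3, ∀ x : Fin 12, 9 ≤ x.val → x ∉ set12 (pairMask col) →
              ∀ y : Fin 12, 9 ≤ y.val → y ∈ set12 (pairMask col) ∪ {x} := by decide +kernel
          exact key col hcol3 x h9 fun hx => hz.2 (mem_union_left _ hx)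
        -- the block would contain the three special points, so the triple would be a line
        obtain ⟨l, hl, hla, hlb⟩ := (by decide +kernel : ∀ a b : Fin 9, a ≠ b →
          ∃ l ∈ lineMasks, l.testBit a.val ∧ l.testBit b.val) a b hab.ne
        obtain ⟨hlt', el, hl3⟩ := (by decide +kernel : ∀ l ∈ lineMasks, l < 512 ∧
          set12 (l + 3584) = set12 l ∪ {9, 10, 11} ∧ (set12 l).card = 3) l hl
        have h2 : ({a.castAdd 3, b.castAdd 3} : Finset (Fin 12)) ∪ {9, 10, 11} ⊆ set12 (l + 3584) := by
          rw [el]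
          refine union_subset_union ?_ le_rfl
          rw [hset9 l hlt', insert_subset_iff, singleton_subset_iff]
          exact ⟨mem_map.2 ⟨a, by simpa using hla, rfl⟩, mem_map.2 ⟨b, by simpa using hlb, rfl⟩⟩
        have hcard5 : 5 ≤ (({a.castAdd 3, b.castAdd 3} : Finset (Fin 12)) ∪ {9, 10, 11}).card := by
          have key : ∀ a b : Fin 9, a ≠ b →
              5 ≤ (({a.castAdd 3, b.castAdd 3} : Finset (Fin 12)) ∪ {9, 10, 11}).card := by decide +kernel
          exact key a b hab.ne
        have e := huniq _ hbl _ (hlineB l hl)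
          ((({a.castAdd 3, b.castAdd 3} : Finset (Fin 12)) ∪ {9, 10, 11}).map F) (by rwa [card_map])
          (by
            rw [hbl']
            refine map_subset_map.2 (union_subset ?_ ?_)
            · simp [insert_subset_iff, ht]
            · intro y hy
              have hy9 : 9 ≤ y.val :=
                (by decide : ∀ y : Fin 12, y ∈ ({9, 10, 11} : Finset (Fin 12)) → 9 ≤ y.val) y hy
              rcases mem_union.1 (hall y hy9) with h | h
              · exact mem_union_left _ h
              · exact mem_union_right _ (mem_union_right _ h))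
          (map_subset_map.2 h2)
        rw [hbl', el] at e
        have hc' : c.castAdd 3 ∈ set12 l ∪ ({9, 10, 11} : Finset (Fin 12)) :=
          Finset.map_injective F e ▸ mem_union_right _ (mem_union_left _ (by simp [ht]))
        have hcl : l.testBit c.val = true := by
          rcases mem_union.1 hc' with h | h
          · simpa [set12] using h
          · exact absurd h ((by decide : ∀ c : Fin 9, c.castAdd 3 ∉ ({9, 10, 11} : Finset (Fin 12))) c)
        obtain ⟨u, hu, hu'⟩ := hnl l hl
        have key : ∀ l ∈ lineMasks, ∀ a b c u : Fin 9, a < b → b < c → l.testBit a.val → l.testBit b.val →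
            l.testBit c.val → l.testBit u.val → u = a ∨ u = b ∨ u = c := by decide +kernel
        rcases key l hl a b c u hab hbc hla hlb hcl hu with rfl | rfl | rfl <;> exact hu' (by assumption)
      refine ⟨⟨x.val, hx9⟩, mem_filter.2 ⟨mem_univ _, ?_, fun l hl => ?_⟩, ?_⟩
      · intro h
        apply hz.2
        refine mem_union_right _ ?_
        have hxe : x = Fin.castAdd 3 ⟨x.val, hx9⟩ := Fin.ext rfl
        rw [hxe]
        rcases h with h | h | h <;> simp [ht, h]
      · by_contra hh
        push Not at hh
        refine hno l hl fun y hy => ?_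
        rw [hset9 l ((by decide +kernel : ∀ l ∈ lineMasks, l < 512) l hl), mem_map] at hy
        obtain ⟨u, hu, rfl⟩ := hy
        rcases hh u (by simpa using hu) with rfl | rfl | rfl | rfl <;> simp [ht]
      · rw [hbl'] at hbl
        exact hbl
    choose g hg hgB using hblock
    have hginj : ∀ c1 (h1 : c1 < 3) c2 (h2 : c2 < 3), g c1 h1 = g c2 h2 → c1 = c2 := by
      intro c1 h1 c2 h2 e
      by_contra hne
      obtain ⟨hp1, hp19⟩ := hpair c1 h1
      obtain ⟨z, hz⟩ := card_pos.1 (show 0 < (set12 (pairMask c1)).card by rw [hp1]; norm_num)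
      have hmeet : ∀ c < 3, ∀ c' < 3, (set12 (pairMask c) ∩ set12 (pairMask c')).card ≥ 1 := by
        decide +kernel
      obtain ⟨z0, hz0⟩ := card_pos.1 (hmeet c1 h1 c2 h2)
      rw [mem_inter] at hz0
      have hgn : (g c1 h1).castAdd 3 ∉ t := by
        have := (mem_filter.1 (hg c1 h1)).2.1
        simpa [ht, castAdd_inj'] using this
      have heq := huniq _ (hgB c1 h1) _ (hgB c2 h2) ((({z0} : Finset (Fin 12)) ∪ (t ∪ {(g c1 h1).castAdd 3})).map F)
        (by
          rw [card_map, card_union_of_disjoint, card_union_of_disjoint (by simpa using hgn), card_singleton,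
            card_singleton, ht3]
          refine disjoint_singleton_left.2 fun hm => ?_
          have h9 := hp19 z0 hz0.1
          rcases mem_union.1 hm with hm | hm
          · have := ht9 z0 hm; omega
          · rw [mem_singleton] at hm
            have := congrArg Fin.val hm
            simp at this
            omega)
        (map_subset_map.2 (union_subset_union (singleton_subset_iff.2 hz0.1) le_rfl))
        (by rw [e]; exact map_subset_map.2 (union_subset_union (singleton_subset_iff.2 hz0.2) le_rfl))
      rw [← e] at heq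
      have heq' := Finset.map_injective F heq
      -- both pairs would be in one block
      obtain ⟨y, hy, hy2⟩ : ∃ y ∈ set12 (pairMask c1), y ∉ set12 (pairMask c2) :=
        not_subset.1 ((by decide +kernel : ∀ c < 3, ∀ c' < 3, c ≠ c' →
          ¬ set12 (pairMask c) ⊆ set12 (pairMask c')) c1 h1 c2 h2 hne)
      have hy3 : y ∈ set12 (pairMask c2) ∪ (t ∪ {(g c1 h1).castAdd 3}) := heq' ▸ mem_union_left _ hy
      have h9 := hp19 y hy
      rcases mem_union.1 hy3 with h | h
      · exact hy2 h
      · rcases mem_union.1 h with h | h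
        · have := ht9 y h; omega
        · rw [mem_singleton] at h
          have := congrArg Fin.val h
          simp at this
          omega
    let G : Fin 3 → Fin 9 := fun c => g c.val c.isLt
    have hGinj : Function.Injective G := fun c1 c2 e => Fin.ext (hginj _ _ _ _ e)
    have hGimg := eq_of_subset_of_card_le (s := univ.image G)
      (fun y hy => by obtain ⟨c, -, rfl⟩ := mem_image.1 hy; exact hg c.val c.isLt)
      (by rw [hcand, card_image_of_injective _ hGinj, card_univ, Fintype.card_fin])
    -- the fourth point of the quadrangle is a candidate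
    have hq4 : set12 q = (univ.filter fun x : Fin 9 => q.testBit x.val).map (Fin.castAddEmb 3) := hset9 q hlt
    rw [hq4, card_map] at h4
    obtain ⟨d, hd, hd'⟩ := exists_mem_notMem_of_card_lt_card (s := ({a, b, c} : Finset (Fin 9)))
      (t := univ.filter fun x : Fin 9 => q.testBit x.val) (card_le_three.trans_lt (by rw [h4]; norm_num))
    simp only [mem_filter, mem_univ, true_and] at hd
    simp only [mem_insert, mem_singleton] at hd'
    have hdc : d ∈ univ.image G := by
      rw [hGimg, mem_filter]
      refine ⟨mem_univ _, hd', fun l hl => ?_⟩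
      obtain ⟨u, hu, hu'⟩ := hnl l hl
      exact ⟨u, hu, fun h => hu' (by rcases h with rfl | rfl | rfl | rfl <;> assumption)⟩
    obtain ⟨col, -, hcold⟩ := mem_image.1 hdc
    refine ⟨col.val, col.isLt, ?_⟩
    have hqe : (univ.filter fun x : Fin 9 => q.testBit x.val) = {a, b, c, d} := by
      refine (eq_of_subset_of_card_le (by simp [insert_subset_iff, ha, hb, hc, hd]) ?_).symm
      rw [h4, card_insert_of_notMem, card_insert_of_notMem, card_pair]
      · exact fun h => hd' (Or.inr (Or.inr h.symm))
      · simp [hbc.ne, show b ≠ d from fun h => hd' (Or.inr (Or.inl h.symm))]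
      · simp [hab.ne, (hab.trans hbc).ne, show a ≠ d from fun h => hd' (Or.inl h.symm)]
    have hsum : set12 (q + pairMask col.val) = set12 q ∪ set12 (pairMask col.val) :=
      (by decide +kernel : ∀ q ∈ quadMasks, ∀ c < 3, set12 (q + pairMask c) = set12 q ∪ set12 (pairMask c))
        q hq col.val col.isLt
    have hB' := hgB col.val col.isLt
    have hqt : set12 q = t ∪ {d.castAdd 3} := by
      rw [hq4, hqe, ht]; simp [map_insert]
    rw [hsum, hqt, union_comm]
    rw [show g col.val col.isLt = d from hcold] at hB'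
    exact hB'
  -- the colours form a proper colouring
  choose! col hcol3 hcolB using hcol
  have hstate : ∀ qs : List ℕ, (∀ q ∈ qs, q ∈ quadMasks) → qs.Nodup → qs.map col ∈ colourStates qs := by
    intro qs
    induction qs with
    | nil => intro _ _; simp [colourStates]
    | cons q before ih =>
      intro hmem hnd
      rw [List.nodup_cons] at hnd
      simp only [colourStates, List.mem_flatMap, List.mem_map, List.mem_filter, List.mem_range,
        List.all_eq_true]
      refine ⟨before.map col, ih (fun x hx => hmem x (List.mem_cons_of_mem _ hx)) hnd.2, col q,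
        ⟨hcol3 q (hmem q (by simp)), fun x hx => ?_⟩, rfl⟩
      rw [List.zip_map_right, List.mem_map] at hx
      obtain ⟨⟨r, r'⟩, hr, rfl⟩ := hx
      obtain rfl : r = r' := by
        rw [zip_self_map] at hr
        simp at hr
        exact hr.2.symm
      have hrm : r ∈ before := (List.of_mem_zip hr).1
      simp only [Prod.map_apply, id_eq, Bool.not_eq_true', Bool.and_eq_false_iff, beq_eq_false_iff_ne]
      by_contra hh
      push Not at hh
      obtain ⟨hpop, hceq⟩ := hh
      obtain ⟨hsame, hne⟩ := (by decide +kernel : ∀ r ∈ quadMasks, ∀ q ∈ quadMasks,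
        colourStates.pop12 (r &&& q) = 3 → r ≠ q →
          (∀ c < 3, 5 ≤ (set12 (q + pairMask c) ∩ set12 (r + pairMask c)).card) ∧
          ∀ c < 3, set12 (q + pairMask c) ≠ set12 (r + pairMask c))
        r (hmem r (List.mem_cons_of_mem _ hrm)) q (hmem q (by simp)) hpop (fun e => hnd.1 (e ▸ hrm))
      have hr3 := hcol3 r (hmem r (List.mem_cons_of_mem _ hrm))
      have hqB := hcolB q (hmem q (by simp))
      have hrB := hcolB r (hmem r (List.mem_cons_of_mem _ hrm))
      rw [← hceq] at hqB
      refine hne _ hr3 (Finset.map_injective F (Steiner.eq_of_t_le hB hqB hrB ?_))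
      rw [← map_inter, card_map]
      exact hsame _ hr3
  have hS := hstate quadMasks.reverse (fun q hq => List.mem_reverse.1 hq) (by decide +kernel)
  obtain ⟨p, hp, hpinj, hpred⟩ := colourStates_ok _ hS
  have hB2 : ∀ m ∈ predicted (quadMasks.reverse.map col), (set12 m).map F ∈ B := by
    intro m hm
    simp only [predicted, List.mem_append, List.mem_map] at hm
    rcases hm with ⟨l, hl, rfl⟩ | ⟨⟨x, y⟩, hx, rfl⟩
    · exact hlineB l hl
    · rw [List.zip_map_right, List.mem_map] at hx
      obtain ⟨⟨r, r'⟩, hr, he⟩ := hx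
      rw [zip_self_map] at hr
      simp only [List.mem_map, List.mem_reverse, Prod.mk.injEq] at hr
      obtain ⟨w, hw, rfl, rfl⟩ := hr
      simp only [Prod.map_apply, id_eq, Prod.mk.injEq] at he
      obtain ⟨rfl, rfl⟩ := he
      exact hcolB w hw
  have hbij : Function.Bijective (f ∘ specialFun p) :=
    (Fintype.bijective_iff_injective_and_card _).2 ⟨hf.comp hpinj, by rw [Fintype.card_fin, hα]⟩
  refine ⟨Equiv.ofBijective _ hbij, fun h hh => ?_⟩
  have himg : ∀ m ∈ hexMasks ++ hexMasks.map (4095 ^^^ ·),
      (set12 m).image (Equiv.ofBijective _ hbij) = (set12 (specialMask p m)).map F := by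
    intro m hm
    rw [map_eq_image, set12_specialMask p hp m hm, image_image]
    rfl
  rcases hpred h hh with e | e
  · rw [himg h (List.mem_append_left _ hh)]
    exact hB2 _ (List.contains_iff_mem.1 e)
  · have h2 := hB2 _ (List.contains_iff_mem.1 e)
    rw [← himg _ (List.mem_append_right _ (List.mem_map_of_mem hh)), set12_compl h hh] at h2
    have h3 := Steiner.compl_mem_12 hα hB h2
    have e : ((set12 h)ᶜ.image (Equiv.ofBijective _ hbij))ᶜ =
        (set12 h).image (Equiv.ofBijective _ hbij) := by
      ext y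
      obtain ⟨x, rfl⟩ := (Equiv.ofBijective _ hbij).surjective y
      rw [mem_compl, (Equiv.injective _).mem_finset_image, (Equiv.injective _).mem_finset_image,
        mem_compl, not_not]
    rwa [e] at h3

/-- Every S(5,6,12) is a copy of the standard one. -/
theorem exists_equiv (hα : Fintype.card α = 12) (hB : IsSteinerSystem 5 6 B) :
    ∃ e : Fin 12 ≃ α, (fun b : Finset (Fin 12) => b.image e) '' (std12 : Set (Finset (Fin 12))) = B := by
  obtain ⟨e, he⟩ := exists_labelling hα hB
  refine ⟨e, Set.eq_of_subset_of_ncard_le ?_ ?_ (Set.toFinite _)⟩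
  · rintro _ ⟨s, hs, rfl⟩
    simp only [std12, mem_coe, List.mem_toFinset, List.mem_map] at hs
    obtain ⟨h, hh, rfl⟩ := hs
    exact he h hh
  · rw [Set.InjOn.ncard_image (image_injective e.injective).injOn, Set.ncard_coe_finset, card_std12]
    have h := Steiner.ncard_mul_choose hB
    rw [hα, show Nat.choose 6 5 = 6 by decide, show Nat.choose 12 5 = 792 by decide] at h
    omega

end CfsgLib.Mathieu.S12
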