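import Cfsg.Agent.Mathieu.SteinerUnique

/-!
A Steiner system S(3,6,22) and two new points give a Golay code.
-/

set_option autoImplicit false

namespace CfsgLib.Mathieu.S22

open Cfsg Finset
open scoped symmDiff

variable {α : Type*} [Fintype α] [DecidableEq α]

/-- A subset of `α` with the two new points put in or left out. -/
def ext2 (y : Finset α) (a b : Bool) : Finset (Option (Option α)) :=
  univ.filter fun w =>
    (match w with
    | none => a
    | some none => b
    | some (some x) => decide (x ∈ y)) = true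

@[simp] theorem none_mem_ext2 {y : Finset α} {a b : Bool} : none ∈ ext2 y a b ↔ a = true := by
  simp [ext2]

@[simp] theorem some_none_mem_ext2 {y : Finset α} {a b : Bool} :
    some none ∈ ext2 y a b ↔ b = true := by
  simp [ext2]

@[simp] theorem some_some_mem_ext2 {y : Finset α} {a b : Bool} {x : α} :
    some (some x) ∈ ext2 y a b ↔ x ∈ y := by
  simp [ext2]

theorem ext2_inj {y y' : Finset α} {a a' b b' : Bool} (h : ext2 y a b = ext2 y' a' b') :
    y = y' ∧ a = a' ∧ b = b' := by
  refine ⟨?_, ?_, ?_⟩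
  · ext x
    have := Finset.ext_iff.1 h (some (some x))
    simpa using this
  · have := Finset.ext_iff.1 h none
    simp only [none_mem_ext2] at this
    exact Bool.eq_iff_iff.2 this
  · have := Finset.ext_iff.1 h (some none)
    simp only [some_none_mem_ext2] at this
    exact Bool.eq_iff_iff.2 this

theorem card_ext2 (y : Finset α) (a b : Bool) :
    (ext2 y a b).card = y.card + a.toNat + b.toNat := by
  have h : (ext2 y a b).card = a.toNat + (b.toNat + y.card) := by
    rw [ext2, card_filter, Fintype.sum_option, Fintype.sum_option]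
    congr 1
    · cases a <;> rfl
    · congr 1
      · cases b <;> rfl
      · rw [← card_filter]
        congr 1
        ext x
        simp
  omega

theorem ext2_symmDiff (y y' : Finset α) (a a' b b' : Bool) :
    ext2 y a b ∆ ext2 y' a' b' = ext2 (y ∆ y') (a ^^ a') (b ^^ b') := by
  ext w
  rcases w with _ | _ | x
  · cases a <;> cases a' <;> simp [Finset.mem_symmDiff]
  · cases b <;> cases b' <;> simp [Finset.mem_symmDiff]
  · simp [Finset.mem_symmDiff]

/-- The size of an even set is twice an odd number. -/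
def q (x : Finset α) : Bool := x.card % 4 == 2

/-- The subsets that every block meets evenly. -/
noncomputable def perp (B : Set (Finset α)) : Finset (Finset α) := evenPerp univ (Steiner.blocks B)

theorem mem_perp {B : Set (Finset α)} {x : Finset α} :
    x ∈ perp B ↔ ∀ b ∈ B, Even (x ∩ b).card := by
  simp [perp, evenPerp, Steiner.mem_blocks]

variable {B : Set (Finset α)}

theorem perp_symm {x y : Finset α} (hx : x ∈ perp B) (hy : y ∈ perp B) : x ∆ y ∈ perp B := by
  rw [mem_perp] at *
  intro b hb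
  have := inter_card_symmDiff b x y
  have h1 := hx b hb
  have h2 := hy b hb
  rw [inter_comm x b] at h1
  rw [inter_comm y b] at h2
  rw [inter_comm, Nat.even_iff]
  rw [Nat.even_iff] at h1 h2
  omega

theorem empty_mem_perp : (∅ : Finset α) ∈ perp B := mem_perp.2 fun b _ => by simp

variable (hα : Fintype.card α = 22) (hB : IsSteinerSystem 3 6 B)
include hα hB

theorem moments (S : Finset α) :
    (∑ i ∈ range 7, Steiner.nMeet B S ∅ i = 77) ∧
    (∑ i ∈ range 7, Steiner.nMeet B S ∅ i * i.choose 1 = S.card.choose 1 * 21) ∧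
    (∑ i ∈ range 7, Steiner.nMeet B S ∅ i * i.choose 2 = S.card.choose 2 * 5) ∧
    (∑ i ∈ range 7, Steiner.nMeet B S ∅ i * i.choose 3 = S.card.choose 3) := by
  have hlt : ∀ c ∈ Steiner.blocks B \ ∅, (S ∩ c).card < 7 := fun c hc =>
    Nat.lt_succ_of_le ((card_le_card inter_subset_right).trans
      (hB.1 c (Steiner.mem_blocks.1 (mem_sdiff.1 hc).1)).le)
  have hm : ∀ j m : ℕ, j ≤ 3 → 0 < (6 - j).choose (3 - j) →
      m * (6 - j).choose (3 - j) = (22 - j).choose (3 - j) →
      ∑ i ∈ range 7, Steiner.nMeet B S ∅ i * i.choose j = S.card.choose j * m := by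
    intro j m hj hp hm
    have h := Steiner.sum_choose_inter hB hj hp (by rw [hα]; exact hm) S
    rwa [show Steiner.blocks B = Steiner.blocks B \ ∅ from (sdiff_empty).symm,
      Steiner.sum_eq_sum_nMeet S ∅ hlt (fun i => i.choose j)] at h
  exact ⟨by simpa using hm 0 77 (by norm_num) (by decide) (by decide),
    hm 1 21 (by norm_num) (by decide) (by decide),
    hm 2 5 (by norm_num) (by decide) (by decide),
    by simpa using hm 3 1 (by norm_num) (by decide) (by decide)⟩

theorem block_mem_perp {b : Finset α} (hb : b ∈ B) : b ∈ perp B := mem_perp.2 fun c hc => by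
  by_cases h : b = c
  · rw [h, inter_self, hB.1 c hc]; exact ⟨3, rfl⟩
  · rcases Steiner.inter_22 hα hB hb hc h with e | e <;> rw [e] <;> decide

theorem perp_weights {x : Finset α} (hx : x ∈ perp B) :
    (x.card = 0 ∨ x.card = 6 ∨ x.card = 8 ∨ x.card = 10 ∨ x.card = 12 ∨ x.card = 14 ∨ x.card = 16 ∨
      x.card = 22) ∧ (x.card = 6 → x ∈ B) := by
  obtain ⟨m0, m1, m2, m3⟩ := moments hα hB x
  have hodd : ∀ i, i % 2 = 1 → Steiner.nMeet B x ∅ i = 0 := fun i hi => by
    refine card_eq_zero.2 (filter_eq_empty_iff.2 fun c hc h => ?_)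
    have h1 := Nat.even_iff.1 (mem_perp.1 hx c (Steiner.mem_blocks.1 (mem_sdiff.1 hc).1))
    omega
  simp only [sum_range_succ, sum_range_zero, Nat.choose_one_right, Nat.choose, zero_add, Nat.reduceAdd,
    mul_zero, mul_one, hodd 1 rfl, hodd 3 rfl, hodd 5 rfl, zero_mul, add_zero] at m0 m1 m2 m3
  have h22 : x.card < 23 := Nat.lt_succ_of_le (hα ▸ card_le_univ x)
  constructor
  · generalize x.card = s at m1 m2 m3 h22 ⊢
    interval_cases s <;> simp only [Nat.choose, Nat.reduceAdd] at m2 m3 <;> omega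
  · intro h6
    rw [h6] at m1 m2 m3
    simp only [Nat.choose, Nat.reduceAdd, Nat.reduceMul] at m1 m2 m3
    obtain ⟨c, hc⟩ := card_pos.1 (show 0 < Steiner.nMeet B x ∅ 6 by omega)
    simp only [mem_filter, mem_sdiff, Steiner.mem_blocks, notMem_empty, not_false_eq_true,
      and_true] at hc
    have hxc : x ∩ c = x := eq_of_subset_of_card_le inter_subset_left (by omega)
    exact (eq_of_subset_of_card_le (inter_eq_left.1 hxc) (by rw [h6, hB.1 c hc.1])) ▸ hc.1

theorem perp_even {x : Finset α} (hx : x ∈ perp B) : Even x.card := by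
  rcases (perp_weights hα hB hx).1 with h | h | h | h | h | h | h | h <;> rw [h] <;> decide

theorem perp_eq_span : perp B = spanFam (Steiner.blocks B) ∧ (perp B).card = 2048 := by
  set S := spanFam (Steiner.blocks B) with hS
  have hev : ∀ a ∈ Steiner.blocks B, ∀ b ∈ Steiner.blocks B, Even (a ∩ b).card := fun a ha b hb =>
    mem_perp.1 (block_mem_perp hα hB (Steiner.mem_blocks.1 ha)) b (Steiner.mem_blocks.1 hb)
  have hsub : S ⊆ perp B := fun x hx => mem_perp.2 fun b hb =>
    spanFam_even hev hx (subset_spanFam _ (Steiner.mem_blocks.2 hb))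
  have heq : evenPerp univ S = perp B := by
    ext x
    simp only [evenPerp, mem_filter, mem_powerset, subset_univ, true_and, mem_perp]
    refine ⟨fun h b hb => h b (subset_spanFam _ (Steiner.mem_blocks.2 hb)), fun h d hd => ?_⟩
    refine spanFam_induction (fun y => Even (x ∩ y).card) (by simp) (fun a c h1 h2 => ?_)
      (fun b hb => h b (Steiner.mem_blocks.1 hb)) hd
    have := inter_card_symmDiff x a c
    rw [Nat.even_iff] at *
    omega
  have hmul := card_evenPerp_mul (U := (univ : Finset α)) (empty_mem_spanFam _)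
    (fun d _ => subset_univ d) (fun a ha b hb => symmDiff_mem_spanFam (B := Steiner.blocks B) ha hb)
  rw [← hS, heq, card_univ, hα] at hmul
  -- triples are inequivalent but in pairs
  set T := (univ : Finset α).powersetCard 3
  have hT : T.card = 1540 := by rw [card_powersetCard, card_univ, hα]; decide
  have hfib : ∀ y ∈ (T ×ˢ perp B).image (fun p => p.1 ∆ p.2),
      ((T ×ˢ perp B).filter fun p => p.1 ∆ p.2 = y).card ≤ 2 := by
    intro y hy
    obtain ⟨⟨t, x⟩, htx, rfl⟩ := mem_image.1 hy
    obtain ⟨ht, hx⟩ : t ∈ T ∧ x ∈ perp B := mem_product.1 htx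
    have ht3 := (mem_powersetCard.1 ht).2
    obtain ⟨b, ⟨hb, htb⟩, huniq⟩ := hB.2 t ht3
    refine (card_le_card (t := ({(t, x), (b \ t, t ∆ x ∆ (b \ t))} : Finset _)) ?_).trans card_le_two
    rintro ⟨t', x'⟩ hp
    simp only [mem_filter, mem_product] at hp
    obtain ⟨⟨ht', hx'⟩, he⟩ := hp
    have ht3' := (mem_powersetCard.1 ht').2
    have hx'eq : x' = t ∆ x ∆ t' := by
      rw [← he, symmDiff_comm t' x', symmDiff_symmDiff_cancel_right]
    have hd : t ∆ t' = x ∆ x' := by
      rw [hx'eq, symmDiff_assoc, symmDiff_left_comm x, symmDiff_symmDiff_cancel_left]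
    have hmem : t ∆ t' ∈ perp B := hd ▸ perp_symm hx hx'
    have hc := card_symmDiff_add t t'
    obtain ⟨hw, hw6⟩ := perp_weights hα hB hmem
    simp only [mem_insert, mem_singleton]
    by_cases h0 : t = t'
    · left
      subst h0
      rw [hx'eq, symmDiff_comm t x, symmDiff_symmDiff_cancel_right]
    · right
      have hne : (t ∆ t').card ≠ 0 := fun h => h0 (symmDiff_eq_bot.1 (card_eq_zero.1 h))
      have h6 : (t ∆ t').card = 6 := by omega
      have hdis : Disjoint t t' := disjoint_iff_inter_eq_empty.2 (card_eq_zero.1 (by omega))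
      have hbe : t ∆ t' = b := huniq _ ⟨hw6 h6, hdis.symmDiff_eq_sup.symm ▸ subset_union_left⟩
      have : t' = b \ t := by
        rw [← hbe, hdis.symmDiff_eq_sup]
        exact (union_sdiff_cancel_left hdis).symm
      rw [← this, ← hx'eq]
  have hle := card_le_mul_card_image (T ×ˢ perp B) 2 hfib
  have himg : ((T ×ˢ perp B).image (fun p => p.1 ∆ p.2)).card ≤ 2 ^ 21 := by
    obtain ⟨a⟩ : Nonempty α := Fintype.card_pos_iff.1 (by omega)
    have h2 : ((univ : Finset (Finset α)).filter fun s => s.card % 2 = 1).card ≤ 2 ^ 21 := by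
      refine (card_le_card_of_injOn (fun s => s.erase a) (t := (univ.erase a).powerset) ?_ ?_).trans ?_
      · exact fun s _ => mem_powerset.2 (erase_subset_erase _ (subset_univ s))
      · intro s hs s' hs' (h : s.erase a = s'.erase a)
        simp only [coe_filter, mem_univ, true_and, Set.mem_ofPred_eq] at hs hs'
        by_cases ha : a ∈ s <;> by_cases ha' : a ∈ s'
        · rw [← insert_erase ha, ← insert_erase ha', h]
        · have h2 := congrArg card h
          rw [card_erase_of_mem ha, erase_eq_of_notMem ha'] at h2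
          omega
        · have h2 := congrArg card h
          rw [card_erase_of_mem ha', erase_eq_of_notMem ha] at h2
          omega
        · rwa [erase_eq_of_notMem ha, erase_eq_of_notMem ha'] at h
      · rw [card_powerset, card_erase_of_mem (mem_univ a), card_univ, hα]
    refine (card_le_card fun y hy => ?_).trans h2
    obtain ⟨⟨t, x⟩, htx, rfl⟩ := mem_image.1 hy
    obtain ⟨ht, hx⟩ : t ∈ T ∧ x ∈ perp B := mem_product.1 htx
    have h1 := card_symmDiff_add t x
    have h3 := (mem_powersetCard.1 ht).2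
    have h4 := Nat.even_iff.1 (perp_even hα hB hx)
    simp only [mem_filter, mem_univ, true_and]
    omega
  rw [card_product, hT] at hle
  have hSle : S.card ≤ (perp B).card := card_le_card hsub
  have hbound : (perp B).card ≤ 2723 := by omega
  have hdvd : S.card ∣ 2 ^ 22 := ⟨_, hmul.symm.trans (mul_comm _ _)⟩
  obtain ⟨k, hk, hSk⟩ := (Nat.dvd_prime_pow Nat.prime_two).1 hdvd
  have hk11 : k = 11 := by
    rw [hSk] at hmul hSle
    interval_cases k <;> omega
  subst hk11
  have hp : (perp B).card = 2048 := by rw [hSk] at hmul; omega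
  exact ⟨(eq_of_subset_of_card_le hsub (by rw [hp, hSk]; norm_num)).symm, hp⟩

theorem perp_self_orth {x y : Finset α} (hx : x ∈ perp B) (hy : y ∈ perp B) : Even (x ∩ y).card := by
  rw [(perp_eq_span hα hB).1] at hy
  refine spanFam_induction (fun y => Even (x ∩ y).card) (by simp) (fun a c h1 h2 => ?_)
    (fun b hb => mem_perp.1 hx b (Steiner.mem_blocks.1 hb)) hy
  have := inter_card_symmDiff x a c
  rw [Nat.even_iff] at *
  omega

theorem q_symmDiff {x y : Finset α} (hx : x ∈ perp B) (hy : y ∈ perp B) :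
    q (x ∆ y) = (q x ^^ q y) := by
  have h := card_symmDiff_add x y
  have h1 := Nat.even_iff.1 (perp_even hα hB hx)
  have h2 := Nat.even_iff.1 (perp_even hα hB hy)
  have h3 := Nat.even_iff.1 (perp_self_orth hα hB hx hy)
  simp only [q]
  rcases (show x.card % 4 = 0 ∨ x.card % 4 = 2 by omega) with e1 | e1 <;>
    rcases (show y.card % 4 = 0 ∨ y.card % 4 = 2 by omega) with e2 | e2 <;>
    simp [e1, e2] <;> omega

theorem exists_odd_vector : ∃ v : Finset α, ∀ b ∈ B, (v ∩ b).card % 2 = 1 := by
  set K := (perp B).filter fun x => q x = false with hK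
  obtain ⟨hspan, hcard⟩ := perp_eq_span hα hB
  obtain ⟨b₀, hb₀⟩ : B.Nonempty := by
    obtain ⟨s, -, hs⟩ := exists_subset_card_eq (show 3 ≤ (univ : Finset α).card by rw [card_univ, hα]; norm_num)
    obtain ⟨b, ⟨hb, -⟩, -⟩ := hB.2 s hs
    exact ⟨b, hb⟩
  have hqb : ∀ b ∈ B, q b = true := fun b hb => by simp [q, hB.1 b hb]
  have hhalf : K.card = 1024 := by
    have h := card_filter_add_card_filter_not (s := perp B) (fun x => q x = false)
    have e : ((perp B).filter fun x => ¬ q x = false).card = K.card := by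
      refine card_bij' (fun x _ => x ∆ b₀) (fun x _ => x ∆ b₀) ?_ ?_ ?_ ?_
      · intro x hx
        simp only [hK, mem_filter, Bool.not_eq_false] at hx ⊢
        exact ⟨perp_symm hx.1 (block_mem_perp hα hB hb₀),
          by rw [q_symmDiff hα hB hx.1 (block_mem_perp hα hB hb₀), hx.2, hqb b₀ hb₀]; rfl⟩
      · intro x hx
        simp only [hK, mem_filter, Bool.not_eq_false] at hx ⊢
        exact ⟨perp_symm hx.1 (block_mem_perp hα hB hb₀),
          by rw [q_symmDiff hα hB hx.1 (block_mem_perp hα hB hb₀), hx.2, hqb b₀ hb₀]; rfl⟩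
      · intro x _; exact symmDiff_symmDiff_cancel_right b₀ x
      · intro x _; exact symmDiff_symmDiff_cancel_right b₀ x
    rw [← hK, e, hcard] at h
    omega
  have hclosed : ∀ a ∈ K, ∀ b ∈ K, a ∆ b ∈ K := fun a ha b hb => by
    simp only [hK, mem_filter] at ha hb ⊢
    exact ⟨perp_symm ha.1 hb.1, by rw [q_symmDiff hα hB ha.1 hb.1, ha.2, hb.2]; rfl⟩
  have hmul := card_evenPerp_mul (U := (univ : Finset α)) (D := K)
    (mem_filter.2 ⟨empty_mem_perp, by simp [q]⟩) (fun d _ => subset_univ d) hclosed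
  rw [card_univ, hα, hhalf] at hmul
  obtain ⟨v, hv, hvP⟩ := exists_mem_notMem_of_card_lt_card (s := perp B) (t := evenPerp univ K)
    (by rw [hcard]; omega)
  simp only [evenPerp, mem_filter, mem_powerset, subset_univ, true_and] at hv
  refine ⟨v, fun b hb => ?_⟩
  by_contra hev
  refine hvP (mem_perp.2 fun c hc => ?_)
  have hK' : c ∆ b ∈ K := mem_filter.2 ⟨perp_symm (block_mem_perp hα hB hc) (block_mem_perp hα hB hb),
    by rw [q_symmDiff hα hB (block_mem_perp hα hB hc) (block_mem_perp hα hB hb), hqb c hc, hqb b hb]; rfl⟩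
  have h1 := Nat.even_iff.1 (hv _ hK')
  have := inter_card_symmDiff v c b
  rw [Nat.even_iff]
  omega

theorem odd_vector_weights {v : Finset α} (hv : ∀ b ∈ B, (v ∩ b).card % 2 = 1) :
    v.card = 7 ∨ v.card = 11 ∨ v.card = 15 := by
  obtain ⟨m0, m1, m2, m3⟩ := moments hα hB v
  have hev : ∀ i, i % 2 = 0 → Steiner.nMeet B v ∅ i = 0 := fun i hi => by
    refine card_eq_zero.2 (filter_eq_empty_iff.2 fun c hc h => ?_)
    have h1 := hv c (Steiner.mem_blocks.1 (mem_sdiff.1 hc).1)
    omega
  simp only [sum_range_succ, sum_range_zero, Nat.choose_one_right, Nat.choose, zero_add, Nat.reduceAdd,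
    mul_zero, mul_one, hev 0 rfl, hev 2 rfl, hev 4 rfl, hev 6 rfl, zero_mul, add_zero] at m0 m1 m2 m3
  have h22 : v.card < 23 := Nat.lt_succ_of_le (hα ▸ card_le_univ v)
  generalize v.card = s at m1 m2 m3 h22 ⊢
  interval_cases s <;> simp only [Nat.choose, Nat.reduceAdd] at m2 m3 <;> omega

theorem odd_parity {v x : Finset α} (hv : ∀ b ∈ B, (v ∩ b).card % 2 = 1) (hx : x ∈ perp B) :
    (v ∩ x).card % 2 = (q x).toNat := by
  have hsp := (perp_eq_span hα hB).1
  rw [hsp] at hx
  refine (spanFam_induction (fun y => y ∈ perp B ∧ (v ∩ y).card % 2 = (q y).toNat)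
    ⟨empty_mem_perp, by simp [q]⟩ ?_ (fun b hb => ⟨block_mem_perp hα hB (Steiner.mem_blocks.1 hb),
      by rw [hv b (Steiner.mem_blocks.1 hb)]; simp [q, hB.1 b (Steiner.mem_blocks.1 hb)]⟩) hx).2
  rintro a b ⟨ha, hva⟩ ⟨hb, hvb⟩
  refine ⟨perp_symm ha hb, ?_⟩
  have := inter_card_symmDiff v a b
  rw [q_symmDiff hα hB ha hb]
  cases hqa : q a <;> cases hqb : q b <;> simp [hqa, hqb] at hva hvb ⊢ <;> omega

omit hB in
/-- The code on 24 points given by an odd vector `v`. -/
noncomputable def code (v : Finset α) (B : Set (Finset α)) : Finset (Finset (Option (Option α))) :=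
  (perp B ×ˢ (univ : Finset Bool)).image fun p =>
    ext2 (if p.2 then v ∆ p.1 else p.1) (q p.1 ^^ p.2) (q p.1)

omit hα hB in
theorem mem_code {v y : Finset α} {a b : Bool} :
    ext2 y a b ∈ code v B ↔ (a = b ∧ y ∈ perp B ∧ b = q y) ∨
      (a ≠ b ∧ v ∆ y ∈ perp B ∧ b = q (v ∆ y)) := by
  simp only [code, mem_image, mem_product, mem_univ, and_true, Prod.exists]
  constructor
  · rintro ⟨x, t, hx, h⟩
    obtain ⟨rfl, rfl, rfl⟩ := ext2_inj h
    cases t
    · exact Or.inl ⟨by simp, by simpa using hx, by simp⟩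
    · exact Or.inr ⟨by simp, by simpa using hx, by simp⟩
  · rintro (⟨rfl, hy, rfl⟩ | ⟨hab, hy, rfl⟩)
    · exact ⟨y, false, hy, by simp⟩
    · exact ⟨v ∆ y, true, hy, by cases hq : q (v ∆ y) <;> cases a <;> simp_all⟩

omit hα hB in
theorem exists_ext2 (s : Finset (Option (Option α))) [DecidablePred fun x : α => some (some x) ∈ s] :
    s = ext2 (univ.filter fun x => some (some x) ∈ s) (decide (none ∈ s)) (decide (some none ∈ s)) := by
  ext (_ | _ | x) <;> simp

theorem isGolayFamily_code {v : Finset α} (hv : ∀ b ∈ B, (v ∩ b).card % 2 = 1) :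
    IsGolayFamily (code v B) := by
  have hinj : Set.InjOn (fun p : Finset α × Bool =>
      ext2 (if p.2 then v ∆ p.1 else p.1) (q p.1 ^^ p.2) (q p.1)) (perp B ×ˢ (univ : Finset Bool) : Finset _) := by
    rintro ⟨x, t⟩ - ⟨x', t'⟩ - h
    obtain ⟨h1, h2, h3⟩ := ext2_inj h
    rw [← h3] at h2
    have ht : t = t' := by revert h2; cases q x <;> cases t <;> cases t' <;> simp
    subst ht
    cases t <;> simp_all
  have hvx : ∀ x ∈ perp B, ∀ b ∈ B, ((v ∆ x) ∩ b).card % 2 = 1 := fun x hx b hb => by
    have := inter_card_symmDiff b v x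
    have h1 := hv b hb
    have h2 := Nat.even_iff.1 (mem_perp.1 hx b hb)
    rw [inter_comm] at h1 h2 ⊢
    omega
  have key : ∀ x ∈ perp B,
      (4 ∣ x.card + 2 * (q x).toNat) ∧ x.card + 2 * (q x).toNat ≠ 4 ∧
      (v ∆ x).card % 4 = 3 ∧ 7 ≤ (v ∆ x).card := by
    intro x hx
    have := (perp_weights hα hB hx).1
    refine ⟨?_, ?_, ?_, ?_⟩
    · rcases this with h | h | h | h | h | h | h | h <;> simp [q, h]
    · rcases this with h | h | h | h | h | h | h | h <;> simp [q, h]
    · rcases odd_vector_weights hα hB (hvx x hx) with h | h | h <;> omega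
    · rcases odd_vector_weights hα hB (hvx x hx) with h | h | h <;> omega
  refine ⟨by rw [Fintype.card_option, Fintype.card_option, hα], ?_, ?_, ?_, ?_, ?_⟩
  · rw [code, card_image_of_injOn hinj, card_product, (perp_eq_span hα hB).2]; rfl
  · have h0 : ext2 (∅ : Finset α) false false = ∅ := by ext (_ | _ | x) <;> simp
    rw [← h0, mem_code]
    exact Or.inl ⟨rfl, empty_mem_perp, by simp [q]⟩
  · intro s hs t ht
    simp only [code, mem_image, mem_product, mem_univ, and_true, Prod.exists] at hs ht
    obtain ⟨x, c, hx, rfl⟩ := hs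
    obtain ⟨y, d, hy, rfl⟩ := ht
    rw [ext2_symmDiff, code, mem_image]
    refine ⟨(x ∆ y, c ^^ d), mem_product.2 ⟨perp_symm hx hy, mem_univ _⟩, ?_⟩
    simp only [q_symmDiff hα hB hx hy]
    congr 1
    · cases c <;> cases d <;> simp [symmDiff_assoc, symmDiff_left_comm]
    · cases q x <;> cases q y <;> cases c <;> cases d <;> rfl
  · intro s hs
    simp only [code, mem_image, mem_product, mem_univ, and_true, Prod.exists] at hs
    obtain ⟨x, c, hx, rfl⟩ := hs
    obtain ⟨k1, -, k3, -⟩ := key x hx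
    rw [card_ext2]
    cases c <;> cases hq : q x <;> simp [hq] at k1 ⊢ <;> omega
  · intro s hs
    simp only [code, mem_image, mem_product, mem_univ, and_true, Prod.exists] at hs
    obtain ⟨x, c, hx, rfl⟩ := hs
    obtain ⟨-, k2, -, k4⟩ := key x hx
    rw [card_ext2]
    cases c <;> cases hq : q x <;> simp [hq] at k2 ⊢ <;> omega

theorem mem_blocks_iff_code {v : Finset α} (y : Finset α) :
    (ext2 y true true ∈ code v B ∧ (ext2 y true true).card = 8) ↔ y ∈ B := by
  constructor
  · rintro ⟨h, h8⟩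
    rw [card_ext2] at h8
    rcases (mem_code).1 h with ⟨-, hy, -⟩ | ⟨hne, -⟩
    · exact (perp_weights hα hB hy).2 (by simpa using h8)
    · exact absurd rfl hne
  · intro hy
    refine ⟨mem_code.2 (Or.inl ⟨rfl, block_mem_perp hα hB hy, by simp [q, hB.1 y hy]⟩), ?_⟩
    rw [card_ext2, hB.1 y hy]; rfl

end CfsgLib.Mathieu.S22
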