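import Cfsg.Agent.Mathieu.Steiner

/-!
The strongly regular graphs of a Steiner system S(3,6,22).
-/

set_option autoImplicit false

namespace CfsgLib.Mathieu.Steiner

open Cfsg Finset

variable {α : Type*} [Fintype α] [DecidableEq α] {B : Set (Finset α)}
  (hα : Fintype.card α = 22) (hB : IsSteinerSystem 3 6 B)
include hα hB

/-- The blocks disjoint from a given set. -/
noncomputable def avoid (B : Set (Finset α)) (S : Finset α) : Finset (Finset α) :=
  (blocks B).filter fun c => Disjoint S c

theorem moments_22 (S : Finset α) {n : ℕ} (hn : ∀ c ∈ B, (S ∩ c).card < n) :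
    (∑ i ∈ range n, nMeet B S ∅ i * i.choose 0 = 77) ∧
    (∑ i ∈ range n, nMeet B S ∅ i * i.choose 1 = S.card * 21) ∧
    (∑ i ∈ range n, nMeet B S ∅ i * i.choose 2 = S.card.choose 2 * 5) ∧
    (∑ i ∈ range n, nMeet B S ∅ i * i.choose 3 = S.card.choose 3) := by
  have hm : ∀ j m : ℕ, j ≤ 3 → 0 < (6 - j).choose (3 - j) →
      m * (6 - j).choose (3 - j) = (22 - j).choose (3 - j) →
      ∑ i ∈ range n, nMeet B S ∅ i * i.choose j = S.card.choose j * m := by
    intro j m hj hp hm
    have h := sum_choose_inter hB hj hp (by rw [hα]; exact hm) S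
    rwa [show blocks B = blocks B \ ∅ from (sdiff_empty).symm, sum_eq_sum_nMeet S ∅
      (fun c hc => hn c (mem_blocks.1 (mem_sdiff.1 hc).1)) (fun i => i.choose j)] at h
  exact ⟨by simpa using hm 0 77 (by norm_num) (by decide) (by decide),
    by simpa using hm 1 21 (by norm_num) (by decide) (by decide),
    hm 2 5 (by norm_num) (by decide) (by decide),
    by simpa using hm 3 1 (by norm_num) (by decide) (by decide)⟩

theorem nMeet_zero_eq_avoid (S : Finset α) : nMeet B S ∅ 0 = (avoid B S).card := by
  rw [nMeet, avoid, sdiff_empty]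
  congr 1
  ext c
  simp [card_eq_zero, disjoint_iff_inter_eq_empty]

theorem even_inter_22 {b c : Finset α} (hb : b ∈ B) (hc : c ∈ B) : Even (b ∩ c).card := by
  by_cases h : b = c
  · rw [h, inter_self, hB.1 c hc]; exact ⟨3, rfl⟩
  · rcases inter_22 hα hB hb hc h with h | h <;> rw [h] <;> decide

theorem inter_le_22 {b c : Finset α} (hb : b ∈ B) (hc : c ∈ B) (hbc : b ≠ c) : (b ∩ c).card ≤ 2 := by
  have := inter_lt hB hb hc hbc; omega

theorem card_avoid_block {b : Finset α} (hb : b ∈ B) : (avoid B b).card = 16 := by
  rw [← (nMeet_22 hα hB hb).1, nMeet, avoid]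
  congr 1
  ext c
  simp only [mem_filter, mem_sdiff, mem_blocks, mem_singleton, card_eq_zero,
    disjoint_iff_inter_eq_empty]
  refine ⟨fun h => ⟨⟨h.1, fun e => ?_⟩, h.2⟩, fun h => ⟨h.1.1, h.2⟩⟩
  have := hB.1 b hb
  rw [e, inter_self] at h
  simp [h.2] at this

theorem card_avoid_disjoint {b c : Finset α} (hb : b ∈ B) (hc : c ∈ B) (hbc : Disjoint b c) :
    (avoid B (b ∪ c)).card = 0 := by
  have hne : b ≠ c := fun e => by
    subst e
    have := hB.1 b hb
    simp [disjoint_self.1 hbc] at this
  have hS : (b ∪ c).card = 12 := by rw [card_union_of_disjoint hbc, hB.1 b hb, hB.1 c hc]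
  have hsplit : ∀ e, ((b ∪ c) ∩ e).card = (b ∩ e).card + (c ∩ e).card := fun e => by
    rw [union_inter_distrib_right, card_union_of_disjoint
      (hbc.mono inter_subset_left inter_subset_left)]
  have hlt : ∀ e ∈ B, ((b ∪ c) ∩ e).card < 7 := fun e he =>
    Nat.lt_succ_of_le ((card_le_card inter_subset_right).trans (hB.1 e he).le)
  obtain ⟨m0, m1, m2, m3⟩ := moments_22 hα hB (b ∪ c) hlt
  have hodd : ∀ i, i % 2 = 1 → nMeet B (b ∪ c) ∅ i = 0 := fun i hi => by
    refine card_eq_zero.2 (filter_eq_empty_iff.2 fun e he h => ?_)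
    simp only [mem_sdiff, mem_blocks, notMem_empty, not_false_eq_true, and_true] at he
    have h1 := Nat.even_iff.1 (even_inter_22 hα hB hb he)
    have h2 := Nat.even_iff.1 (even_inter_22 hα hB hc he)
    rw [hsplit] at h
    omega
  rw [hS] at m1 m2 m3
  simp only [sum_range_succ, sum_range_zero, Nat.choose, zero_add, Nat.reduceAdd, mul_zero, mul_one,
    Nat.reduceMul, hodd 1 rfl, hodd 3 rfl, hodd 5 rfl, zero_mul, add_zero] at m0 m1 m2 m3
  rw [← nMeet_zero_eq_avoid hα hB]
  omega

theorem card_blocks_pair {u v : α} (huv : u ≠ v) :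
    ((blocks B).filter fun c => {u, v} ⊆ c).card = 5 :=
  blocks_containing hB (i := 2) (by norm_num) (by decide) (by rw [hα]; decide) (card_pair huv)

theorem card_avoid_meet {b c : Finset α} (hb : b ∈ B) (hc : c ∈ B) (hbc : b ≠ c)
    (h2 : (b ∩ c).card = 2) : (avoid B (b ∪ c)).card = 4 := by
  obtain ⟨u, v, huv, huv'⟩ := card_eq_two.1 h2
  set T := symmDiff b c with hTdef
  have hT : T.card = 8 := by
    rw [hTdef, symmDiff, Finset.sup_eq_union, card_union_of_disjoint disjoint_sdiff_sdiff,
      Finset.card_sdiff, Finset.card_sdiff, inter_comm c b, h2, hB.1 b hb, hB.1 c hc]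
  have heq : ∀ e : Finset α, (T ∩ e).card + 2 * (b ∩ c ∩ e).card = (b ∩ e).card + (c ∩ e).card := by
    intro e
    rw [← card_union_add_card_inter (b ∩ e) (c ∩ e), two_mul, ← add_assoc]
    rw [show b ∩ e ∩ (c ∩ e) = b ∩ c ∩ e by ext x; simp only [mem_inter]; tauto]
    congr 1
    rw [← card_union_of_disjoint]
    · congr 1
      ext x
      simp only [hTdef, mem_union, mem_inter, mem_symmDiff]
      tauto
    · refine disjoint_left.2 fun x hx hx' => ?_
      simp only [hTdef, mem_inter, mem_symmDiff] at hx hx'
      tauto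
  have hlt : ∀ e ∈ B, (T ∩ e).card < 7 := fun e he =>
    Nat.lt_succ_of_le ((card_le_card inter_subset_right).trans (hB.1 e he).le)
  obtain ⟨m0, m1, m2, m3⟩ := moments_22 hα hB T hlt
  have hodd : ∀ i, i % 2 = 1 → nMeet B T ∅ i = 0 := fun i hi => by
    refine card_eq_zero.2 (filter_eq_empty_iff.2 fun e he h => ?_)
    simp only [mem_sdiff, mem_blocks, notMem_empty, not_false_eq_true, and_true] at he
    have h1 := Nat.even_iff.1 (even_inter_22 hα hB hb he)
    have h2 := Nat.even_iff.1 (even_inter_22 hα hB hc he)
    have := heq e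
    omega
  rw [hT] at m1 m2 m3
  simp only [sum_range_succ, sum_range_zero, Nat.choose, zero_add, Nat.reduceAdd, mul_zero, mul_one,
    Nat.reduceMul, hodd 1 rfl, hodd 3 rfl, hodd 5 rfl, zero_mul, add_zero] at m0 m1 m2 m3
  have h7 : (avoid B T).card = 7 := by rw [← nMeet_zero_eq_avoid hα hB]; omega
  -- the blocks avoiding `T` are those through both common points or through neither
  have hsplit : (avoid B T).card =
      (avoid B (b ∪ c)).card + (((blocks B).filter fun e => {u, v} ⊆ e) \ {b, c}).card := by
    rw [← card_union_of_disjoint]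
    · congr 1
      ext e
      simp only [avoid, mem_union, mem_filter, mem_sdiff, mem_blocks, mem_insert, mem_singleton]
      constructor
      · rintro ⟨he, hTe⟩
        have h0 : (T ∩ e).card = 0 := card_eq_zero.2 (disjoint_iff_inter_eq_empty.1 hTe)
        by_cases hd : Disjoint (b ∩ c) e
        · refine Or.inl ⟨he, ?_⟩
          rw [show b ∪ c = T ∪ b ∩ c by ext x; simp only [hTdef, mem_union, mem_inter, mem_symmDiff]; tauto,
            disjoint_union_left]
          exact ⟨hTe, hd⟩
        · have hnb : e ≠ b := by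
            rintro rfl
            have := heq e
            rw [inter_self, hB.1 e he, inter_comm c e, h2, inter_right_comm, inter_self, h2] at this
            omega
          have hnc : e ≠ c := by
            rintro rfl
            have := heq e
            rw [inter_self, hB.1 e he, h2, inter_assoc, inter_self, h2] at this
            omega
          refine Or.inr ⟨⟨he, ?_⟩, by tauto⟩
          have hle := heq e
          have h1 := inter_le_22 hα hB hb he (Ne.symm hnb)
          have h1' := inter_le_22 hα hB hc he (Ne.symm hnc)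
          have hpos : 0 < (b ∩ c ∩ e).card := by
            rw [card_pos, nonempty_iff_ne_empty]
            exact fun h => hd (disjoint_iff_inter_eq_empty.2 h)
          have hev := Nat.even_iff.1 (even_inter_22 hα hB hb he)
          have hbe : (b ∩ e).card = 2 := by
            have : (b ∩ c ∩ e).card ≤ (b ∩ e).card :=
              card_le_card (inter_subset_inter inter_subset_left le_rfl)
            omega
          rw [← huv']
          have hfull : b ∩ c ∩ e = b ∩ c := by
            refine eq_of_subset_of_card_le inter_subset_left ?_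
            rw [h2]
            have : (c ∩ e).card = 2 := by
              have : (b ∩ c ∩ e).card ≤ (c ∩ e).card :=
                card_le_card (inter_subset_inter inter_subset_right le_rfl)
              have hev' := Nat.even_iff.1 (even_inter_22 hα hB hc he)
              omega
            omega
          exact inter_eq_left.1 hfull
      · rintro (⟨he, hd⟩ | ⟨⟨he, hsub⟩, hne⟩)
        · exact ⟨he, hd.mono_left (by intro x; simp only [hTdef, mem_union, mem_symmDiff]; tauto)⟩
        · refine ⟨he, ?_⟩
          push Not at hne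
          have h1 := inter_le_22 hα hB hb he (Ne.symm hne.1)
          have h1' := inter_le_22 hα hB hc he (Ne.symm hne.2)
          have h3 : b ∩ c ∩ e = b ∩ c := inter_eq_left.2 (huv' ▸ hsub)
          have := heq e
          rw [h3, h2] at this
          rw [disjoint_iff_inter_eq_empty, ← card_eq_zero]
          omega
    · refine disjoint_left.2 fun e he he' => ?_
      simp only [avoid, mem_filter, mem_sdiff] at he he'
      have hu : u ∈ b ∩ c := by rw [huv']; simp
      exact disjoint_left.1 he.2 (mem_union_left _ (mem_inter.1 hu).1) (he'.1.2 (by simp))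
  have h3 : (((blocks B).filter fun e => {u, v} ⊆ e) \ {b, c}).card = 3 := by
    rw [card_sdiff_of_subset, card_blocks_pair hα hB huv, card_pair hbc]
    intro e he
    simp only [mem_insert, mem_singleton] at he
    rcases he with rfl | rfl <;> simp only [mem_filter, mem_blocks]
    · exact ⟨hb, huv' ▸ inter_subset_left⟩
    · exact ⟨hc, huv' ▸ inter_subset_right⟩
  omega

theorem card_blocks_point (p : α) : ((blocks B).filter fun c => p ∈ c).card = 21 := by
  rw [← blocks_containing hB (i := 1) (m := 21) (by norm_num) (by decide) (by rw [hα]; decide)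
    (card_singleton p)]
  simp

theorem card_avoid_through {b : Finset α} {p : α} (hb : b ∈ B) (hp : p ∉ b) :
    ((avoid B b).filter fun c => p ∈ c).card = 6 := by
  have hcount := Finset.sum_card_bipartiteAbove_eq_sum_card_bipartiteBelow
    (s := (blocks B).filter fun c => p ∈ c) (t := b) (fun c x => x ∈ c)
  have hr : ∀ x ∈ b, (bipartiteBelow (fun c x => x ∈ c) ((blocks B).filter fun c => p ∈ c) x).card = 5 := by
    intro x hx
    have hpx : p ≠ x := fun e => hp (e ▸ hx)
    rw [← card_blocks_pair hα hB hpx, bipartiteBelow, filter_filter]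
    simp [insert_subset_iff]
  rw [sum_congr rfl hr, sum_const, hB.1 b hb, smul_eq_mul] at hcount
  have hl : ∀ c ∈ (blocks B).filter (fun c => p ∈ c),
      (bipartiteAbove (fun c x => x ∈ c) b c).card = if Disjoint b c then 0 else 2 := by
    intro c hc
    simp only [mem_filter, mem_blocks] at hc
    have hne : b ≠ c := fun e => hp (e ▸ hc.2)
    rw [bipartiteAbove, filter_mem_eq_inter]
    split
    · rename_i h; rw [disjoint_iff_inter_eq_empty.1 h, card_empty]
    · rename_i h
      rcases inter_22 hα hB hb hc.1 hne with e | e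
      · exact absurd (disjoint_iff_inter_eq_empty.2 (card_eq_zero.1 e)) h
      · exact e
  rw [sum_congr rfl hl, sum_ite, sum_const_zero, zero_add, sum_const, smul_eq_mul] at hcount
  have hsum := card_filter_add_card_filter_not (s := (blocks B).filter fun c => p ∈ c)
    (fun c => Disjoint b c)
  rw [card_blocks_point hα hB p] at hsum
  rw [avoid, filter_comm]
  omega

theorem card_subtype_blocks [Fintype B] (P : Finset α → Prop) [DecidablePred P] :
    Fintype.card {b : B // P b.1} = ((blocks B).filter P).card := by
  rw [← Fintype.card_coe]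
  exact Fintype.card_congr
    { toFun := fun b => ⟨b.1.1, mem_filter.2 ⟨mem_blocks.2 b.1.2, b.2⟩⟩
      invFun := fun b => ⟨⟨b.1, mem_blocks.1 (mem_filter.1 b.2).1⟩, (mem_filter.1 b.2).2⟩
      left_inv := fun _ => rfl
      right_inv := fun _ => rfl }

theorem card_block_type [Fintype B] : Fintype.card B = 77 := by
  rw [← Set.toFinset_card, ← Set.ncard_eq_toFinset_card']
  have h := ncard_mul_choose hB
  rw [hα, show Nat.choose 6 3 = 20 by decide, show Nat.choose 22 3 = 1540 by decide] at h
  omega

omit hα in
theorem not_disjoint_self {b : Finset α} (hb : b ∈ B) : ¬ Disjoint b b := fun h => by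
  have := hB.1 b hb
  simp [disjoint_self.1 h] at this

theorem blockGraph_srg [Fintype B] [DecidableRel (blockGraph B).Adj] :
    (blockGraph B).IsSRGWith 77 16 0 4 := by
  classical
  have hadj : ∀ b c : B, (blockGraph B).Adj b c ↔ Disjoint b.1 c.1 := fun b c => by
    refine ⟨fun h => h.2.elim id (fun h' => Disjoint.symm h'), fun h => ⟨?_, Or.inl h⟩⟩
    rintro rfl
    exact not_disjoint_self hB b.2 h
  have hdeg : ∀ b : B, (blockGraph B).degree b = 16 := fun b => by
    rw [← SimpleGraph.card_neighborSet_eq_degree, ← card_avoid_block hα hB b.2, avoid,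
      ← card_subtype_blocks hα hB (fun c => Disjoint b.1 c)]
    exact Fintype.card_congr (Equiv.subtypeEquivRight fun c => hadj b c)
  have hcn : ∀ b c : B, Fintype.card ((blockGraph B).commonNeighbors b c) =
      (avoid B (b.1 ∪ c.1)).card := fun b c => by
    rw [avoid, ← card_subtype_blocks hα hB (fun e => Disjoint (b.1 ∪ c.1) e)]
    exact Fintype.card_congr (Equiv.subtypeEquivRight fun e => by
      simp [SimpleGraph.commonNeighbors, hadj, disjoint_union_left])
  refine ⟨card_block_type hα hB, hdeg, fun b c h => ?_, fun b c hne h => ?_⟩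
  · rw [hcn]; exact card_avoid_disjoint hα hB b.2 c.2 ((hadj b c).1 h)
  · rw [hcn]
    have hbc : b.1 ≠ c.1 := fun e => hne (Subtype.ext e)
    refine card_avoid_meet hα hB b.2 c.2 hbc ?_
    rcases inter_22 hα hB b.2 c.2 hbc with e | e
    · exact absurd ((hadj b c).2 (disjoint_iff_inter_eq_empty.2 (card_eq_zero.1 e))) h
    · exact e

theorem pointBlockGraph_srg [Fintype B] [DecidableRel (pointBlockGraph B).Adj] :
    (pointBlockGraph B).IsSRGWith 100 22 0 6 := by
  classical
  have aNI : ∀ a, (pointBlockGraph B).Adj none (some (Sum.inl a)) := fun a =>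
    ⟨by simp, Or.inl trivial⟩
  have aNR : ∀ b, ¬ (pointBlockGraph B).Adj none (some (Sum.inr b)) := fun b h =>
    h.2.elim id id
  have aII : ∀ a a', ¬ (pointBlockGraph B).Adj (some (Sum.inl a)) (some (Sum.inl a')) := fun a a' h =>
    h.2.elim id id
  have aIR : ∀ a (b : B), (pointBlockGraph B).Adj (some (Sum.inl a)) (some (Sum.inr b)) ↔ a ∈ b.1 :=
    fun a b => ⟨fun h => h.2.elim id False.elim, fun h => ⟨by simp, Or.inl h⟩⟩
  have aRR : ∀ b c : B, (pointBlockGraph B).Adj (some (Sum.inr b)) (some (Sum.inr c)) ↔
      Disjoint b.1 c.1 := fun b c => by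
    refine ⟨fun h => h.2.elim id fun h' => Disjoint.symm h', fun h => ⟨?_, Or.inl h⟩⟩
    simp only [ne_eq, Option.some.injEq, Sum.inr.injEq]
    rintro rfl
    exact not_disjoint_self hB b.2 h
  have hcard : ∀ (P : Option (α ⊕ B) → Prop) [DecidablePred P],
      Fintype.card {x // P x} = (if P none then 1 else 0) +
        ((univ.filter fun a => P (some (Sum.inl a))).card +
          Fintype.card {b : B // P (some (Sum.inr b))}) := by
    intro P _
    rw [Fintype.card_subtype, Fintype.card_subtype, card_filter, Fintype.sum_option, Fintype.sum_sum_type,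
      card_filter, card_filter]
  have hdeg : ∀ x, (pointBlockGraph B).degree x = 22 := by
    intro x
    rw [← SimpleGraph.card_neighborSet_eq_degree]
    refine (Fintype.card_congr (Equiv.subtypeEquivRight fun y =>
      (pointBlockGraph B).mem_neighborSet x y)).trans ?_
    rw [hcard]
    rcases x with _ | a | b
    · rw [if_neg (fun h => h.ne rfl), filter_true_of_mem (fun a _ => aNI a), card_univ, hα,
        Fintype.card_eq_zero_iff.2 ⟨fun b => aNR _ b.2⟩]
    · rw [if_pos (aNI a).symm, filter_false_of_mem (fun a' _ => aII a a'), card_empty,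
        Fintype.card_congr (Equiv.subtypeEquivRight fun b => aIR a b),
        card_subtype_blocks hα hB (fun c => a ∈ c), card_blocks_point hα hB a]
    · rw [if_neg (fun h => aNR b h.symm), Fintype.card_congr (Equiv.subtypeEquivRight fun c => aRR b c),
        card_subtype_blocks hα hB (fun c => Disjoint b.1 c),
        show ((blocks B).filter fun c => Disjoint b.1 c).card = 16 from card_avoid_block hα hB b.2,
        show (univ.filter fun a => (pointBlockGraph B).Adj (some (Sum.inr b)) (some (Sum.inl a))) = b.1 by
          ext a; simp [(pointBlockGraph B).adj_comm (some (Sum.inr b)), aIR], hB.1 b b.2]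
  refine ⟨?_, hdeg, ?_, ?_⟩
  · rw [Fintype.card_option, Fintype.card_sum, hα, card_block_type hα hB]
  · intro x y hxy
    rw [Fintype.card_eq_zero_iff]
    refine ⟨?_⟩
    rintro ⟨z, hxz, hyz⟩
    change (pointBlockGraph B).Adj x z at hxz
    change (pointBlockGraph B).Adj y z at hyz
    rcases x with _ | a | b <;> rcases y with _ | a' | c <;> rcases z with _ | a'' | d <;>
      first
        | exact hxy.ne rfl
        | exact hxz.ne rfl
        | exact hyz.ne rfl
        | exact aII _ _ hxy
        | exact aII _ _ hxz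
        | exact aII _ _ hyz
        | exact aNR _ hxy
        | exact aNR _ hxy.symm
        | exact aNR _ hxz
        | exact aNR _ hxz.symm
        | exact aNR _ hyz
        | exact aNR _ hyz.symm
        | exact disjoint_left.1 ((aRR _ _).1 hxy) ((aIR _ _).1 hxz.symm) ((aIR _ _).1 hyz.symm)
        | exact disjoint_left.1 ((aRR _ _).1 hxz) ((aIR _ _).1 hxy.symm) ((aIR _ _).1 hyz)
        | exact disjoint_left.1 ((aRR _ _).1 hyz) ((aIR _ _).1 hxy) ((aIR _ _).1 hxz)
        | exact absurd (card_avoid_disjoint hα hB b.2 c.2 ((aRR _ _).1 hxy))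
            (Nat.pos_iff_ne_zero.1 (card_pos.2 ⟨d.1, mem_filter.2 ⟨mem_blocks.2 d.2,
              disjoint_union_left.2 ⟨(aRR _ _).1 hxz, (aRR _ _).1 hyz⟩⟩⟩))
  · intro x y hne hxy
    refine (Fintype.card_congr (Equiv.subtypeEquivRight fun z =>
      (pointBlockGraph B).mem_commonNeighbors)).trans ?_
    rw [hcard]
    have key : ∀ (b : B) (p : α), p ∉ b.1 →
        Fintype.card {c : B // Disjoint b.1 c.1 ∧ p ∈ c.1} = 6 := fun b p hp => by
      rw [card_subtype_blocks hα hB (fun c => Disjoint b.1 c ∧ p ∈ c), ← filter_filter]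
      exact card_avoid_through hα hB b.2 hp
    rcases x with _ | a | b <;> rcases y with _ | a' | c
    · exact absurd rfl hne
    · exact absurd (aNI a') hxy
    · rw [if_neg (fun h => h.1.ne rfl), filter_congr (q := fun p => p ∈ c.1) (fun p _ => ?_),
        filter_univ_mem, hB.1 c c.2, Fintype.card_eq_zero_iff.2 ⟨fun d => aNR _ d.2.1⟩]
      exact ⟨fun h => (aIR p c).1 h.2.symm, fun h => ⟨aNI p, ((aIR p c).2 h).symm⟩⟩
    · exact absurd (aNI a).symm hxy
    · have haa : a ≠ a' := fun e => hne (by rw [e])
      rw [if_pos ⟨(aNI a).symm, (aNI a').symm⟩, filter_false_of_mem (fun p _ h => aII _ _ h.1),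
        card_empty, Fintype.card_congr (Equiv.subtypeEquivRight (q := fun d : B => {a, a'} ⊆ d.1)
          fun d => ?_), card_subtype_blocks hα hB (fun d => {a, a'} ⊆ d), card_blocks_pair hα hB haa]
      simp [insert_subset_iff, aIR]
    · have hac : a ∉ c.1 := fun h => hxy ((aIR a c).2 h)
      rw [if_neg (fun h => aNR c h.2.symm), filter_false_of_mem (fun p _ h => aII _ _ h.1), card_empty,
        Fintype.card_congr (Equiv.subtypeEquivRight (q := fun d : B => Disjoint c.1 d.1 ∧ a ∈ d.1)
          fun d => ?_), key c a hac]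
      rw [aIR, aRR]; tauto
    · rw [if_neg (fun h => h.2.ne rfl), filter_congr (q := fun p => p ∈ b.1) (fun p _ => ?_),
        filter_univ_mem, hB.1 b b.2, Fintype.card_eq_zero_iff.2 ⟨fun d => aNR _ d.2.2⟩]
      exact ⟨fun h => (aIR p b).1 h.1.symm, fun h => ⟨((aIR p b).2 h).symm, aNI p⟩⟩
    · have hab : a' ∉ b.1 := fun h => hxy ((aIR a' b).2 h).symm
      rw [if_neg (fun h => aNR b h.1.symm), filter_false_of_mem (fun p _ h => aII _ _ h.2), card_empty,
        Fintype.card_congr (Equiv.subtypeEquivRight (q := fun d : B => Disjoint b.1 d.1 ∧ a' ∈ d.1)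
          fun d => ?_), key b a' hab]
      rw [aIR, aRR]
    · have hbc : b.1 ≠ c.1 := fun e => hne (by rw [Subtype.ext e])
      have h2 : (b.1 ∩ c.1).card = 2 := by
        rcases inter_22 hα hB b.2 c.2 hbc with e | e
        · exact absurd ((aRR b c).2 (disjoint_iff_inter_eq_empty.2 (card_eq_zero.1 e))) hxy
        · exact e
      rw [if_neg (fun h => aNR b h.1.symm),
        filter_congr (q := fun p => p ∈ b.1 ∩ c.1) (fun p _ => ?_),
        filter_univ_mem, h2, Fintype.card_congr
          (Equiv.subtypeEquivRight (q := fun d : B => Disjoint (b.1 ∪ c.1) d.1) fun d => ?_),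
        card_subtype_blocks hα hB (fun d => Disjoint (b.1 ∪ c.1) d),
        show ((blocks B).filter fun d => Disjoint (b.1 ∪ c.1) d).card = 4 from
          card_avoid_meet hα hB b.2 c.2 hbc h2]
      · rw [aRR, aRR, disjoint_union_left]
      · rw [mem_inter, (pointBlockGraph B).adj_comm, aIR,
          (pointBlockGraph B).adj_comm (some (Sum.inr c)), aIR]

end CfsgLib.Mathieu.Steiner
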