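import Cfsg.Agent.Mathieu.CodeUnique
import Cfsg.Agent.Mathieu.Steiner
import Cfsg.Agent.Mathieu.M24Actions

/-!
Uniqueness of the Steiner systems S(5,8,24) and S(4,7,23).
-/

set_option autoImplicit false

namespace CfsgLib.Mathieu

open Cfsg Finset
open scoped symmDiff

variable {α : Type*} [DecidableEq α] [Fintype α]

/-- The family generated by `B` under symmetric differences. -/
noncomputable def spanFam (B : Finset (Finset α)) : Finset (Finset α) := by
  classical exact univ.filter fun x => ∀ S : Set (Finset α), ∅ ∈ S →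
    (∀ a ∈ S, ∀ b ∈ S, a ∆ b ∈ S) → (∀ b ∈ B, b ∈ S) → x ∈ S

theorem mem_spanFam {B : Finset (Finset α)} {x : Finset α} :
    x ∈ spanFam B ↔ ∀ S : Set (Finset α), ∅ ∈ S → (∀ a ∈ S, ∀ b ∈ S, a ∆ b ∈ S) →
      (∀ b ∈ B, b ∈ S) → x ∈ S := by
  simp [spanFam]

theorem empty_mem_spanFam (B : Finset (Finset α)) : ∅ ∈ spanFam B :=
  mem_spanFam.2 fun _ h _ _ => h

theorem symmDiff_mem_spanFam {B : Finset (Finset α)} {x y : Finset α} (hx : x ∈ spanFam B)
    (hy : y ∈ spanFam B) : x ∆ y ∈ spanFam B :=
  mem_spanFam.2 fun S h0 hs hB =>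
    hs x (mem_spanFam.1 hx S h0 hs hB) y (mem_spanFam.1 hy S h0 hs hB)

theorem subset_spanFam (B : Finset (Finset α)) : B ⊆ spanFam B :=
  fun b hb => mem_spanFam.2 fun _ _ _ hB => hB b hb

theorem spanFam_induction {B : Finset (Finset α)} (P : Finset α → Prop) (h0 : P ∅)
    (hs : ∀ a b, P a → P b → P (a ∆ b)) (hB : ∀ b ∈ B, P b) {x : Finset α} (hx : x ∈ spanFam B) :
    P x :=
  mem_spanFam.1 hx {y | P y} h0 (fun a ha b hb => hs a b ha hb) hB

theorem spanFam_even {B : Finset (Finset α)} (hev : ∀ a ∈ B, ∀ b ∈ B, Even (a ∩ b).card)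
    {x y : Finset α} (hx : x ∈ spanFam B) (hy : y ∈ spanFam B) : Even (x ∩ y).card := by
  have hlin : ∀ z a b : Finset α, Even (z ∩ a).card → Even (z ∩ b).card → Even (z ∩ (a ∆ b)).card :=
    fun z a b h1 h2 => by
      have := inter_card_symmDiff z a b
      rw [Nat.even_iff] at *
      omega
  refine spanFam_induction (fun y => Even (x ∩ y).card) (by simp) (hlin x) (fun b hb => ?_) hy
  rw [inter_comm]
  exact spanFam_induction (fun z => Even (b ∩ z).card) (by simp) (hlin b) (hev b hb) hx

theorem spanFam_four_dvd {B : Finset (Finset α)} (hev : ∀ a ∈ B, ∀ b ∈ B, Even (a ∩ b).card)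
    (h4 : ∀ b ∈ B, 4 ∣ b.card) {x : Finset α} (hx : x ∈ spanFam B) : 4 ∣ x.card := by
  refine (spanFam_induction (fun z => z ∈ spanFam B ∧ 4 ∣ z.card) ⟨empty_mem_spanFam B, by simp⟩ ?_
    (fun b hb => ⟨subset_spanFam B hb, h4 b hb⟩) hx).2
  rintro a b ⟨ha, ha4⟩ ⟨hb, hb4⟩
  refine ⟨symmDiff_mem_spanFam ha hb, ?_⟩
  have h1 := card_symmDiff_add a b
  have h2 := Nat.even_iff.1 (spanFam_even hev ha hb)
  omega

/-- The chosen representatives of the 4096 cosets: at most three points, or four with `p` among them. -/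
def cosetReps (p : α) : Finset (Finset α) :=
  (range 4).biUnion (fun k => powersetCard k univ) ∪ (powersetCard 4 univ).filter fun x => p ∈ x

theorem mem_cosetReps {p : α} {x : Finset α} :
    x ∈ cosetReps p ↔ x.card ≤ 3 ∨ (x.card = 4 ∧ p ∈ x) := by
  simp only [cosetReps, mem_union, mem_biUnion, mem_range, mem_powersetCard, subset_univ, true_and,
    mem_filter]
  refine or_congr ⟨?_, fun h => ⟨x.card, by omega, rfl⟩⟩ Iff.rfl
  rintro ⟨k, hk, rfl⟩
  omega

theorem card_cosetReps (h24 : Fintype.card α = 24) (p : α) : (cosetReps p).card = 4096 := by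
  rw [cosetReps, card_union_of_disjoint]
  · rw [card_biUnion (fun i _ j _ hij => pairwise_disjoint_powersetCard _ hij),
      sum_congr rfl fun k _ => card_powersetCard k _, card_univ, h24]
    have h := Steiner.card_supersets (subset_univ ({p} : Finset α)) (j := 4) (by simp)
    rw [card_univ, h24, card_singleton] at h
    have e : ((univ : Finset α).powersetCard 4).filter (fun x => p ∈ x) =
        ((univ : Finset α).powersetCard 4).filter fun x => {p} ⊆ x :=
      filter_congr fun x _ => by simp
    rw [e, h]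
    decide
  · refine disjoint_left.2 fun x hx hx' => ?_
    simp only [mem_biUnion, mem_range, mem_powersetCard, mem_filter] at hx hx'
    obtain ⟨k, hk, -, rfl⟩ := hx
    omega

/-- A family of even-intersecting octets reducing every set to a representative spans a Golay code. -/
theorem isGolayFamily_spanFam (h24 : Fintype.card α = 24) (p : α) {B : Finset (Finset α)}
    (hev : ∀ a ∈ B, ∀ b ∈ B, Even (a ∩ b).card) (h4 : ∀ b ∈ B, 4 ∣ b.card)
    (hred : ∀ x, ∃ r ∈ cosetReps p, x ∆ r ∈ spanFam B) :
    IsGolayFamily (spanFam B) := by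
  have hperp := card_evenPerp_mul (U := (univ : Finset α)) (empty_mem_spanFam B)
    (fun d _ => subset_univ d) (fun a ha b hb => symmDiff_mem_spanFam ha hb)
  rw [card_univ, h24] at hperp
  have hle : (spanFam B).card ≤ (evenPerp univ (spanFam B)).card := by
    refine card_le_card fun x hx => ?_
    simp only [evenPerp, mem_filter, mem_powerset, subset_univ, true_and]
    exact fun d hd => spanFam_even hev hx hd
  have hsurj : Set.SurjOn (fun q : Finset α × Finset α => q.1 ∆ q.2)
      (cosetReps p ×ˢ spanFam B : Finset (Finset α × Finset α)) (univ : Finset (Finset α)) := by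
    intro x _
    obtain ⟨r, hr, hxr⟩ := hred x
    exact ⟨(r, x ∆ r), by simp [hr, hxr], by simp [symmDiff_comm x r]⟩
  have hall := card_le_card_of_surjOn _ hsurj
  rw [card_univ, Fintype.card_finset, h24, card_product, card_cosetReps h24] at hall
  have hcard : (spanFam B).card = 4096 := by nlinarith
  have hinj : Set.InjOn (fun q : Finset α × Finset α => q.1 ∆ q.2)
      (cosetReps p ×ˢ spanFam B : Finset (Finset α × Finset α)) := by
    refine injOn_of_surjOn_of_card_le _ (fun _ _ => mem_univ _) hsurj ?_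
    rw [card_univ, Fintype.card_finset, h24, card_product, card_cosetReps h24, hcard]
    norm_num
  refine ⟨h24, hcard, empty_mem_spanFam B, fun a ha b hb => symmDiff_mem_spanFam ha hb,
    fun a ha => spanFam_four_dvd hev h4 ha, fun a ha h => ?_⟩
  obtain ⟨s, hs, hs2⟩ := exists_subset_card_eq (show 2 ≤ a.card by omega)
  have hrest : (a \ s).card = 2 := by rw [card_sdiff_of_subset hs]; omega
  have e : (s, a) = (a \ s, (∅ : Finset α)) := hinj
    (by simp [mem_cosetReps, hs2, ha]) (by simp [mem_cosetReps, hrest, empty_mem_spanFam])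
    (show s ∆ a = (a \ s) ∆ ∅ by rw [symmDiff_of_le hs, ← bot_eq_empty, symmDiff_bot])
  have := congrArg (fun q : Finset α × Finset α => q.2.card) e
  simp [h] at this

theorem symmDiff_card_le {x b s : Finset α} (hsx : s ⊆ x) (hsb : s ⊆ b) :
    (x ∆ b).card + 2 * s.card ≤ x.card + b.card := by
  have := card_symmDiff_add x b
  have := card_le_card (subset_inter hsx hsb)
  omega

theorem exists_rep_of_steiner24 (hα : Fintype.card α = 24) {B : Set (Finset α)}
    (hB : IsSteinerSystem 5 8 B) (p : α) (x : Finset α) :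
    ∃ r ∈ cosetReps p, x ∆ r ∈ spanFam (Steiner.blocks B) := by
  induction hn : x.card using Nat.strong_induction_on generalizing x with
  | _ n ih =>
    have next' : ∀ b ∈ B, ∀ r, (x ∆ b) ∆ r ∈ spanFam (Steiner.blocks B) →
        x ∆ r ∈ spanFam (Steiner.blocks B) := fun b hb r hr => by
      have := symmDiff_mem_spanFam hr (subset_spanFam _ (Steiner.mem_blocks.2 hb))
      rwa [symmDiff_assoc, symmDiff_comm r b, ← symmDiff_assoc,
        symmDiff_symmDiff_cancel_right] at this
    by_cases h5 : 5 ≤ x.card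
    · obtain ⟨s, hs, hs5⟩ := exists_subset_card_eq h5
      obtain ⟨b, ⟨hb, hsb⟩, -⟩ := hB.2 s hs5
      have := symmDiff_card_le hs hsb
      obtain ⟨r, hr, h⟩ := ih (x ∆ b).card (by have := hB.1 b hb; omega) _ rfl
      exact ⟨r, hr, next' b hb r h⟩
    by_cases hrep : x ∈ cosetReps p
    · exact ⟨x, hrep, by rw [symmDiff_self]; exact empty_mem_spanFam _⟩
    rw [mem_cosetReps] at hrep
    push Not at hrep
    obtain ⟨b, ⟨hb, hsb⟩, -⟩ := hB.2 (insert p x) (by rw [card_insert_of_notMem (hrep.2 (by omega))]; omega)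
    refine ⟨x ∆ b, mem_cosetReps.2 (Or.inr ⟨?_, ?_⟩), ?_⟩
    · rw [symmDiff_of_le ((subset_insert p x).trans hsb),
        card_sdiff_of_subset ((subset_insert p x).trans hsb), hB.1 b hb]
      omega
    · rw [symmDiff_of_le ((subset_insert p x).trans hsb), mem_sdiff]
      exact ⟨hsb (mem_insert_self p x), hrep.2 (by omega)⟩
    · rw [symmDiff_symmDiff_cancel_left]; exact subset_spanFam _ (Steiner.mem_blocks.2 hb)

theorem steiner24_family (hα : Fintype.card α = 24) {B : Set (Finset α)}
    (hB : IsSteinerSystem 5 8 B) :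
    IsGolayFamily (spanFam (Steiner.blocks B)) ∧
      ∀ x, (x ∈ spanFam (Steiner.blocks B) ∧ x.card = 8) ↔ x ∈ B := by
  obtain ⟨p⟩ : Nonempty α := Fintype.card_pos_iff.1 (by omega)
  have hev : ∀ a ∈ Steiner.blocks B, ∀ b ∈ Steiner.blocks B, Even (a ∩ b).card := fun a ha b hb =>
    Steiner.even_inter_24 hα hB (Steiner.mem_blocks.1 ha) (Steiner.mem_blocks.1 hb)
  refine ⟨isGolayFamily_spanFam hα p hev
    (fun b hb => by rw [hB.1 b (Steiner.mem_blocks.1 hb)]; decide)
    (exists_rep_of_steiner24 hα hB p), fun x => ⟨fun ⟨hx, h8⟩ => ?_, fun hx => ?_⟩⟩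
  · exact Steiner.mem_of_even_inter hα hB h8 fun c hc =>
      spanFam_even hev hx (subset_spanFam _ (Steiner.mem_blocks.2 hc))
  · exact ⟨subset_spanFam _ (Steiner.mem_blocks.2 hx), hB.1 x hx⟩

/-- Every S(5,8,24) is a copy of the octads. -/
theorem steiner24_exists_equiv (hα : Fintype.card α = 24) {B : Set (Finset α)}
    (hB : IsSteinerSystem 5 8 B) :
    ∃ e : α ≃ GolayPt, (fun b : Finset α => b.image e) '' B = octads := by
  obtain ⟨hC, hiff⟩ := steiner24_family hα hB
  obtain ⟨e, he⟩ := hC.exists_equiv
  refine ⟨e, Set.ext fun o => ⟨?_, fun ho => ⟨o.image e.symm, ?_, ?_⟩⟩⟩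
  · rintro ⟨b, hb, rfl⟩
    exact ⟨(he b).1 ((hiff b).2 hb).1, by rw [card_image_of_injective _ e.injective, hB.1 b hb]⟩
  · refine (hiff _).1 ⟨(he _).2 ?_, by rw [card_image_of_injective _ e.symm.injective, ho.2]⟩
    rw [image_image, e.self_comp_symm, image_id]; exact ho.1
  · show (o.image e.symm).image e = o
    rw [image_image, e.self_comp_symm, image_id]

/-! ### S(4,7,23) -/

/-- A block extended by the new point. -/
def extend23 (b : Finset α) : Finset (Option α) := insertNone b

theorem card_extend23 (b : Finset α) : (extend23 b).card = b.card + 1 := card_insertNone b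

theorem steiner23_family (hα : Fintype.card α = 23) {B : Set (Finset α)}
    (hB : IsSteinerSystem 4 7 B) :
    IsGolayFamily (spanFam ((Steiner.blocks B).image extend23)) ∧
      ∀ x : Finset (Option α),
        (x ∈ spanFam ((Steiner.blocks B).image extend23) ∧ x.card = 8 ∧ none ∈ x) ↔
          ∃ b ∈ B, x = extend23 b := by
  have h24 : Fintype.card (Option α) = 24 := by rw [Fintype.card_option, hα]
  set E := (Steiner.blocks B).image extend23 with hE
  have hmemE : ∀ x, x ∈ E ↔ ∃ b ∈ B, x = extend23 b := fun x => by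
    simp [hE, Steiner.mem_blocks, eq_comm]
  have hev : ∀ a ∈ E, ∀ b ∈ E, Even (a ∩ b).card := by
    intro a ha b hb
    obtain ⟨a', ha', rfl⟩ := (hmemE _).1 ha
    obtain ⟨b', hb', rfl⟩ := (hmemE _).1 hb
    clear ha hb
    rename' a' => a, b' => b, ha' => ha, hb' => hb
    have : extend23 a ∩ extend23 b = extend23 (a ∩ b) := by
      ext (_ | x) <;> simp [extend23]
    rw [this, card_extend23, Nat.even_iff]
    by_cases h : a = b
    · rw [h, inter_self, hB.1 b hb]
    · rcases Steiner.inter_23 hα hB ha hb h with e | e <;> omega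
  have h4 : ∀ b ∈ E, 4 ∣ b.card := by
    intro a ha
    obtain ⟨a', ha', rfl⟩ := (hmemE _).1 ha
    rw [card_extend23, hB.1 a' ha']; decide
  have step : ∀ (x : Finset (Option α)) (s : Finset α), s.card = 4 → s.map Function.Embedding.some ⊆ x →
      ∃ b ∈ B, x ∆ extend23 b ⊆ x ∪ extend23 b ∧ (none ∈ x ∆ extend23 b ↔ none ∉ x) ∧
        (x ∆ extend23 b).card + (if none ∈ x then 10 else 8) ≤ x.card + 8 := by
    intro x s hs hsx
    obtain ⟨b, ⟨hb, hsb⟩, -⟩ := hB.2 s hs
    have hsb' : s.map Function.Embedding.some ⊆ extend23 b := fun y hy => by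
      obtain ⟨z, hz, rfl⟩ := mem_map.1 hy
      simpa [extend23] using hsb hz
    refine ⟨b, hb, symmDiff_le_sup, by simp [extend23, Finset.mem_symmDiff], ?_⟩
    split
    · rename_i h
      have := symmDiff_card_le (x := x) (b := extend23 b) (s := insert none (s.map Function.Embedding.some))
        (insert_subset_iff.2 ⟨h, hsx⟩) (insert_subset_iff.2 ⟨by simp [extend23], hsb'⟩)
      rw [card_insert_of_notMem (by simp), card_map, hs, card_extend23, hB.1 b hb] at this
      omega
    · have := symmDiff_card_le hsx hsb'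
      rw [card_map, hs, card_extend23, hB.1 b hb] at this
      omega
  have hred : ∀ x, ∃ r ∈ cosetReps (none : Option α), x ∆ r ∈ spanFam E := by
    intro x
    induction hn : 2 * x.card + (if none ∈ x then 0 else 1) using Nat.strong_induction_on
      generalizing x with
    | _ n ih =>
      by_cases hrep : x ∈ cosetReps (none : Option α)
      · exact ⟨x, hrep, by rw [symmDiff_self]; exact empty_mem_spanFam _⟩
      rw [mem_cosetReps] at hrep
      push Not at hrep
      have hcard : 4 ≤ (x.eraseNone).card := by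
        have h1 := hrep.1
        by_cases h : none ∈ x
        · rw [card_eraseNone_of_mem h]
          have : x.card ≠ 4 := fun e => hrep.2 e h
          omega
        · rw [card_eraseNone_of_not_mem h]
          omega
      obtain ⟨s, hs, hs4⟩ := exists_subset_card_eq hcard
      obtain ⟨b, hb, -, hnone, hle⟩ := step x s hs4 fun y hy => by
        obtain ⟨z, hz, rfl⟩ := mem_map.1 hy
        exact mem_eraseNone.1 (hs hz)
      obtain ⟨r, hr, h⟩ := ih _ (by
        rw [← hn]
        by_cases h : none ∈ x <;> simp only [h, hnone, if_true, if_false, not_true_eq_false,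
          not_false_eq_true] at hle ⊢ <;> omega) (x ∆ extend23 b) rfl
      refine ⟨r, hr, ?_⟩
      have := symmDiff_mem_spanFam h (subset_spanFam E ((hmemE _).2 ⟨b, hb, rfl⟩))
      rwa [symmDiff_assoc, symmDiff_comm r, ← symmDiff_assoc,
        symmDiff_symmDiff_cancel_right] at this
  have hC := isGolayFamily_spanFam h24 none hev h4 hred
  refine ⟨hC, fun x => ⟨fun ⟨hx, h8, hn⟩ => ?_, ?_⟩⟩
  · have hcard : 4 ≤ (x.eraseNone).card := by rw [card_eraseNone_of_mem hn, h8]; norm_num
    obtain ⟨s, hs, hs4⟩ := exists_subset_card_eq hcard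
    obtain ⟨b, hb, -, -, hle⟩ := step x s hs4 fun y hy => by
      obtain ⟨z, hz, rfl⟩ := mem_map.1 hy
      exact mem_eraseNone.1 (hs hz)
    rw [if_pos hn, h8] at hle
    have hmem := symmDiff_mem_spanFam hx (subset_spanFam E ((hmemE _).2 ⟨b, hb, rfl⟩))
    refine ⟨b, hb, symmDiff_eq_bot.1 (card_eq_zero.1 ?_)⟩
    rcases hC.card_values hmem with e | e | e | e | e <;> omega
  · rintro ⟨b, hb, rfl⟩
    exact ⟨subset_spanFam E ((hmemE _).2 ⟨b, hb, rfl⟩), by rw [card_extend23, hB.1 b hb],
      by simp [extend23]⟩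

/-- Every S(4,7,23) is a copy of the octads through the extra point, that point removed. -/
theorem steiner23_exists_equiv (hα : Fintype.card α = 23) {B : Set (Finset α)}
    (hB : IsSteinerSystem 4 7 B) :
    ∃ e : α ≃ ZMod 23, (fun b : Finset α => b.image e) '' B =
      {h : Finset (ZMod 23) | insertNone h ∈ octads} := by
  obtain ⟨hC, hiff⟩ := steiner23_family hα hB
  obtain ⟨e, he⟩ := hC.exists_equiv
  have := M24_isPretransitive
  obtain ⟨g, hg⟩ := MulAction.exists_smul_eq M24 (e none) (none : GolayPt)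
  let e' : Option α ≃ GolayPt := e.trans g.1
  have hnone : e' none = none := hg
  have hsup : ∀ x : Finset (Option α), x ∈ spanFam ((Steiner.blocks B).image extend23) ↔
      x.image e' ∈ supports (golayCode : Set (GolayPt → ZMod 2)) := fun x => by
    rw [he x, show x.image e' = (x.image e).image g.1 by rw [image_image]; rfl]
    refine ⟨fun h => setSystemAut_image_mem g.2 h, fun h => ?_⟩
    have := setSystemAut_image_mem (inv_mem g.2) h
    rwa [image_image, show (⇑(g.1)⁻¹ ∘ ⇑g.1) = id from funext fun p => perm_inv_apply _ p,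
      image_id] at this
  let f : α ≃ ZMod 23 := Equiv.removeNone e'
  have hf : ∀ b : Finset α, (extend23 b).image e' = insertNone (b.image f) := by
    intro b
    have hs : ∀ a, e' (some a) = some (f a) := fun a => by
      refine (Equiv.removeNone_some e' ?_).symm
      rcases hx : e' (some a) with _ | y
      · exact absurd (e'.injective (hx.trans hnone.symm)) (by simp)
      · exact ⟨y, rfl⟩
    ext (_ | y)
    · simp only [mem_image, mem_insertNone, extend23]
      exact iff_of_true ⟨none, by simp, hnone⟩ (by simp)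
    · simp only [mem_image, mem_insertNone, extend23, Option.mem_def, Option.some.injEq, forall_eq']
      constructor
      · rintro ⟨z, hz, hy⟩
        rcases z with _ | a
        · rw [hnone] at hy; exact absurd hy (by simp)
        · exact ⟨a, hz a rfl, by rw [hs] at hy; exact Option.some.inj hy⟩
      · rintro ⟨a, ha, rfl⟩
        exact ⟨some a, fun x hx => by rwa [← Option.some.inj hx], hs a⟩
  refine ⟨f, Set.ext fun h => ⟨?_, fun hh => ⟨h.image f.symm, ?_, ?_⟩⟩⟩
  · rintro ⟨b, hb, rfl⟩
    obtain ⟨h1, h2, -⟩ := (hiff (extend23 b)).2 ⟨b, hb, rfl⟩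
    show insertNone (b.image f) ∈ octads
    rw [← hf]
    exact ⟨(hsup _).1 h1, by rw [card_image_of_injective _ e'.injective, h2]⟩
  · have himg : (extend23 (h.image f.symm)).image e' = insertNone h := by
      rw [hf, image_image, f.self_comp_symm, image_id]
    obtain ⟨b, hb, hbe⟩ := (hiff (extend23 (h.image f.symm))).1
      ⟨(hsup _).2 (by rw [himg]; exact hh.1),
        by rw [← card_image_of_injective _ e'.injective, himg, hh.2], by simp [extend23]⟩
    have : h.image f.symm = b := by
      have := congrArg eraseNone hbe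
      simpa [extend23] using this
    rwa [this]
  · show (h.image f.symm).image f = h
    rw [image_image, f.self_comp_symm, image_id]

theorem setSystemIso_of_common {α β γ : Type*} [DecidableEq α] [DecidableEq β] [DecidableEq γ]
    {B : Set (Finset α)} {B' : Set (Finset β)} {S : Set (Finset γ)} (e : α ≃ γ) (e' : β ≃ γ)
    (he : (fun b : Finset α => b.image e) '' B = S) (he' : (fun b : Finset β => b.image e') '' B' = S) :
    SetSystemIso B B' := by
  refine ⟨e.trans e'.symm, ?_⟩
  have h : (fun b : Finset α => b.image (e.trans e'.symm)) =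
      fun b => (b.image e).image e'.symm := funext fun b => by rw [image_image]; rfl
  rw [h, ← Set.image_image (fun b : Finset γ => b.image e'.symm) (fun b : Finset α => b.image e), he,
    ← he', Set.image_image]
  simp [image_image]

end CfsgLib.Mathieu
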